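import Cfsg.Agent.Lib.ToddCox.A82T.Data0
set_option autoImplicit false
set_option maxRecDepth 100000
namespace Cfsg.Agent.Lib.ToddCox.A82T
def eT_1_3 (j : ℕ) : ℕ := bif Nat.blt j 2 then E_1 else E_2
def eT_0_3 (j : ℕ) : ℕ := bif Nat.blt j 1 then E_0 else (eT_1_3 j)
def eT_3_5 (j : ℕ) : ℕ := bif Nat.blt j 4 then E_3 else E_4
def eT_5_7 (j : ℕ) : ℕ := bif Nat.blt j 6 then E_5 else E_6
def eT_3_7 (j : ℕ) : ℕ := bif Nat.blt j 5 then (eT_3_5 j) else (eT_5_7 j)
def eT_0_7 (j : ℕ) : ℕ := bif Nat.blt j 3 then (eT_0_3 j) else (eT_3_7 j)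
def eT_7_9 (j : ℕ) : ℕ := bif Nat.blt j 8 then E_7 else E_8
def eT_9_11 (j : ℕ) : ℕ := bif Nat.blt j 10 then E_9 else E_10
def eT_7_11 (j : ℕ) : ℕ := bif Nat.blt j 9 then (eT_7_9 j) else (eT_9_11 j)
def eT_11_13 (j : ℕ) : ℕ := bif Nat.blt j 12 then E_11 else E_12
def eT_13_15 (j : ℕ) : ℕ := bif Nat.blt j 14 then E_13 else E_14
def eT_11_15 (j : ℕ) : ℕ := bif Nat.blt j 13 then (eT_11_13 j) else (eT_13_15 j)
def eT_7_15 (j : ℕ) : ℕ := bif Nat.blt j 11 then (eT_7_11 j) else (eT_11_15 j)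
def eT_0_15 (j : ℕ) : ℕ := bif Nat.blt j 7 then (eT_0_7 j) else (eT_7_15 j)
def eT_16_18 (j : ℕ) : ℕ := bif Nat.blt j 17 then E_16 else E_17
def eT_15_18 (j : ℕ) : ℕ := bif Nat.blt j 16 then E_15 else (eT_16_18 j)
def eT_18_20 (j : ℕ) : ℕ := bif Nat.blt j 19 then E_18 else E_19
def eT_20_22 (j : ℕ) : ℕ := bif Nat.blt j 21 then E_20 else E_21
def eT_18_22 (j : ℕ) : ℕ := bif Nat.blt j 20 then (eT_18_20 j) else (eT_20_22 j)
def eT_15_22 (j : ℕ) : ℕ := bif Nat.blt j 18 then (eT_15_18 j) else (eT_18_22 j)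
def eT_22_24 (j : ℕ) : ℕ := bif Nat.blt j 23 then E_22 else E_23
def eT_24_26 (j : ℕ) : ℕ := bif Nat.blt j 25 then E_24 else E_25
def eT_22_26 (j : ℕ) : ℕ := bif Nat.blt j 24 then (eT_22_24 j) else (eT_24_26 j)
def eT_26_28 (j : ℕ) : ℕ := bif Nat.blt j 27 then E_26 else E_27
def eT_28_30 (j : ℕ) : ℕ := bif Nat.blt j 29 then E_28 else E_29
def eT_26_30 (j : ℕ) : ℕ := bif Nat.blt j 28 then (eT_26_28 j) else (eT_28_30 j)
def eT_22_30 (j : ℕ) : ℕ := bif Nat.blt j 26 then (eT_22_26 j) else (eT_26_30 j)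
def eT_15_30 (j : ℕ) : ℕ := bif Nat.blt j 22 then (eT_15_22 j) else (eT_22_30 j)
def eT_0_30 (j : ℕ) : ℕ := bif Nat.blt j 15 then (eT_0_15 j) else (eT_15_30 j)
def eT_31_33 (j : ℕ) : ℕ := bif Nat.blt j 32 then E_31 else E_32
def eT_30_33 (j : ℕ) : ℕ := bif Nat.blt j 31 then E_30 else (eT_31_33 j)
def eT_33_35 (j : ℕ) : ℕ := bif Nat.blt j 34 then E_33 else E_34
def eT_35_37 (j : ℕ) : ℕ := bif Nat.blt j 36 then E_35 else E_36
def eT_33_37 (j : ℕ) : ℕ := bif Nat.blt j 35 then (eT_33_35 j) else (eT_35_37 j)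
def eT_30_37 (j : ℕ) : ℕ := bif Nat.blt j 33 then (eT_30_33 j) else (eT_33_37 j)
def eT_37_39 (j : ℕ) : ℕ := bif Nat.blt j 38 then E_37 else E_38
def eT_39_41 (j : ℕ) : ℕ := bif Nat.blt j 40 then E_39 else E_40
def eT_37_41 (j : ℕ) : ℕ := bif Nat.blt j 39 then (eT_37_39 j) else (eT_39_41 j)
def eT_41_43 (j : ℕ) : ℕ := bif Nat.blt j 42 then E_41 else E_42
def eT_43_45 (j : ℕ) : ℕ := bif Nat.blt j 44 then E_43 else E_44
def eT_41_45 (j : ℕ) : ℕ := bif Nat.blt j 43 then (eT_41_43 j) else (eT_43_45 j)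
def eT_37_45 (j : ℕ) : ℕ := bif Nat.blt j 41 then (eT_37_41 j) else (eT_41_45 j)
def eT_30_45 (j : ℕ) : ℕ := bif Nat.blt j 37 then (eT_30_37 j) else (eT_37_45 j)
def eT_45_47 (j : ℕ) : ℕ := bif Nat.blt j 46 then E_45 else E_46
def eT_47_49 (j : ℕ) : ℕ := bif Nat.blt j 48 then E_47 else E_48
def eT_45_49 (j : ℕ) : ℕ := bif Nat.blt j 47 then (eT_45_47 j) else (eT_47_49 j)
def eT_49_51 (j : ℕ) : ℕ := bif Nat.blt j 50 then E_49 else E_50
def eT_51_53 (j : ℕ) : ℕ := bif Nat.blt j 52 then E_51 else E_52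
def eT_49_53 (j : ℕ) : ℕ := bif Nat.blt j 51 then (eT_49_51 j) else (eT_51_53 j)
def eT_45_53 (j : ℕ) : ℕ := bif Nat.blt j 49 then (eT_45_49 j) else (eT_49_53 j)
def eT_53_55 (j : ℕ) : ℕ := bif Nat.blt j 54 then E_53 else E_54
def eT_55_57 (j : ℕ) : ℕ := bif Nat.blt j 56 then E_55 else E_56
def eT_53_57 (j : ℕ) : ℕ := bif Nat.blt j 55 then (eT_53_55 j) else (eT_55_57 j)
def eT_57_59 (j : ℕ) : ℕ := bif Nat.blt j 58 then E_57 else E_58
def eT_59_61 (j : ℕ) : ℕ := bif Nat.blt j 60 then E_59 else E_60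
def eT_57_61 (j : ℕ) : ℕ := bif Nat.blt j 59 then (eT_57_59 j) else (eT_59_61 j)
def eT_53_61 (j : ℕ) : ℕ := bif Nat.blt j 57 then (eT_53_57 j) else (eT_57_61 j)
def eT_45_61 (j : ℕ) : ℕ := bif Nat.blt j 53 then (eT_45_53 j) else (eT_53_61 j)
def eT_30_61 (j : ℕ) : ℕ := bif Nat.blt j 45 then (eT_30_45 j) else (eT_45_61 j)
def eT_0_61 (j : ℕ) : ℕ := bif Nat.blt j 30 then (eT_0_30 j) else (eT_30_61 j)
def eT_62_64 (j : ℕ) : ℕ := bif Nat.blt j 63 then E_62 else E_63
def eT_61_64 (j : ℕ) : ℕ := bif Nat.blt j 62 then E_61 else (eT_62_64 j)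
def eT_64_66 (j : ℕ) : ℕ := bif Nat.blt j 65 then E_64 else E_65
def eT_66_68 (j : ℕ) : ℕ := bif Nat.blt j 67 then E_66 else E_67
def eT_64_68 (j : ℕ) : ℕ := bif Nat.blt j 66 then (eT_64_66 j) else (eT_66_68 j)
def eT_61_68 (j : ℕ) : ℕ := bif Nat.blt j 64 then (eT_61_64 j) else (eT_64_68 j)
def eT_68_70 (j : ℕ) : ℕ := bif Nat.blt j 69 then E_68 else E_69
def eT_70_72 (j : ℕ) : ℕ := bif Nat.blt j 71 then E_70 else E_71
def eT_68_72 (j : ℕ) : ℕ := bif Nat.blt j 70 then (eT_68_70 j) else (eT_70_72 j)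
def eT_72_74 (j : ℕ) : ℕ := bif Nat.blt j 73 then E_72 else E_73
def eT_74_76 (j : ℕ) : ℕ := bif Nat.blt j 75 then E_74 else E_75
def eT_72_76 (j : ℕ) : ℕ := bif Nat.blt j 74 then (eT_72_74 j) else (eT_74_76 j)
def eT_68_76 (j : ℕ) : ℕ := bif Nat.blt j 72 then (eT_68_72 j) else (eT_72_76 j)
def eT_61_76 (j : ℕ) : ℕ := bif Nat.blt j 68 then (eT_61_68 j) else (eT_68_76 j)
def eT_77_79 (j : ℕ) : ℕ := bif Nat.blt j 78 then E_77 else E_78
def eT_76_79 (j : ℕ) : ℕ := bif Nat.blt j 77 then E_76 else (eT_77_79 j)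
def eT_79_81 (j : ℕ) : ℕ := bif Nat.blt j 80 then E_79 else E_80
def eT_81_83 (j : ℕ) : ℕ := bif Nat.blt j 82 then E_81 else E_82
def eT_79_83 (j : ℕ) : ℕ := bif Nat.blt j 81 then (eT_79_81 j) else (eT_81_83 j)
def eT_76_83 (j : ℕ) : ℕ := bif Nat.blt j 79 then (eT_76_79 j) else (eT_79_83 j)
def eT_83_85 (j : ℕ) : ℕ := bif Nat.blt j 84 then E_83 else E_84
def eT_85_87 (j : ℕ) : ℕ := bif Nat.blt j 86 then E_85 else E_86
def eT_83_87 (j : ℕ) : ℕ := bif Nat.blt j 85 then (eT_83_85 j) else (eT_85_87 j)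
def eT_87_89 (j : ℕ) : ℕ := bif Nat.blt j 88 then E_87 else E_88
def eT_89_91 (j : ℕ) : ℕ := bif Nat.blt j 90 then E_89 else E_90
def eT_87_91 (j : ℕ) : ℕ := bif Nat.blt j 89 then (eT_87_89 j) else (eT_89_91 j)
def eT_83_91 (j : ℕ) : ℕ := bif Nat.blt j 87 then (eT_83_87 j) else (eT_87_91 j)
def eT_76_91 (j : ℕ) : ℕ := bif Nat.blt j 83 then (eT_76_83 j) else (eT_83_91 j)
def eT_61_91 (j : ℕ) : ℕ := bif Nat.blt j 76 then (eT_61_76 j) else (eT_76_91 j)
def eT_92_94 (j : ℕ) : ℕ := bif Nat.blt j 93 then E_92 else E_93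
def eT_91_94 (j : ℕ) : ℕ := bif Nat.blt j 92 then E_91 else (eT_92_94 j)
def eT_94_96 (j : ℕ) : ℕ := bif Nat.blt j 95 then E_94 else E_95
def eT_96_98 (j : ℕ) : ℕ := bif Nat.blt j 97 then E_96 else E_97
def eT_94_98 (j : ℕ) : ℕ := bif Nat.blt j 96 then (eT_94_96 j) else (eT_96_98 j)
def eT_91_98 (j : ℕ) : ℕ := bif Nat.blt j 94 then (eT_91_94 j) else (eT_94_98 j)
def eT_98_100 (j : ℕ) : ℕ := bif Nat.blt j 99 then E_98 else E_99
def eT_100_102 (j : ℕ) : ℕ := bif Nat.blt j 101 then E_100 else E_101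
def eT_98_102 (j : ℕ) : ℕ := bif Nat.blt j 100 then (eT_98_100 j) else (eT_100_102 j)
def eT_102_104 (j : ℕ) : ℕ := bif Nat.blt j 103 then E_102 else E_103
def eT_104_106 (j : ℕ) : ℕ := bif Nat.blt j 105 then E_104 else E_105
def eT_102_106 (j : ℕ) : ℕ := bif Nat.blt j 104 then (eT_102_104 j) else (eT_104_106 j)
def eT_98_106 (j : ℕ) : ℕ := bif Nat.blt j 102 then (eT_98_102 j) else (eT_102_106 j)
def eT_91_106 (j : ℕ) : ℕ := bif Nat.blt j 98 then (eT_91_98 j) else (eT_98_106 j)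
def eT_106_108 (j : ℕ) : ℕ := bif Nat.blt j 107 then E_106 else E_107
def eT_108_110 (j : ℕ) : ℕ := bif Nat.blt j 109 then E_108 else E_109
def eT_106_110 (j : ℕ) : ℕ := bif Nat.blt j 108 then (eT_106_108 j) else (eT_108_110 j)
def eT_110_112 (j : ℕ) : ℕ := bif Nat.blt j 111 then E_110 else E_111
def eT_112_114 (j : ℕ) : ℕ := bif Nat.blt j 113 then E_112 else E_113
def eT_110_114 (j : ℕ) : ℕ := bif Nat.blt j 112 then (eT_110_112 j) else (eT_112_114 j)
def eT_106_114 (j : ℕ) : ℕ := bif Nat.blt j 110 then (eT_106_110 j) else (eT_110_114 j)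
def eT_114_116 (j : ℕ) : ℕ := bif Nat.blt j 115 then E_114 else E_115
def eT_116_118 (j : ℕ) : ℕ := bif Nat.blt j 117 then E_116 else E_117
def eT_114_118 (j : ℕ) : ℕ := bif Nat.blt j 116 then (eT_114_116 j) else (eT_116_118 j)
def eT_118_120 (j : ℕ) : ℕ := bif Nat.blt j 119 then E_118 else E_119
def eT_120_122 (j : ℕ) : ℕ := bif Nat.blt j 121 then E_120 else E_121
def eT_118_122 (j : ℕ) : ℕ := bif Nat.blt j 120 then (eT_118_120 j) else (eT_120_122 j)
def eT_114_122 (j : ℕ) : ℕ := bif Nat.blt j 118 then (eT_114_118 j) else (eT_118_122 j)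
def eT_106_122 (j : ℕ) : ℕ := bif Nat.blt j 114 then (eT_106_114 j) else (eT_114_122 j)
def eT_91_122 (j : ℕ) : ℕ := bif Nat.blt j 106 then (eT_91_106 j) else (eT_106_122 j)
def eT_61_122 (j : ℕ) : ℕ := bif Nat.blt j 91 then (eT_61_91 j) else (eT_91_122 j)
def eT_0_122 (j : ℕ) : ℕ := bif Nat.blt j 61 then (eT_0_61 j) else (eT_61_122 j)
def eT_123_125 (j : ℕ) : ℕ := bif Nat.blt j 124 then E_123 else E_124
def eT_122_125 (j : ℕ) : ℕ := bif Nat.blt j 123 then E_122 else (eT_123_125 j)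
def eT_125_127 (j : ℕ) : ℕ := bif Nat.blt j 126 then E_125 else E_126
def eT_127_129 (j : ℕ) : ℕ := bif Nat.blt j 128 then E_127 else E_128
def eT_125_129 (j : ℕ) : ℕ := bif Nat.blt j 127 then (eT_125_127 j) else (eT_127_129 j)
def eT_122_129 (j : ℕ) : ℕ := bif Nat.blt j 125 then (eT_122_125 j) else (eT_125_129 j)
def eT_129_131 (j : ℕ) : ℕ := bif Nat.blt j 130 then E_129 else E_130
def eT_131_133 (j : ℕ) : ℕ := bif Nat.blt j 132 then E_131 else E_132
def eT_129_133 (j : ℕ) : ℕ := bif Nat.blt j 131 then (eT_129_131 j) else (eT_131_133 j)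
def eT_133_135 (j : ℕ) : ℕ := bif Nat.blt j 134 then E_133 else E_134
def eT_135_137 (j : ℕ) : ℕ := bif Nat.blt j 136 then E_135 else E_136
def eT_133_137 (j : ℕ) : ℕ := bif Nat.blt j 135 then (eT_133_135 j) else (eT_135_137 j)
def eT_129_137 (j : ℕ) : ℕ := bif Nat.blt j 133 then (eT_129_133 j) else (eT_133_137 j)
def eT_122_137 (j : ℕ) : ℕ := bif Nat.blt j 129 then (eT_122_129 j) else (eT_129_137 j)
def eT_138_140 (j : ℕ) : ℕ := bif Nat.blt j 139 then E_138 else E_139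
def eT_137_140 (j : ℕ) : ℕ := bif Nat.blt j 138 then E_137 else (eT_138_140 j)
def eT_140_142 (j : ℕ) : ℕ := bif Nat.blt j 141 then E_140 else E_141
def eT_142_144 (j : ℕ) : ℕ := bif Nat.blt j 143 then E_142 else E_143
def eT_140_144 (j : ℕ) : ℕ := bif Nat.blt j 142 then (eT_140_142 j) else (eT_142_144 j)
def eT_137_144 (j : ℕ) : ℕ := bif Nat.blt j 140 then (eT_137_140 j) else (eT_140_144 j)
def eT_144_146 (j : ℕ) : ℕ := bif Nat.blt j 145 then E_144 else E_145
def eT_146_148 (j : ℕ) : ℕ := bif Nat.blt j 147 then E_146 else E_147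
def eT_144_148 (j : ℕ) : ℕ := bif Nat.blt j 146 then (eT_144_146 j) else (eT_146_148 j)
def eT_148_150 (j : ℕ) : ℕ := bif Nat.blt j 149 then E_148 else E_149
def eT_150_152 (j : ℕ) : ℕ := bif Nat.blt j 151 then E_150 else E_151
def eT_148_152 (j : ℕ) : ℕ := bif Nat.blt j 150 then (eT_148_150 j) else (eT_150_152 j)
def eT_144_152 (j : ℕ) : ℕ := bif Nat.blt j 148 then (eT_144_148 j) else (eT_148_152 j)
def eT_137_152 (j : ℕ) : ℕ := bif Nat.blt j 144 then (eT_137_144 j) else (eT_144_152 j)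
def eT_122_152 (j : ℕ) : ℕ := bif Nat.blt j 137 then (eT_122_137 j) else (eT_137_152 j)
def eT_153_155 (j : ℕ) : ℕ := bif Nat.blt j 154 then E_153 else E_154
def eT_152_155 (j : ℕ) : ℕ := bif Nat.blt j 153 then E_152 else (eT_153_155 j)
def eT_155_157 (j : ℕ) : ℕ := bif Nat.blt j 156 then E_155 else E_156
def eT_157_159 (j : ℕ) : ℕ := bif Nat.blt j 158 then E_157 else E_158
def eT_155_159 (j : ℕ) : ℕ := bif Nat.blt j 157 then (eT_155_157 j) else (eT_157_159 j)
def eT_152_159 (j : ℕ) : ℕ := bif Nat.blt j 155 then (eT_152_155 j) else (eT_155_159 j)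
def eT_159_161 (j : ℕ) : ℕ := bif Nat.blt j 160 then E_159 else E_160
def eT_161_163 (j : ℕ) : ℕ := bif Nat.blt j 162 then E_161 else E_162
def eT_159_163 (j : ℕ) : ℕ := bif Nat.blt j 161 then (eT_159_161 j) else (eT_161_163 j)
def eT_163_165 (j : ℕ) : ℕ := bif Nat.blt j 164 then E_163 else E_164
def eT_165_167 (j : ℕ) : ℕ := bif Nat.blt j 166 then E_165 else E_166
def eT_163_167 (j : ℕ) : ℕ := bif Nat.blt j 165 then (eT_163_165 j) else (eT_165_167 j)
def eT_159_167 (j : ℕ) : ℕ := bif Nat.blt j 163 then (eT_159_163 j) else (eT_163_167 j)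
def eT_152_167 (j : ℕ) : ℕ := bif Nat.blt j 159 then (eT_152_159 j) else (eT_159_167 j)
def eT_167_169 (j : ℕ) : ℕ := bif Nat.blt j 168 then E_167 else E_168
def eT_169_171 (j : ℕ) : ℕ := bif Nat.blt j 170 then E_169 else E_170
def eT_167_171 (j : ℕ) : ℕ := bif Nat.blt j 169 then (eT_167_169 j) else (eT_169_171 j)
def eT_171_173 (j : ℕ) : ℕ := bif Nat.blt j 172 then E_171 else E_172
def eT_173_175 (j : ℕ) : ℕ := bif Nat.blt j 174 then E_173 else E_174
def eT_171_175 (j : ℕ) : ℕ := bif Nat.blt j 173 then (eT_171_173 j) else (eT_173_175 j)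
def eT_167_175 (j : ℕ) : ℕ := bif Nat.blt j 171 then (eT_167_171 j) else (eT_171_175 j)
def eT_175_177 (j : ℕ) : ℕ := bif Nat.blt j 176 then E_175 else E_176
def eT_177_179 (j : ℕ) : ℕ := bif Nat.blt j 178 then E_177 else E_178
def eT_175_179 (j : ℕ) : ℕ := bif Nat.blt j 177 then (eT_175_177 j) else (eT_177_179 j)
def eT_179_181 (j : ℕ) : ℕ := bif Nat.blt j 180 then E_179 else E_180
def eT_181_183 (j : ℕ) : ℕ := bif Nat.blt j 182 then E_181 else E_182
def eT_179_183 (j : ℕ) : ℕ := bif Nat.blt j 181 then (eT_179_181 j) else (eT_181_183 j)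
def eT_175_183 (j : ℕ) : ℕ := bif Nat.blt j 179 then (eT_175_179 j) else (eT_179_183 j)
def eT_167_183 (j : ℕ) : ℕ := bif Nat.blt j 175 then (eT_167_175 j) else (eT_175_183 j)
def eT_152_183 (j : ℕ) : ℕ := bif Nat.blt j 167 then (eT_152_167 j) else (eT_167_183 j)
def eT_122_183 (j : ℕ) : ℕ := bif Nat.blt j 152 then (eT_122_152 j) else (eT_152_183 j)
def eT_184_186 (j : ℕ) : ℕ := bif Nat.blt j 185 then E_184 else E_185
def eT_183_186 (j : ℕ) : ℕ := bif Nat.blt j 184 then E_183 else (eT_184_186 j)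
def eT_186_188 (j : ℕ) : ℕ := bif Nat.blt j 187 then E_186 else E_187
def eT_188_190 (j : ℕ) : ℕ := bif Nat.blt j 189 then E_188 else E_189
def eT_186_190 (j : ℕ) : ℕ := bif Nat.blt j 188 then (eT_186_188 j) else (eT_188_190 j)
def eT_183_190 (j : ℕ) : ℕ := bif Nat.blt j 186 then (eT_183_186 j) else (eT_186_190 j)
def eT_190_192 (j : ℕ) : ℕ := bif Nat.blt j 191 then E_190 else E_191
def eT_192_194 (j : ℕ) : ℕ := bif Nat.blt j 193 then E_192 else E_193
def eT_190_194 (j : ℕ) : ℕ := bif Nat.blt j 192 then (eT_190_192 j) else (eT_192_194 j)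
def eT_194_196 (j : ℕ) : ℕ := bif Nat.blt j 195 then E_194 else E_195
def eT_196_198 (j : ℕ) : ℕ := bif Nat.blt j 197 then E_196 else E_197
def eT_194_198 (j : ℕ) : ℕ := bif Nat.blt j 196 then (eT_194_196 j) else (eT_196_198 j)
def eT_190_198 (j : ℕ) : ℕ := bif Nat.blt j 194 then (eT_190_194 j) else (eT_194_198 j)
def eT_183_198 (j : ℕ) : ℕ := bif Nat.blt j 190 then (eT_183_190 j) else (eT_190_198 j)
def eT_198_200 (j : ℕ) : ℕ := bif Nat.blt j 199 then E_198 else E_199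
def eT_200_202 (j : ℕ) : ℕ := bif Nat.blt j 201 then E_200 else E_201
def eT_198_202 (j : ℕ) : ℕ := bif Nat.blt j 200 then (eT_198_200 j) else (eT_200_202 j)
def eT_202_204 (j : ℕ) : ℕ := bif Nat.blt j 203 then E_202 else E_203
def eT_204_206 (j : ℕ) : ℕ := bif Nat.blt j 205 then E_204 else E_205
def eT_202_206 (j : ℕ) : ℕ := bif Nat.blt j 204 then (eT_202_204 j) else (eT_204_206 j)
def eT_198_206 (j : ℕ) : ℕ := bif Nat.blt j 202 then (eT_198_202 j) else (eT_202_206 j)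
def eT_206_208 (j : ℕ) : ℕ := bif Nat.blt j 207 then E_206 else E_207
def eT_208_210 (j : ℕ) : ℕ := bif Nat.blt j 209 then E_208 else E_209
def eT_206_210 (j : ℕ) : ℕ := bif Nat.blt j 208 then (eT_206_208 j) else (eT_208_210 j)
def eT_210_212 (j : ℕ) : ℕ := bif Nat.blt j 211 then E_210 else E_211
def eT_212_214 (j : ℕ) : ℕ := bif Nat.blt j 213 then E_212 else E_213
def eT_210_214 (j : ℕ) : ℕ := bif Nat.blt j 212 then (eT_210_212 j) else (eT_212_214 j)
def eT_206_214 (j : ℕ) : ℕ := bif Nat.blt j 210 then (eT_206_210 j) else (eT_210_214 j)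
def eT_198_214 (j : ℕ) : ℕ := bif Nat.blt j 206 then (eT_198_206 j) else (eT_206_214 j)
def eT_183_214 (j : ℕ) : ℕ := bif Nat.blt j 198 then (eT_183_198 j) else (eT_198_214 j)
def eT_215_217 (j : ℕ) : ℕ := bif Nat.blt j 216 then E_215 else E_216
def eT_214_217 (j : ℕ) : ℕ := bif Nat.blt j 215 then E_214 else (eT_215_217 j)
def eT_217_219 (j : ℕ) : ℕ := bif Nat.blt j 218 then E_217 else E_218
def eT_219_221 (j : ℕ) : ℕ := bif Nat.blt j 220 then E_219 else E_220
def eT_217_221 (j : ℕ) : ℕ := bif Nat.blt j 219 then (eT_217_219 j) else (eT_219_221 j)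
def eT_214_221 (j : ℕ) : ℕ := bif Nat.blt j 217 then (eT_214_217 j) else (eT_217_221 j)
def eT_221_223 (j : ℕ) : ℕ := bif Nat.blt j 222 then E_221 else E_222
def eT_223_225 (j : ℕ) : ℕ := bif Nat.blt j 224 then E_223 else E_224
def eT_221_225 (j : ℕ) : ℕ := bif Nat.blt j 223 then (eT_221_223 j) else (eT_223_225 j)
def eT_225_227 (j : ℕ) : ℕ := bif Nat.blt j 226 then E_225 else E_226
def eT_227_229 (j : ℕ) : ℕ := bif Nat.blt j 228 then E_227 else E_228
def eT_225_229 (j : ℕ) : ℕ := bif Nat.blt j 227 then (eT_225_227 j) else (eT_227_229 j)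
def eT_221_229 (j : ℕ) : ℕ := bif Nat.blt j 225 then (eT_221_225 j) else (eT_225_229 j)
def eT_214_229 (j : ℕ) : ℕ := bif Nat.blt j 221 then (eT_214_221 j) else (eT_221_229 j)
def eT_229_231 (j : ℕ) : ℕ := bif Nat.blt j 230 then E_229 else E_230
def eT_231_233 (j : ℕ) : ℕ := bif Nat.blt j 232 then E_231 else E_232
def eT_229_233 (j : ℕ) : ℕ := bif Nat.blt j 231 then (eT_229_231 j) else (eT_231_233 j)
def eT_233_235 (j : ℕ) : ℕ := bif Nat.blt j 234 then E_233 else E_234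
def eT_235_237 (j : ℕ) : ℕ := bif Nat.blt j 236 then E_235 else E_236
def eT_233_237 (j : ℕ) : ℕ := bif Nat.blt j 235 then (eT_233_235 j) else (eT_235_237 j)
def eT_229_237 (j : ℕ) : ℕ := bif Nat.blt j 233 then (eT_229_233 j) else (eT_233_237 j)
def eT_237_239 (j : ℕ) : ℕ := bif Nat.blt j 238 then E_237 else E_238
def eT_239_241 (j : ℕ) : ℕ := bif Nat.blt j 240 then E_239 else E_240
def eT_237_241 (j : ℕ) : ℕ := bif Nat.blt j 239 then (eT_237_239 j) else (eT_239_241 j)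
def eT_241_243 (j : ℕ) : ℕ := bif Nat.blt j 242 then E_241 else E_242
def eT_243_245 (j : ℕ) : ℕ := bif Nat.blt j 244 then E_243 else E_244
def eT_241_245 (j : ℕ) : ℕ := bif Nat.blt j 243 then (eT_241_243 j) else (eT_243_245 j)
def eT_237_245 (j : ℕ) : ℕ := bif Nat.blt j 241 then (eT_237_241 j) else (eT_241_245 j)
def eT_229_245 (j : ℕ) : ℕ := bif Nat.blt j 237 then (eT_229_237 j) else (eT_237_245 j)
def eT_214_245 (j : ℕ) : ℕ := bif Nat.blt j 229 then (eT_214_229 j) else (eT_229_245 j)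
def eT_183_245 (j : ℕ) : ℕ := bif Nat.blt j 214 then (eT_183_214 j) else (eT_214_245 j)
def eT_122_245 (j : ℕ) : ℕ := bif Nat.blt j 183 then (eT_122_183 j) else (eT_183_245 j)
def eT_0_245 (j : ℕ) : ℕ := bif Nat.blt j 122 then (eT_0_122 j) else (eT_122_245 j)
def eT (j : ℕ) : ℕ := (eT_0_245 j)
noncomputable def chunkF (h : ℕ) : ℕ := Nat.rec (motive := fun _ => ℕ) (eT 0) (fun n _ => eT (Nat.succ n)) h
noncomputable def Eo (r : ℕ) : ℕ := Nat.land (Nat.shiftRight (chunkF (Nat.shiftRight r 8)) (Nat.mul (Nat.land r 255) 54)) 18014398509481983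
def invT : ℕ := 0xffef7cefae78df6d74cf2c70beeb6caeaa689e69648e28607de75c6da6585d65544d24503ce34c2ca2481c61440c2040
def inv (y : ℕ) : ℕ := invOf invT y
def Wt_0_2 (j : ℕ) : List ℕ := bif Nat.blt j 1 then [nat_lit 1, nat_lit 2, nat_lit 1, nat_lit 2] else [nat_lit 0, nat_lit 3, nat_lit 0, nat_lit 3]
def Wt_3_5 (j : ℕ) : List ℕ := bif Nat.blt j 4 then [nat_lit 1, nat_lit 3, nat_lit 2, nat_lit 0, nat_lit 2, nat_lit 3] else [nat_lit 0, nat_lit 1, nat_lit 0, nat_lit 1]
def Wt_2_5 (j : ℕ) : List ℕ := bif Nat.blt j 3 then [nat_lit 1, nat_lit 0, nat_lit 1, nat_lit 0] else (Wt_3_5 j)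
def Wt_0_5 (j : ℕ) : List ℕ := bif Nat.blt j 2 then (Wt_0_2 j) else (Wt_2_5 j)
def Wt_5_7 (j : ℕ) : List ℕ := bif Nat.blt j 6 then [nat_lit 0, nat_lit 2, nat_lit 3, nat_lit 1, nat_lit 3, nat_lit 2] else [nat_lit 3, nat_lit 2, nat_lit 4, nat_lit 1, nat_lit 0, nat_lit 4, nat_lit 2]
def Wt_8_10 (j : ℕ) : List ℕ := bif Nat.blt j 9 then [nat_lit 5, nat_lit 1, nat_lit 3, nat_lit 1, nat_lit 0, nat_lit 5, nat_lit 3] else [nat_lit 0, nat_lit 2, nat_lit 0, nat_lit 2, nat_lit 0, nat_lit 2, nat_lit 0, nat_lit 2]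
def Wt_7_10 (j : ℕ) : List ℕ := bif Nat.blt j 8 then [nat_lit 2, nat_lit 3, nat_lit 2, nat_lit 3, nat_lit 2, nat_lit 3] else (Wt_8_10 j)
def Wt_5_10 (j : ℕ) : List ℕ := bif Nat.blt j 7 then (Wt_5_7 j) else (Wt_7_10 j)
def Wt_0_10 (j : ℕ) : List ℕ := bif Nat.blt j 5 then (Wt_0_5 j) else (Wt_5_10 j)
def Wt_10_12 (j : ℕ) : List ℕ := bif Nat.blt j 11 then [nat_lit 3, nat_lit 1, nat_lit 3, nat_lit 1, nat_lit 0, nat_lit 2, nat_lit 3, nat_lit 1, nat_lit 3, nat_lit 1, nat_lit 0, nat_lit 2] else [nat_lit 0, nat_lit 3, nat_lit 2, nat_lit 0, nat_lit 1, nat_lit 3, nat_lit 0, nat_lit 3, nat_lit 2, nat_lit 0, nat_lit 1, nat_lit 3]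
def Wt_13_15 (j : ℕ) : List ℕ := bif Nat.blt j 14 then [nat_lit 1, nat_lit 2, nat_lit 5, nat_lit 0, nat_lit 2, nat_lit 0, nat_lit 5] else [nat_lit 2, nat_lit 1, nat_lit 5, nat_lit 0, nat_lit 2, nat_lit 0, nat_lit 5]
def Wt_12_15 (j : ℕ) : List ℕ := bif Nat.blt j 13 then [nat_lit 1, nat_lit 3, nat_lit 2, nat_lit 0, nat_lit 1, nat_lit 3, nat_lit 1, nat_lit 3, nat_lit 2, nat_lit 0, nat_lit 1, nat_lit 3] else (Wt_13_15 j)
def Wt_10_15 (j : ℕ) : List ℕ := bif Nat.blt j 12 then (Wt_10_12 j) else (Wt_12_15 j)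
def Wt_15_17 (j : ℕ) : List ℕ := bif Nat.blt j 16 then [nat_lit 3, nat_lit 0, nat_lit 2, nat_lit 1, nat_lit 3, nat_lit 0, nat_lit 2, nat_lit 1, nat_lit 3, nat_lit 0, nat_lit 2, nat_lit 1] else [nat_lit 3, nat_lit 5, nat_lit 1, nat_lit 3, nat_lit 1, nat_lit 0, nat_lit 5]
def Wt_18_20 (j : ℕ) : List ℕ := bif Nat.blt j 19 then [nat_lit 4, nat_lit 2, nat_lit 4, nat_lit 2, nat_lit 4, nat_lit 2] else [nat_lit 2, nat_lit 0, nat_lit 5, nat_lit 1, nat_lit 2, nat_lit 5, nat_lit 0]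
def Wt_17_20 (j : ℕ) : List ℕ := bif Nat.blt j 18 then [nat_lit 4, nat_lit 0, nat_lit 4, nat_lit 2, nat_lit 1, nat_lit 0, nat_lit 2, nat_lit 4, nat_lit 0] else (Wt_18_20 j)
def Wt_15_20 (j : ℕ) : List ℕ := bif Nat.blt j 17 then (Wt_15_17 j) else (Wt_17_20 j)
def Wt_10_20 (j : ℕ) : List ℕ := bif Nat.blt j 15 then (Wt_10_15 j) else (Wt_15_20 j)
def Wt_0_20 (j : ℕ) : List ℕ := bif Nat.blt j 10 then (Wt_0_10 j) else (Wt_10_20 j)
def Wt_20_22 (j : ℕ) : List ℕ := bif Nat.blt j 21 then [nat_lit 5, nat_lit 1, nat_lit 3, nat_lit 5, nat_lit 3, nat_lit 5, nat_lit 1, nat_lit 3, nat_lit 5, nat_lit 3] else [nat_lit 0, nat_lit 1, nat_lit 3, nat_lit 0, nat_lit 3, nat_lit 2, nat_lit 0, nat_lit 1, nat_lit 3, nat_lit 0, nat_lit 3, nat_lit 2]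
def Wt_23_25 (j : ℕ) : List ℕ := bif Nat.blt j 24 then [nat_lit 0, nat_lit 1, nat_lit 4, nat_lit 2, nat_lit 3, nat_lit 2, nat_lit 4] else [nat_lit 1, nat_lit 4, nat_lit 2, nat_lit 3, nat_lit 2, nat_lit 4, nat_lit 0]
def Wt_22_25 (j : ℕ) : List ℕ := bif Nat.blt j 23 then [nat_lit 1, nat_lit 0, nat_lit 4, nat_lit 2, nat_lit 3, nat_lit 2, nat_lit 4] else (Wt_23_25 j)
def Wt_20_25 (j : ℕ) : List ℕ := bif Nat.blt j 22 then (Wt_20_22 j) else (Wt_22_25 j)
def Wt_25_27 (j : ℕ) : List ℕ := bif Nat.blt j 26 then [nat_lit 4, nat_lit 1, nat_lit 4, nat_lit 3, nat_lit 1, nat_lit 0, nat_lit 3, nat_lit 4, nat_lit 1] else [nat_lit 2, nat_lit 5, nat_lit 0, nat_lit 2, nat_lit 0, nat_lit 5, nat_lit 1]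
def Wt_28_30 (j : ℕ) : List ℕ := bif Nat.blt j 29 then [nat_lit 2, nat_lit 1, nat_lit 5, nat_lit 1, nat_lit 2, nat_lit 3, nat_lit 5, nat_lit 3] else [nat_lit 1, nat_lit 2, nat_lit 5, nat_lit 1, nat_lit 2, nat_lit 3, nat_lit 5, nat_lit 3]
def Wt_27_30 (j : ℕ) : List ℕ := bif Nat.blt j 28 then [nat_lit 5, nat_lit 0, nat_lit 3, nat_lit 5, nat_lit 3, nat_lit 5, nat_lit 0, nat_lit 3, nat_lit 5, nat_lit 3] else (Wt_28_30 j)
def Wt_25_30 (j : ℕ) : List ℕ := bif Nat.blt j 27 then (Wt_25_27 j) else (Wt_27_30 j)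
def Wt_20_30 (j : ℕ) : List ℕ := bif Nat.blt j 25 then (Wt_20_25 j) else (Wt_25_30 j)
def Wt_30_32 (j : ℕ) : List ℕ := bif Nat.blt j 31 then [nat_lit 4, nat_lit 3, nat_lit 2, nat_lit 0, nat_lit 4, nat_lit 0, nat_lit 1, nat_lit 4, nat_lit 3, nat_lit 2, nat_lit 0, nat_lit 4, nat_lit 0, nat_lit 1] else [nat_lit 4, nat_lit 3, nat_lit 4, nat_lit 2, nat_lit 0, nat_lit 4, nat_lit 0, nat_lit 2]
def Wt_33_35 (j : ℕ) : List ℕ := bif Nat.blt j 34 then [nat_lit 2, nat_lit 0, nat_lit 2, nat_lit 3, nat_lit 1, nat_lit 3] else [nat_lit 3, nat_lit 0, nat_lit 3, nat_lit 0]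
def Wt_32_35 (j : ℕ) : List ℕ := bif Nat.blt j 33 then [nat_lit 3, nat_lit 2, nat_lit 0, nat_lit 2, nat_lit 3, nat_lit 2, nat_lit 1, nat_lit 2] else (Wt_33_35 j)
def Wt_30_35 (j : ℕ) : List ℕ := bif Nat.blt j 32 then (Wt_30_32 j) else (Wt_32_35 j)
def Wt_35_37 (j : ℕ) : List ℕ := bif Nat.blt j 36 then [nat_lit 2, nat_lit 1, nat_lit 2, nat_lit 1] else [nat_lit 3, nat_lit 1, nat_lit 5, nat_lit 3, nat_lit 0, nat_lit 1, nat_lit 3, nat_lit 1, nat_lit 5, nat_lit 3, nat_lit 0, nat_lit 1]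
def Wt_38_40 (j : ℕ) : List ℕ := bif Nat.blt j 39 then [nat_lit 1, nat_lit 0, nat_lit 3, nat_lit 5, nat_lit 1, nat_lit 3, nat_lit 1, nat_lit 0, nat_lit 3, nat_lit 5, nat_lit 1, nat_lit 3] else [nat_lit 1, nat_lit 5, nat_lit 1, nat_lit 5, nat_lit 1, nat_lit 5, nat_lit 1, nat_lit 5]
def Wt_37_40 (j : ℕ) : List ℕ := bif Nat.blt j 38 then [nat_lit 0, nat_lit 5, nat_lit 0, nat_lit 5, nat_lit 0, nat_lit 5, nat_lit 0, nat_lit 5] else (Wt_38_40 j)
def Wt_35_40 (j : ℕ) : List ℕ := bif Nat.blt j 37 then (Wt_35_37 j) else (Wt_37_40 j)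
def Wt_30_40 (j : ℕ) : List ℕ := bif Nat.blt j 35 then (Wt_30_35 j) else (Wt_35_40 j)
def Wt_20_40 (j : ℕ) : List ℕ := bif Nat.blt j 30 then (Wt_20_30 j) else (Wt_30_40 j)
def Wt_0_40 (j : ℕ) : List ℕ := bif Nat.blt j 20 then (Wt_0_20 j) else (Wt_20_40 j)
def Wt_40_42 (j : ℕ) : List ℕ := bif Nat.blt j 41 then [nat_lit 0, nat_lit 5, nat_lit 2, nat_lit 5, nat_lit 1, nat_lit 0, nat_lit 5, nat_lit 2, nat_lit 5] else [nat_lit 0, nat_lit 4, nat_lit 0, nat_lit 4, nat_lit 2, nat_lit 1, nat_lit 0, nat_lit 2, nat_lit 4]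
def Wt_43_45 (j : ℕ) : List ℕ := bif Nat.blt j 44 then [nat_lit 3, nat_lit 1, nat_lit 2, nat_lit 1, nat_lit 3, nat_lit 1, nat_lit 2, nat_lit 1, nat_lit 3, nat_lit 1, nat_lit 2, nat_lit 1] else [nat_lit 2, nat_lit 4, nat_lit 3, nat_lit 4, nat_lit 2, nat_lit 0, nat_lit 4, nat_lit 0]
def Wt_42_45 (j : ℕ) : List ℕ := bif Nat.blt j 43 then [nat_lit 1, nat_lit 4, nat_lit 1, nat_lit 4, nat_lit 3, nat_lit 1, nat_lit 0, nat_lit 3, nat_lit 4] else (Wt_43_45 j)
def Wt_40_45 (j : ℕ) : List ℕ := bif Nat.blt j 42 then (Wt_40_42 j) else (Wt_42_45 j)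
def Wt_45_47 (j : ℕ) : List ℕ := bif Nat.blt j 46 then [nat_lit 4, nat_lit 2, nat_lit 0, nat_lit 4, nat_lit 0, nat_lit 2, nat_lit 4, nat_lit 3] else [nat_lit 3, nat_lit 1, nat_lit 0, nat_lit 2, nat_lit 3, nat_lit 0, nat_lit 3, nat_lit 1, nat_lit 0, nat_lit 2, nat_lit 3, nat_lit 0]
def Wt_48_50 (j : ℕ) : List ℕ := bif Nat.blt j 49 then [nat_lit 0, nat_lit 1, nat_lit 4, nat_lit 3, nat_lit 2, nat_lit 0, nat_lit 4, nat_lit 0, nat_lit 1, nat_lit 4, nat_lit 3, nat_lit 2, nat_lit 0, nat_lit 4] else [nat_lit 3, nat_lit 5, nat_lit 0, nat_lit 2, nat_lit 0, nat_lit 1, nat_lit 2, nat_lit 3, nat_lit 5]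
def Wt_47_50 (j : ℕ) : List ℕ := bif Nat.blt j 48 then [nat_lit 3, nat_lit 2, nat_lit 4, nat_lit 0, nat_lit 1, nat_lit 4, nat_lit 2] else (Wt_48_50 j)
def Wt_45_50 (j : ℕ) : List ℕ := bif Nat.blt j 47 then (Wt_45_47 j) else (Wt_47_50 j)
def Wt_40_50 (j : ℕ) : List ℕ := bif Nat.blt j 45 then (Wt_40_45 j) else (Wt_45_50 j)
def Wt_50_52 (j : ℕ) : List ℕ := bif Nat.blt j 51 then [nat_lit 5, nat_lit 3, nat_lit 5, nat_lit 3, nat_lit 5, nat_lit 3, nat_lit 5, nat_lit 3] else [nat_lit 0, nat_lit 3, nat_lit 1, nat_lit 0, nat_lit 2, nat_lit 3, nat_lit 0, nat_lit 3, nat_lit 1, nat_lit 0, nat_lit 2, nat_lit 3]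
def Wt_53_55 (j : ℕ) : List ℕ := bif Nat.blt j 54 then [nat_lit 3, nat_lit 1, nat_lit 5, nat_lit 3, nat_lit 5, nat_lit 1, nat_lit 0] else [nat_lit 1, nat_lit 3, nat_lit 1, nat_lit 0, nat_lit 2, nat_lit 3, nat_lit 1, nat_lit 3, nat_lit 1, nat_lit 0, nat_lit 2, nat_lit 3]
def Wt_52_55 (j : ℕ) : List ℕ := bif Nat.blt j 53 then [nat_lit 2, nat_lit 0, nat_lit 2, nat_lit 0, nat_lit 2, nat_lit 0, nat_lit 2, nat_lit 0] else (Wt_53_55 j)
def Wt_50_55 (j : ℕ) : List ℕ := bif Nat.blt j 52 then (Wt_50_52 j) else (Wt_52_55 j)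
def Wt_55_57 (j : ℕ) : List ℕ := bif Nat.blt j 56 then [nat_lit 2, nat_lit 0, nat_lit 5, nat_lit 1, nat_lit 2, nat_lit 5, nat_lit 2, nat_lit 0, nat_lit 5, nat_lit 1, nat_lit 2, nat_lit 5] else [nat_lit 0, nat_lit 2, nat_lit 1, nat_lit 0, nat_lit 2, nat_lit 5, nat_lit 0, nat_lit 2, nat_lit 1, nat_lit 0, nat_lit 2, nat_lit 5]
def Wt_58_60 (j : ℕ) : List ℕ := bif Nat.blt j 59 then [nat_lit 2, nat_lit 5, nat_lit 3, nat_lit 5, nat_lit 1, nat_lit 2, nat_lit 5, nat_lit 3, nat_lit 5, nat_lit 1, nat_lit 2, nat_lit 5, nat_lit 3, nat_lit 5, nat_lit 1] else [nat_lit 1, nat_lit 0, nat_lit 4, nat_lit 0, nat_lit 2, nat_lit 3, nat_lit 4, nat_lit 1, nat_lit 0, nat_lit 4, nat_lit 0, nat_lit 2, nat_lit 3, nat_lit 4]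
def Wt_57_60 (j : ℕ) : List ℕ := bif Nat.blt j 58 then [nat_lit 3, nat_lit 2, nat_lit 0, nat_lit 1, nat_lit 3, nat_lit 1, nat_lit 3, nat_lit 2, nat_lit 0, nat_lit 1, nat_lit 3, nat_lit 1] else (Wt_58_60 j)
def Wt_55_60 (j : ℕ) : List ℕ := bif Nat.blt j 57 then (Wt_55_57 j) else (Wt_57_60 j)
def Wt_50_60 (j : ℕ) : List ℕ := bif Nat.blt j 55 then (Wt_50_55 j) else (Wt_55_60 j)
def Wt_40_60 (j : ℕ) : List ℕ := bif Nat.blt j 50 then (Wt_40_50 j) else (Wt_50_60 j)
def Wt_60_62 (j : ℕ) : List ℕ := bif Nat.blt j 61 then [nat_lit 2, nat_lit 4, nat_lit 0, nat_lit 4, nat_lit 0, nat_lit 4, nat_lit 2, nat_lit 1, nat_lit 0] else [nat_lit 3, nat_lit 1, nat_lit 0, nat_lit 3, nat_lit 4, nat_lit 1, nat_lit 4, nat_lit 1, nat_lit 4]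
def Wt_63_65 (j : ℕ) : List ℕ := bif Nat.blt j 64 then [nat_lit 2, nat_lit 1, nat_lit 5, nat_lit 0, nat_lit 2, nat_lit 5, nat_lit 3, nat_lit 2, nat_lit 1, nat_lit 5, nat_lit 0, nat_lit 2, nat_lit 5, nat_lit 3] else [nat_lit 1, nat_lit 2, nat_lit 3, nat_lit 5, nat_lit 2, nat_lit 0, nat_lit 5, nat_lit 1, nat_lit 2, nat_lit 3, nat_lit 5, nat_lit 2, nat_lit 0, nat_lit 5]
def Wt_62_65 (j : ℕ) : List ℕ := bif Nat.blt j 63 then [nat_lit 3, nat_lit 5, nat_lit 2, nat_lit 1, nat_lit 5, nat_lit 3, nat_lit 5, nat_lit 2, nat_lit 1, nat_lit 5, nat_lit 3, nat_lit 5, nat_lit 2, nat_lit 1, nat_lit 5] else (Wt_63_65 j)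
def Wt_60_65 (j : ℕ) : List ℕ := bif Nat.blt j 62 then (Wt_60_62 j) else (Wt_62_65 j)
def Wt_65_67 (j : ℕ) : List ℕ := bif Nat.blt j 66 then [nat_lit 0, nat_lit 4, nat_lit 0, nat_lit 2, nat_lit 4, nat_lit 3, nat_lit 4, nat_lit 2] else [nat_lit 2, nat_lit 4, nat_lit 3, nat_lit 0, nat_lit 1, nat_lit 4, nat_lit 3, nat_lit 2, nat_lit 4, nat_lit 3, nat_lit 0, nat_lit 1, nat_lit 4, nat_lit 3]
def Wt_68_70 (j : ℕ) : List ℕ := bif Nat.blt j 69 then [nat_lit 2, nat_lit 1, nat_lit 0, nat_lit 2, nat_lit 5, nat_lit 0, nat_lit 2, nat_lit 1, nat_lit 0, nat_lit 2, nat_lit 5, nat_lit 0] else [nat_lit 5, nat_lit 2, nat_lit 1, nat_lit 5, nat_lit 3, nat_lit 5, nat_lit 2, nat_lit 1, nat_lit 5, nat_lit 3, nat_lit 5, nat_lit 2, nat_lit 1, nat_lit 5, nat_lit 3]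
def Wt_67_70 (j : ℕ) : List ℕ := bif Nat.blt j 68 then [nat_lit 1, nat_lit 2, nat_lit 1, nat_lit 3, nat_lit 1, nat_lit 2, nat_lit 1, nat_lit 3, nat_lit 1, nat_lit 2, nat_lit 1, nat_lit 3] else (Wt_68_70 j)
def Wt_65_70 (j : ℕ) : List ℕ := bif Nat.blt j 67 then (Wt_65_67 j) else (Wt_67_70 j)
def Wt_60_70 (j : ℕ) : List ℕ := bif Nat.blt j 65 then (Wt_60_65 j) else (Wt_65_70 j)
def Wt_70_72 (j : ℕ) : List ℕ := bif Nat.blt j 71 then [nat_lit 2, nat_lit 0, nat_lit 4, nat_lit 1, nat_lit 2, nat_lit 4, nat_lit 0, nat_lit 2, nat_lit 0, nat_lit 4, nat_lit 1, nat_lit 2, nat_lit 4, nat_lit 0] else [nat_lit 4, nat_lit 0, nat_lit 1, nat_lit 4, nat_lit 3, nat_lit 2, nat_lit 0, nat_lit 4, nat_lit 0, nat_lit 1, nat_lit 4, nat_lit 3, nat_lit 2, nat_lit 0]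
def Wt_73_75 (j : ℕ) : List ℕ := bif Nat.blt j 74 then [nat_lit 3, nat_lit 2, nat_lit 0, nat_lit 2, nat_lit 3, nat_lit 1] else [nat_lit 3, nat_lit 5, nat_lit 0, nat_lit 1, nat_lit 3, nat_lit 1, nat_lit 5]
def Wt_72_75 (j : ℕ) : List ℕ := bif Nat.blt j 73 then [nat_lit 3, nat_lit 5, nat_lit 2, nat_lit 0, nat_lit 2, nat_lit 1, nat_lit 0, nat_lit 3, nat_lit 5] else (Wt_73_75 j)
def Wt_70_75 (j : ℕ) : List ℕ := bif Nat.blt j 72 then (Wt_70_72 j) else (Wt_72_75 j)
def Wt_76_78 (j : ℕ) : List ℕ := bif Nat.blt j 77 then [nat_lit 2, nat_lit 0, nat_lit 1, nat_lit 3, nat_lit 0, nat_lit 3, nat_lit 2, nat_lit 0, nat_lit 1, nat_lit 3, nat_lit 0, nat_lit 3] else [nat_lit 1, nat_lit 0, nat_lit 2, nat_lit 3, nat_lit 0, nat_lit 3, nat_lit 1, nat_lit 0, nat_lit 2, nat_lit 3, nat_lit 0, nat_lit 3]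
def Wt_75_78 (j : ℕ) : List ℕ := bif Nat.blt j 76 then [nat_lit 0, nat_lit 3, nat_lit 1, nat_lit 2, nat_lit 0, nat_lit 3, nat_lit 1, nat_lit 2, nat_lit 0, nat_lit 3, nat_lit 1, nat_lit 2] else (Wt_76_78 j)
def Wt_79_81 (j : ℕ) : List ℕ := bif Nat.blt j 80 then [nat_lit 3, nat_lit 1, nat_lit 2, nat_lit 0, nat_lit 3, nat_lit 1, nat_lit 2, nat_lit 0, nat_lit 3, nat_lit 1, nat_lit 2, nat_lit 0] else [nat_lit 2, nat_lit 5, nat_lit 1, nat_lit 5, nat_lit 2, nat_lit 5, nat_lit 1, nat_lit 5]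
def Wt_78_81 (j : ℕ) : List ℕ := bif Nat.blt j 79 then [nat_lit 3, nat_lit 5, nat_lit 0, nat_lit 3, nat_lit 5, nat_lit 3, nat_lit 5, nat_lit 0, nat_lit 3, nat_lit 5] else (Wt_79_81 j)
def Wt_75_81 (j : ℕ) : List ℕ := bif Nat.blt j 78 then (Wt_75_78 j) else (Wt_78_81 j)
def Wt_70_81 (j : ℕ) : List ℕ := bif Nat.blt j 75 then (Wt_70_75 j) else (Wt_75_81 j)
def Wt_60_81 (j : ℕ) : List ℕ := bif Nat.blt j 70 then (Wt_60_70 j) else (Wt_70_81 j)
def Wt_40_81 (j : ℕ) : List ℕ := bif Nat.blt j 60 then (Wt_40_60 j) else (Wt_60_81 j)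
def Wt_0_81 (j : ℕ) : List ℕ := bif Nat.blt j 40 then (Wt_0_40 j) else (Wt_40_81 j)
def Wt_81_83 (j : ℕ) : List ℕ := bif Nat.blt j 82 then [nat_lit 3, nat_lit 1, nat_lit 3, nat_lit 2, nat_lit 0, nat_lit 2] else [nat_lit 4, nat_lit 2, nat_lit 3, nat_lit 2, nat_lit 4, nat_lit 1, nat_lit 0]
def Wt_84_86 (j : ℕ) : List ℕ := bif Nat.blt j 85 then [nat_lit 1, nat_lit 0, nat_lit 3, nat_lit 4, nat_lit 2, nat_lit 3, nat_lit 4, nat_lit 1, nat_lit 0, nat_lit 3, nat_lit 4, nat_lit 2, nat_lit 3, nat_lit 4] else [nat_lit 2, nat_lit 3, nat_lit 2, nat_lit 4, nat_lit 1, nat_lit 0, nat_lit 4]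
def Wt_83_86 (j : ℕ) : List ℕ := bif Nat.blt j 84 then [nat_lit 4, nat_lit 3, nat_lit 2, nat_lit 4, nat_lit 3, nat_lit 0, nat_lit 1, nat_lit 4, nat_lit 3, nat_lit 2, nat_lit 4, nat_lit 3, nat_lit 0, nat_lit 1] else (Wt_84_86 j)
def Wt_81_86 (j : ℕ) : List ℕ := bif Nat.blt j 83 then (Wt_81_83 j) else (Wt_83_86 j)
def Wt_86_88 (j : ℕ) : List ℕ := bif Nat.blt j 87 then [nat_lit 2, nat_lit 4, nat_lit 0, nat_lit 2, nat_lit 0, nat_lit 4, nat_lit 1, nat_lit 2, nat_lit 4, nat_lit 0, nat_lit 2, nat_lit 0, nat_lit 4, nat_lit 1] else [nat_lit 3, nat_lit 0, nat_lit 3, nat_lit 1, nat_lit 0, nat_lit 1]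
def Wt_89_91 (j : ℕ) : List ℕ := bif Nat.blt j 90 then [nat_lit 0, nat_lit 3, nat_lit 1, nat_lit 4, nat_lit 2, nat_lit 0, nat_lit 3, nat_lit 1, nat_lit 4, nat_lit 2, nat_lit 0, nat_lit 3, nat_lit 1, nat_lit 4, nat_lit 2] else [nat_lit 2, nat_lit 0, nat_lit 1, nat_lit 3, nat_lit 1, nat_lit 3, nat_lit 2, nat_lit 0, nat_lit 1, nat_lit 3, nat_lit 1, nat_lit 3]
def Wt_88_91 (j : ℕ) : List ℕ := bif Nat.blt j 89 then [nat_lit 3, nat_lit 0, nat_lit 3, nat_lit 1, nat_lit 0, nat_lit 2, nat_lit 3, nat_lit 0, nat_lit 3, nat_lit 1, nat_lit 0, nat_lit 2] else (Wt_89_91 j)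
def Wt_86_91 (j : ℕ) : List ℕ := bif Nat.blt j 88 then (Wt_86_88 j) else (Wt_88_91 j)
def Wt_81_91 (j : ℕ) : List ℕ := bif Nat.blt j 86 then (Wt_81_86 j) else (Wt_86_91 j)
def Wt_91_93 (j : ℕ) : List ℕ := bif Nat.blt j 92 then [nat_lit 4, nat_lit 3, nat_lit 2, nat_lit 4, nat_lit 3, nat_lit 4, nat_lit 3, nat_lit 2, nat_lit 4, nat_lit 3, nat_lit 4, nat_lit 3, nat_lit 2, nat_lit 4, nat_lit 3] else [nat_lit 2, nat_lit 3, nat_lit 4, nat_lit 3, nat_lit 4, nat_lit 2, nat_lit 3, nat_lit 4, nat_lit 3, nat_lit 4, nat_lit 2, nat_lit 3, nat_lit 4, nat_lit 3, nat_lit 4]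
def Wt_94_96 (j : ℕ) : List ℕ := bif Nat.blt j 95 then [nat_lit 1, nat_lit 3, nat_lit 0, nat_lit 2, nat_lit 4, nat_lit 1, nat_lit 3, nat_lit 0, nat_lit 2, nat_lit 4, nat_lit 1, nat_lit 3, nat_lit 0, nat_lit 2, nat_lit 4] else [nat_lit 3, nat_lit 5, nat_lit 1, nat_lit 3, nat_lit 5, nat_lit 3, nat_lit 5, nat_lit 1, nat_lit 3, nat_lit 5]
def Wt_93_96 (j : ℕ) : List ℕ := bif Nat.blt j 94 then [nat_lit 3, nat_lit 4, nat_lit 2, nat_lit 3, nat_lit 4, nat_lit 3, nat_lit 4, nat_lit 2, nat_lit 3, nat_lit 4, nat_lit 3, nat_lit 4, nat_lit 2, nat_lit 3, nat_lit 4] else (Wt_94_96 j)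
def Wt_91_96 (j : ℕ) : List ℕ := bif Nat.blt j 93 then (Wt_91_93 j) else (Wt_93_96 j)
def Wt_96_98 (j : ℕ) : List ℕ := bif Nat.blt j 97 then [nat_lit 3, nat_lit 1, nat_lit 5, nat_lit 3, nat_lit 5, nat_lit 0, nat_lit 1] else [nat_lit 0, nat_lit 5, nat_lit 1, nat_lit 2, nat_lit 5, nat_lit 0, nat_lit 2]
def Wt_99_101 (j : ℕ) : List ℕ := bif Nat.blt j 100 then [nat_lit 3, nat_lit 5, nat_lit 3, nat_lit 2, nat_lit 1, nat_lit 5, nat_lit 1, nat_lit 2] else [nat_lit 2, nat_lit 5, nat_lit 1, nat_lit 2, nat_lit 3, nat_lit 5, nat_lit 3, nat_lit 1]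
def Wt_98_101 (j : ℕ) : List ℕ := bif Nat.blt j 99 then [nat_lit 5, nat_lit 2, nat_lit 1, nat_lit 4, nat_lit 5, nat_lit 1, nat_lit 2, nat_lit 5, nat_lit 2, nat_lit 1, nat_lit 4, nat_lit 5, nat_lit 1, nat_lit 2] else (Wt_99_101 j)
def Wt_96_101 (j : ℕ) : List ℕ := bif Nat.blt j 98 then (Wt_96_98 j) else (Wt_98_101 j)
def Wt_91_101 (j : ℕ) : List ℕ := bif Nat.blt j 96 then (Wt_91_96 j) else (Wt_96_101 j)
def Wt_81_101 (j : ℕ) : List ℕ := bif Nat.blt j 91 then (Wt_81_91 j) else (Wt_91_101 j)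
def Wt_101_103 (j : ℕ) : List ℕ := bif Nat.blt j 102 then [nat_lit 1, nat_lit 3, nat_lit 1, nat_lit 0, nat_lit 3, nat_lit 5, nat_lit 1, nat_lit 3, nat_lit 1, nat_lit 0, nat_lit 3, nat_lit 5] else [nat_lit 0, nat_lit 3, nat_lit 5, nat_lit 3, nat_lit 5, nat_lit 0, nat_lit 3, nat_lit 5, nat_lit 3, nat_lit 5]
def Wt_104_106 (j : ℕ) : List ℕ := bif Nat.blt j 105 then [nat_lit 2, nat_lit 1, nat_lit 3, nat_lit 5, nat_lit 3, nat_lit 2, nat_lit 1, nat_lit 5] else [nat_lit 4, nat_lit 2, nat_lit 0, nat_lit 3, nat_lit 1, nat_lit 4, nat_lit 2, nat_lit 0, nat_lit 3, nat_lit 1, nat_lit 4, nat_lit 2, nat_lit 0, nat_lit 3, nat_lit 1]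
def Wt_103_106 (j : ℕ) : List ℕ := bif Nat.blt j 104 then [nat_lit 3, nat_lit 0, nat_lit 5, nat_lit 3, nat_lit 5, nat_lit 3, nat_lit 0, nat_lit 5, nat_lit 3, nat_lit 5] else (Wt_104_106 j)
def Wt_101_106 (j : ℕ) : List ℕ := bif Nat.blt j 103 then (Wt_101_103 j) else (Wt_103_106 j)
def Wt_106_108 (j : ℕ) : List ℕ := bif Nat.blt j 107 then [nat_lit 4, nat_lit 5, nat_lit 4, nat_lit 5, nat_lit 4, nat_lit 5, nat_lit 4, nat_lit 5] else [nat_lit 2, nat_lit 5, nat_lit 0, nat_lit 5, nat_lit 2, nat_lit 5, nat_lit 1, nat_lit 0, nat_lit 5]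
def Wt_109_111 (j : ℕ) : List ℕ := bif Nat.blt j 110 then [nat_lit 5, nat_lit 1, nat_lit 2, nat_lit 5, nat_lit 0, nat_lit 2, nat_lit 1, nat_lit 0, nat_lit 1] else [nat_lit 0, nat_lit 5, nat_lit 2, nat_lit 1, nat_lit 5, nat_lit 1, nat_lit 0, nat_lit 1, nat_lit 2]
def Wt_108_111 (j : ℕ) : List ℕ := bif Nat.blt j 109 then [nat_lit 5, nat_lit 1, nat_lit 5, nat_lit 2, nat_lit 5, nat_lit 1, nat_lit 5, nat_lit 2] else (Wt_109_111 j)
def Wt_106_111 (j : ℕ) : List ℕ := bif Nat.blt j 108 then (Wt_106_108 j) else (Wt_108_111 j)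
def Wt_101_111 (j : ℕ) : List ℕ := bif Nat.blt j 106 then (Wt_101_106 j) else (Wt_106_111 j)
def Wt_111_113 (j : ℕ) : List ℕ := bif Nat.blt j 112 then [nat_lit 1, nat_lit 3, nat_lit 2, nat_lit 5, nat_lit 2, nat_lit 1, nat_lit 5, nat_lit 3, nat_lit 0] else [nat_lit 3, nat_lit 1, nat_lit 0, nat_lit 2, nat_lit 0, nat_lit 2, nat_lit 5, nat_lit 3, nat_lit 5]
def Wt_114_116 (j : ℕ) : List ℕ := bif Nat.blt j 115 then [nat_lit 1, nat_lit 3, nat_lit 1, nat_lit 0, nat_lit 5, nat_lit 3, nat_lit 5] else [nat_lit 0, nat_lit 1, nat_lit 3, nat_lit 1, nat_lit 5, nat_lit 3, nat_lit 0, nat_lit 1, nat_lit 3, nat_lit 1, nat_lit 5, nat_lit 3]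
def Wt_113_116 (j : ℕ) : List ℕ := bif Nat.blt j 114 then [nat_lit 1, nat_lit 3, nat_lit 1, nat_lit 2, nat_lit 0, nat_lit 2, nat_lit 1, nat_lit 3] else (Wt_114_116 j)
def Wt_111_116 (j : ℕ) : List ℕ := bif Nat.blt j 113 then (Wt_111_113 j) else (Wt_113_116 j)
def Wt_117_119 (j : ℕ) : List ℕ := bif Nat.blt j 118 then [nat_lit 2, nat_lit 1, nat_lit 5, nat_lit 0, nat_lit 2, nat_lit 5, nat_lit 2, nat_lit 1, nat_lit 5, nat_lit 0, nat_lit 2, nat_lit 5] else [nat_lit 0, nat_lit 5, nat_lit 3, nat_lit 5, nat_lit 0, nat_lit 5, nat_lit 3, nat_lit 5]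
def Wt_116_119 (j : ℕ) : List ℕ := bif Nat.blt j 117 then [nat_lit 5, nat_lit 1, nat_lit 3, nat_lit 1, nat_lit 0, nat_lit 3, nat_lit 5, nat_lit 1, nat_lit 3, nat_lit 1, nat_lit 0, nat_lit 3] else (Wt_117_119 j)
def Wt_120_122 (j : ℕ) : List ℕ := bif Nat.blt j 121 then [nat_lit 1, nat_lit 5, nat_lit 2, nat_lit 3, nat_lit 5, nat_lit 1, nat_lit 5, nat_lit 2, nat_lit 3, nat_lit 5, nat_lit 1, nat_lit 5, nat_lit 2, nat_lit 3, nat_lit 5] else [nat_lit 4, nat_lit 2, nat_lit 3, nat_lit 2, nat_lit 4, nat_lit 0, nat_lit 1]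
def Wt_119_122 (j : ℕ) : List ℕ := bif Nat.blt j 120 then [nat_lit 5, nat_lit 3, nat_lit 0, nat_lit 1, nat_lit 3, nat_lit 1, nat_lit 5, nat_lit 3, nat_lit 0, nat_lit 1, nat_lit 3, nat_lit 1] else (Wt_120_122 j)
def Wt_116_122 (j : ℕ) : List ℕ := bif Nat.blt j 119 then (Wt_116_119 j) else (Wt_119_122 j)
def Wt_111_122 (j : ℕ) : List ℕ := bif Nat.blt j 116 then (Wt_111_116 j) else (Wt_116_122 j)
def Wt_101_122 (j : ℕ) : List ℕ := bif Nat.blt j 111 then (Wt_101_111 j) else (Wt_111_122 j)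
def Wt_81_122 (j : ℕ) : List ℕ := bif Nat.blt j 101 then (Wt_81_101 j) else (Wt_101_122 j)
def Wt_122_124 (j : ℕ) : List ℕ := bif Nat.blt j 123 then [nat_lit 1, nat_lit 4, nat_lit 3, nat_lit 1, nat_lit 0, nat_lit 3, nat_lit 4, nat_lit 1, nat_lit 4] else [nat_lit 2, nat_lit 4, nat_lit 1, nat_lit 0, nat_lit 4, nat_lit 2, nat_lit 3]
def Wt_125_127 (j : ℕ) : List ℕ := bif Nat.blt j 126 then [nat_lit 4, nat_lit 3, nat_lit 4, nat_lit 2, nat_lit 3, nat_lit 4, nat_lit 3, nat_lit 4, nat_lit 2, nat_lit 3, nat_lit 4, nat_lit 3, nat_lit 4, nat_lit 2, nat_lit 3] else [nat_lit 5, nat_lit 3, nat_lit 5, nat_lit 1, nat_lit 2, nat_lit 5, nat_lit 3, nat_lit 5, nat_lit 1, nat_lit 2, nat_lit 5, nat_lit 3, nat_lit 5, nat_lit 1, nat_lit 2]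
def Wt_124_127 (j : ℕ) : List ℕ := bif Nat.blt j 125 then [nat_lit 3, nat_lit 2, nat_lit 3, nat_lit 2, nat_lit 3, nat_lit 2] else (Wt_125_127 j)
def Wt_122_127 (j : ℕ) : List ℕ := bif Nat.blt j 124 then (Wt_122_124 j) else (Wt_124_127 j)
def Wt_127_129 (j : ℕ) : List ℕ := bif Nat.blt j 128 then [nat_lit 2, nat_lit 1, nat_lit 3, nat_lit 1, nat_lit 2, nat_lit 1, nat_lit 3, nat_lit 1, nat_lit 2, nat_lit 1, nat_lit 3, nat_lit 1] else [nat_lit 4, nat_lit 3, nat_lit 4, nat_lit 3, nat_lit 2, nat_lit 4, nat_lit 3, nat_lit 4, nat_lit 3, nat_lit 2, nat_lit 4, nat_lit 3, nat_lit 4, nat_lit 3, nat_lit 2]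
def Wt_130_132 (j : ℕ) : List ℕ := bif Nat.blt j 131 then [nat_lit 1, nat_lit 2, nat_lit 5, nat_lit 2, nat_lit 0, nat_lit 5, nat_lit 1, nat_lit 2, nat_lit 5, nat_lit 2, nat_lit 0, nat_lit 5] else [nat_lit 3, nat_lit 2, nat_lit 0, nat_lit 1, nat_lit 3, nat_lit 0, nat_lit 3, nat_lit 2, nat_lit 0, nat_lit 1, nat_lit 3, nat_lit 0]
def Wt_129_132 (j : ℕ) : List ℕ := bif Nat.blt j 130 then [nat_lit 0, nat_lit 2, nat_lit 5, nat_lit 3, nat_lit 2, nat_lit 1, nat_lit 5, nat_lit 0, nat_lit 2, nat_lit 5, nat_lit 3, nat_lit 2, nat_lit 1, nat_lit 5] else (Wt_130_132 j)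
def Wt_127_132 (j : ℕ) : List ℕ := bif Nat.blt j 129 then (Wt_127_129 j) else (Wt_129_132 j)
def Wt_122_132 (j : ℕ) : List ℕ := bif Nat.blt j 127 then (Wt_122_127 j) else (Wt_127_132 j)
def Wt_132_134 (j : ℕ) : List ℕ := bif Nat.blt j 133 then [nat_lit 3, nat_lit 5, nat_lit 3, nat_lit 1, nat_lit 5, nat_lit 3, nat_lit 5, nat_lit 3, nat_lit 1, nat_lit 5] else [nat_lit 0, nat_lit 1, nat_lit 3, nat_lit 1, nat_lit 5, nat_lit 3, nat_lit 5]
def Wt_135_137 (j : ℕ) : List ℕ := bif Nat.blt j 136 then [nat_lit 2, nat_lit 5, nat_lit 2, nat_lit 1, nat_lit 4, nat_lit 5, nat_lit 1, nat_lit 2, nat_lit 5, nat_lit 2, nat_lit 1, nat_lit 4, nat_lit 5, nat_lit 1] else [nat_lit 3, nat_lit 2, nat_lit 4, nat_lit 3, nat_lit 4, nat_lit 3, nat_lit 2, nat_lit 4, nat_lit 3, nat_lit 4, nat_lit 3, nat_lit 2, nat_lit 4, nat_lit 3, nat_lit 4]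
def Wt_134_137 (j : ℕ) : List ℕ := bif Nat.blt j 135 then [nat_lit 2, nat_lit 1, nat_lit 5, nat_lit 4, nat_lit 1, nat_lit 2, nat_lit 5, nat_lit 2, nat_lit 1, nat_lit 5, nat_lit 4, nat_lit 1, nat_lit 2, nat_lit 5] else (Wt_135_137 j)
def Wt_132_137 (j : ℕ) : List ℕ := bif Nat.blt j 134 then (Wt_132_134 j) else (Wt_134_137 j)
def Wt_137_139 (j : ℕ) : List ℕ := bif Nat.blt j 138 then [nat_lit 0, nat_lit 2, nat_lit 0, nat_lit 4, nat_lit 1, nat_lit 2, nat_lit 4, nat_lit 0, nat_lit 2, nat_lit 0, nat_lit 4, nat_lit 1, nat_lit 2, nat_lit 4] else [nat_lit 2, nat_lit 3, nat_lit 5, nat_lit 2, nat_lit 0, nat_lit 5, nat_lit 1, nat_lit 2, nat_lit 3, nat_lit 5, nat_lit 2, nat_lit 0, nat_lit 5, nat_lit 1]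
def Wt_140_142 (j : ℕ) : List ℕ := bif Nat.blt j 141 then [nat_lit 3, nat_lit 2, nat_lit 5, nat_lit 1, nat_lit 5, nat_lit 3, nat_lit 2, nat_lit 5, nat_lit 1, nat_lit 5, nat_lit 3, nat_lit 2, nat_lit 5, nat_lit 1, nat_lit 5] else [nat_lit 2, nat_lit 0, nat_lit 5, nat_lit 1, nat_lit 2, nat_lit 3, nat_lit 5, nat_lit 2, nat_lit 0, nat_lit 5, nat_lit 1, nat_lit 2, nat_lit 3, nat_lit 5]
def Wt_139_142 (j : ℕ) : List ℕ := bif Nat.blt j 140 then [nat_lit 3, nat_lit 5, nat_lit 2, nat_lit 0, nat_lit 5, nat_lit 1, nat_lit 2, nat_lit 3, nat_lit 5, nat_lit 2, nat_lit 0, nat_lit 5, nat_lit 1, nat_lit 2] else (Wt_140_142 j)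
def Wt_137_142 (j : ℕ) : List ℕ := bif Nat.blt j 139 then (Wt_137_139 j) else (Wt_139_142 j)
def Wt_132_142 (j : ℕ) : List ℕ := bif Nat.blt j 137 then (Wt_132_137 j) else (Wt_137_142 j)
def Wt_122_142 (j : ℕ) : List ℕ := bif Nat.blt j 132 then (Wt_122_132 j) else (Wt_132_142 j)
def Wt_142_144 (j : ℕ) : List ℕ := bif Nat.blt j 143 then [nat_lit 2, nat_lit 3, nat_lit 5, nat_lit 1, nat_lit 5, nat_lit 2, nat_lit 3, nat_lit 5, nat_lit 1, nat_lit 5, nat_lit 2, nat_lit 3, nat_lit 5, nat_lit 1, nat_lit 5] else [nat_lit 0, nat_lit 4, nat_lit 2, nat_lit 1, nat_lit 0, nat_lit 2, nat_lit 4, nat_lit 0, nat_lit 4]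
def Wt_145_147 (j : ℕ) : List ℕ := bif Nat.blt j 146 then [nat_lit 4, nat_lit 1, nat_lit 3, nat_lit 0, nat_lit 2, nat_lit 4, nat_lit 1, nat_lit 3, nat_lit 0, nat_lit 2, nat_lit 4, nat_lit 1, nat_lit 3, nat_lit 0, nat_lit 2] else [nat_lit 0, nat_lit 2, nat_lit 0, nat_lit 5, nat_lit 1, nat_lit 2, nat_lit 5]
def Wt_144_147 (j : ℕ) : List ℕ := bif Nat.blt j 145 then [nat_lit 4, nat_lit 2, nat_lit 4, nat_lit 2, nat_lit 1, nat_lit 0, nat_lit 4, nat_lit 2, nat_lit 3] else (Wt_145_147 j)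
def Wt_142_147 (j : ℕ) : List ℕ := bif Nat.blt j 144 then (Wt_142_144 j) else (Wt_144_147 j)
def Wt_147_149 (j : ℕ) : List ℕ := bif Nat.blt j 148 then [nat_lit 0, nat_lit 2, nat_lit 5, nat_lit 2, nat_lit 1, nat_lit 5, nat_lit 0, nat_lit 2, nat_lit 5, nat_lit 2, nat_lit 1, nat_lit 5] else [nat_lit 5, nat_lit 3, nat_lit 5, nat_lit 2, nat_lit 1, nat_lit 5, nat_lit 3, nat_lit 5, nat_lit 2, nat_lit 1, nat_lit 5, nat_lit 3, nat_lit 5, nat_lit 2, nat_lit 1]
def Wt_150_152 (j : ℕ) : List ℕ := bif Nat.blt j 151 then [nat_lit 2, nat_lit 0, nat_lit 1, nat_lit 2, nat_lit 4, nat_lit 0, nat_lit 4, nat_lit 0, nat_lit 4] else [nat_lit 2, nat_lit 1, nat_lit 5, nat_lit 3, nat_lit 5, nat_lit 2, nat_lit 1, nat_lit 5, nat_lit 3, nat_lit 5, nat_lit 2, nat_lit 1, nat_lit 5, nat_lit 3, nat_lit 5]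
def Wt_149_152 (j : ℕ) : List ℕ := bif Nat.blt j 150 then [nat_lit 1, nat_lit 4, nat_lit 3, nat_lit 2, nat_lit 0, nat_lit 4, nat_lit 0, nat_lit 1, nat_lit 4, nat_lit 3, nat_lit 2, nat_lit 0, nat_lit 4, nat_lit 0] else (Wt_150_152 j)
def Wt_147_152 (j : ℕ) : List ℕ := bif Nat.blt j 149 then (Wt_147_149 j) else (Wt_149_152 j)
def Wt_142_152 (j : ℕ) : List ℕ := bif Nat.blt j 147 then (Wt_142_147 j) else (Wt_147_152 j)
def Wt_152_154 (j : ℕ) : List ℕ := bif Nat.blt j 153 then [nat_lit 5, nat_lit 3, nat_lit 5, nat_lit 2, nat_lit 0, nat_lit 2, nat_lit 1, nat_lit 0, nat_lit 3] else [nat_lit 4, nat_lit 0, nat_lit 1, nat_lit 4, nat_lit 3, nat_lit 2, nat_lit 3]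
def Wt_155_157 (j : ℕ) : List ℕ := bif Nat.blt j 156 then [nat_lit 1, nat_lit 2, nat_lit 5, nat_lit 2, nat_lit 1, nat_lit 4, nat_lit 5, nat_lit 1, nat_lit 2, nat_lit 5, nat_lit 2, nat_lit 1, nat_lit 4, nat_lit 5] else [nat_lit 0, nat_lit 3, nat_lit 2, nat_lit 3, nat_lit 2, nat_lit 1, nat_lit 3, nat_lit 2]
def Wt_154_157 (j : ℕ) : List ℕ := bif Nat.blt j 155 then [nat_lit 2, nat_lit 3, nat_lit 2, nat_lit 3, nat_lit 0, nat_lit 2, nat_lit 3, nat_lit 1] else (Wt_155_157 j)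
def Wt_152_157 (j : ℕ) : List ℕ := bif Nat.blt j 154 then (Wt_152_154 j) else (Wt_154_157 j)
def Wt_158_160 (j : ℕ) : List ℕ := bif Nat.blt j 159 then [nat_lit 3, nat_lit 2, nat_lit 1, nat_lit 5, nat_lit 0, nat_lit 2, nat_lit 5, nat_lit 3, nat_lit 2, nat_lit 1, nat_lit 5, nat_lit 0, nat_lit 2, nat_lit 5] else [nat_lit 1, nat_lit 2, nat_lit 5, nat_lit 3, nat_lit 5, nat_lit 1, nat_lit 2, nat_lit 5, nat_lit 3, nat_lit 5, nat_lit 1, nat_lit 2, nat_lit 5, nat_lit 3, nat_lit 5]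
def Wt_157_160 (j : ℕ) : List ℕ := bif Nat.blt j 158 then [nat_lit 3, nat_lit 0, nat_lit 2, nat_lit 3, nat_lit 1, nat_lit 2, nat_lit 3, nat_lit 2] else (Wt_158_160 j)
def Wt_161_163 (j : ℕ) : List ℕ := bif Nat.blt j 162 then [nat_lit 2, nat_lit 3, nat_lit 1, nat_lit 3, nat_lit 2, nat_lit 0] else [nat_lit 2, nat_lit 3, nat_lit 1, nat_lit 3, nat_lit 1, nat_lit 0, nat_lit 2, nat_lit 3, nat_lit 1, nat_lit 3, nat_lit 1, nat_lit 0]
def Wt_160_163 (j : ℕ) : List ℕ := bif Nat.blt j 161 then [nat_lit 0, nat_lit 5, nat_lit 2, nat_lit 0, nat_lit 1, nat_lit 2, nat_lit 0, nat_lit 5, nat_lit 2, nat_lit 0, nat_lit 1, nat_lit 2] else (Wt_161_163 j)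
def Wt_157_163 (j : ℕ) : List ℕ := bif Nat.blt j 160 then (Wt_157_160 j) else (Wt_160_163 j)
def Wt_152_163 (j : ℕ) : List ℕ := bif Nat.blt j 157 then (Wt_152_157 j) else (Wt_157_163 j)
def Wt_142_163 (j : ℕ) : List ℕ := bif Nat.blt j 152 then (Wt_142_152 j) else (Wt_152_163 j)
def Wt_122_163 (j : ℕ) : List ℕ := bif Nat.blt j 142 then (Wt_122_142 j) else (Wt_142_163 j)
def Wt_81_163 (j : ℕ) : List ℕ := bif Nat.blt j 122 then (Wt_81_122 j) else (Wt_122_163 j)
def Wt_0_163 (j : ℕ) : List ℕ := bif Nat.blt j 81 then (Wt_0_81 j) else (Wt_81_163 j)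
def Wt_163_165 (j : ℕ) : List ℕ := bif Nat.blt j 164 then [nat_lit 0, nat_lit 2, nat_lit 1, nat_lit 3, nat_lit 0, nat_lit 2, nat_lit 1, nat_lit 3, nat_lit 0, nat_lit 2, nat_lit 1, nat_lit 3] else [nat_lit 0, nat_lit 1, nat_lit 0, nat_lit 2, nat_lit 1, nat_lit 2]
def Wt_166_168 (j : ℕ) : List ℕ := bif Nat.blt j 167 then [nat_lit 3, nat_lit 2, nat_lit 1, nat_lit 5, nat_lit 1, nat_lit 2, nat_lit 3, nat_lit 5] else [nat_lit 5, nat_lit 2, nat_lit 5, nat_lit 1, nat_lit 0, nat_lit 5, nat_lit 2, nat_lit 5, nat_lit 0]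
def Wt_165_168 (j : ℕ) : List ℕ := bif Nat.blt j 166 then [nat_lit 2, nat_lit 0, nat_lit 3, nat_lit 1, nat_lit 2, nat_lit 0, nat_lit 3, nat_lit 1, nat_lit 2, nat_lit 0, nat_lit 3, nat_lit 1] else (Wt_166_168 j)
def Wt_163_168 (j : ℕ) : List ℕ := bif Nat.blt j 165 then (Wt_163_165 j) else (Wt_165_168 j)
def Wt_168_170 (j : ℕ) : List ℕ := bif Nat.blt j 169 then [nat_lit 5, nat_lit 3, nat_lit 5, nat_lit 1, nat_lit 3, nat_lit 1, nat_lit 0] else [nat_lit 4, nat_lit 0, nat_lit 2, nat_lit 4, nat_lit 3, nat_lit 4, nat_lit 2, nat_lit 0]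
def Wt_171_173 (j : ℕ) : List ℕ := bif Nat.blt j 172 then [nat_lit 2, nat_lit 4, nat_lit 2, nat_lit 4, nat_lit 2, nat_lit 4] else [nat_lit 2, nat_lit 4, nat_lit 2, nat_lit 5, nat_lit 2, nat_lit 4, nat_lit 2, nat_lit 5, nat_lit 2, nat_lit 4, nat_lit 2, nat_lit 5]
def Wt_170_173 (j : ℕ) : List ℕ := bif Nat.blt j 171 then [nat_lit 0, nat_lit 4, nat_lit 0, nat_lit 5, nat_lit 0, nat_lit 4, nat_lit 0, nat_lit 5, nat_lit 0, nat_lit 4, nat_lit 0, nat_lit 5] else (Wt_171_173 j)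
def Wt_168_173 (j : ℕ) : List ℕ := bif Nat.blt j 170 then (Wt_168_170 j) else (Wt_170_173 j)
def Wt_163_173 (j : ℕ) : List ℕ := bif Nat.blt j 168 then (Wt_163_168 j) else (Wt_168_173 j)
def Wt_173_175 (j : ℕ) : List ℕ := bif Nat.blt j 174 then [nat_lit 0, nat_lit 4, nat_lit 2, nat_lit 1, nat_lit 4, nat_lit 0, nat_lit 2, nat_lit 0, nat_lit 4, nat_lit 2, nat_lit 1, nat_lit 4, nat_lit 0, nat_lit 2] else [nat_lit 3, nat_lit 5, nat_lit 1, nat_lit 5, nat_lit 2, nat_lit 3, nat_lit 5, nat_lit 1, nat_lit 5, nat_lit 2, nat_lit 3, nat_lit 5, nat_lit 1, nat_lit 5, nat_lit 2]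
def Wt_176_178 (j : ℕ) : List ℕ := bif Nat.blt j 177 then [nat_lit 0, nat_lit 2, nat_lit 5, nat_lit 3, nat_lit 5, nat_lit 3, nat_lit 0, nat_lit 1, nat_lit 2] else [nat_lit 1, nat_lit 0, nat_lit 1, nat_lit 3, nat_lit 0, nat_lit 3]
def Wt_175_178 (j : ℕ) : List ℕ := bif Nat.blt j 176 then [nat_lit 0, nat_lit 5, nat_lit 1, nat_lit 2, nat_lit 3, nat_lit 5, nat_lit 2, nat_lit 0, nat_lit 5, nat_lit 1, nat_lit 2, nat_lit 3, nat_lit 5, nat_lit 2] else (Wt_176_178 j)
def Wt_173_178 (j : ℕ) : List ℕ := bif Nat.blt j 175 then (Wt_173_175 j) else (Wt_175_178 j)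
def Wt_178_180 (j : ℕ) : List ℕ := bif Nat.blt j 179 then [nat_lit 3, nat_lit 4, nat_lit 0, nat_lit 1, nat_lit 4, nat_lit 3, nat_lit 2] else [nat_lit 2, nat_lit 0, nat_lit 4, nat_lit 0, nat_lit 2, nat_lit 4, nat_lit 3, nat_lit 4]
def Wt_181_183 (j : ℕ) : List ℕ := bif Nat.blt j 182 then [nat_lit 5, nat_lit 4, nat_lit 5, nat_lit 4, nat_lit 5, nat_lit 4, nat_lit 5, nat_lit 4] else [nat_lit 3, nat_lit 4, nat_lit 2, nat_lit 3, nat_lit 4, nat_lit 1, nat_lit 0, nat_lit 3, nat_lit 4, nat_lit 2, nat_lit 3, nat_lit 4, nat_lit 1, nat_lit 0]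
def Wt_180_183 (j : ℕ) : List ℕ := bif Nat.blt j 181 then [nat_lit 3, nat_lit 4, nat_lit 3, nat_lit 4, nat_lit 3, nat_lit 4, nat_lit 3, nat_lit 4] else (Wt_181_183 j)
def Wt_178_183 (j : ℕ) : List ℕ := bif Nat.blt j 180 then (Wt_178_180 j) else (Wt_180_183 j)
def Wt_173_183 (j : ℕ) : List ℕ := bif Nat.blt j 178 then (Wt_173_178 j) else (Wt_178_183 j)
def Wt_163_183 (j : ℕ) : List ℕ := bif Nat.blt j 173 then (Wt_163_173 j) else (Wt_173_183 j)
def Wt_183_185 (j : ℕ) : List ℕ := bif Nat.blt j 184 then [nat_lit 2, nat_lit 1, nat_lit 2, nat_lit 3, nat_lit 2, nat_lit 0, nat_lit 2, nat_lit 3] else [nat_lit 2, nat_lit 3, nat_lit 2, nat_lit 0, nat_lit 4, nat_lit 1, nat_lit 0, nat_lit 4, nat_lit 1]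
def Wt_186_188 (j : ℕ) : List ℕ := bif Nat.blt j 187 then [nat_lit 4, nat_lit 1, nat_lit 0, nat_lit 3, nat_lit 4, nat_lit 2, nat_lit 3, nat_lit 4, nat_lit 1, nat_lit 0, nat_lit 3, nat_lit 4, nat_lit 2, nat_lit 3] else [nat_lit 5, nat_lit 3, nat_lit 5, nat_lit 0, nat_lit 1, nat_lit 3, nat_lit 1]
def Wt_185_188 (j : ℕ) : List ℕ := bif Nat.blt j 186 then [nat_lit 3, nat_lit 2, nat_lit 3, nat_lit 0, nat_lit 4, nat_lit 1, nat_lit 0, nat_lit 4, nat_lit 1] else (Wt_186_188 j)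
def Wt_183_188 (j : ℕ) : List ℕ := bif Nat.blt j 185 then (Wt_183_185 j) else (Wt_185_188 j)
def Wt_188_190 (j : ℕ) : List ℕ := bif Nat.blt j 189 then [nat_lit 3, nat_lit 4, nat_lit 3, nat_lit 4, nat_lit 2, nat_lit 3, nat_lit 4, nat_lit 3, nat_lit 4, nat_lit 2, nat_lit 3, nat_lit 4, nat_lit 3, nat_lit 4, nat_lit 2] else [nat_lit 1, nat_lit 2, nat_lit 3, nat_lit 2, nat_lit 0, nat_lit 4, nat_lit 1, nat_lit 0, nat_lit 4]
def Wt_191_193 (j : ℕ) : List ℕ := bif Nat.blt j 192 then [nat_lit 4, nat_lit 3, nat_lit 0, nat_lit 1, nat_lit 4, nat_lit 3, nat_lit 2, nat_lit 4, nat_lit 3, nat_lit 0, nat_lit 1, nat_lit 4, nat_lit 3, nat_lit 2] else [nat_lit 3, nat_lit 0, nat_lit 2, nat_lit 4, nat_lit 1, nat_lit 3, nat_lit 0, nat_lit 2, nat_lit 4, nat_lit 1, nat_lit 3, nat_lit 0, nat_lit 2, nat_lit 4, nat_lit 1]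
def Wt_190_193 (j : ℕ) : List ℕ := bif Nat.blt j 191 then [nat_lit 1, nat_lit 4, nat_lit 3, nat_lit 2, nat_lit 4, nat_lit 3, nat_lit 0, nat_lit 1, nat_lit 4, nat_lit 3, nat_lit 2, nat_lit 4, nat_lit 3, nat_lit 0] else (Wt_191_193 j)
def Wt_188_193 (j : ℕ) : List ℕ := bif Nat.blt j 190 then (Wt_188_190 j) else (Wt_190_193 j)
def Wt_183_193 (j : ℕ) : List ℕ := bif Nat.blt j 188 then (Wt_183_188 j) else (Wt_188_193 j)
def Wt_193_195 (j : ℕ) : List ℕ := bif Nat.blt j 194 then [nat_lit 2, nat_lit 0, nat_lit 2, nat_lit 1, nat_lit 3, nat_lit 1, nat_lit 3, nat_lit 1] else [nat_lit 3, nat_lit 0, nat_lit 5, nat_lit 3, nat_lit 5, nat_lit 2, nat_lit 0, nat_lit 1, nat_lit 2]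
def Wt_196_198 (j : ℕ) : List ℕ := bif Nat.blt j 197 then [nat_lit 4, nat_lit 0, nat_lit 2, nat_lit 3, nat_lit 4, nat_lit 1, nat_lit 0, nat_lit 4, nat_lit 0, nat_lit 2, nat_lit 3, nat_lit 4, nat_lit 1, nat_lit 0] else [nat_lit 2, nat_lit 0, nat_lit 2, nat_lit 5, nat_lit 3, nat_lit 5, nat_lit 3, nat_lit 0, nat_lit 1]
def Wt_195_198 (j : ℕ) : List ℕ := bif Nat.blt j 196 then [nat_lit 0, nat_lit 4, nat_lit 1, nat_lit 2, nat_lit 4, nat_lit 0, nat_lit 2, nat_lit 0, nat_lit 4, nat_lit 1, nat_lit 2, nat_lit 4, nat_lit 0, nat_lit 2] else (Wt_196_198 j)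
def Wt_193_198 (j : ℕ) : List ℕ := bif Nat.blt j 195 then (Wt_193_195 j) else (Wt_195_198 j)
def Wt_198_200 (j : ℕ) : List ℕ := bif Nat.blt j 199 then [nat_lit 4, nat_lit 0, nat_lit 2, nat_lit 0, nat_lit 4, nat_lit 1, nat_lit 2, nat_lit 4, nat_lit 0, nat_lit 2, nat_lit 0, nat_lit 4, nat_lit 1, nat_lit 2] else [nat_lit 4, nat_lit 1, nat_lit 0, nat_lit 4, nat_lit 0, nat_lit 2, nat_lit 3, nat_lit 4, nat_lit 1, nat_lit 0, nat_lit 4, nat_lit 0, nat_lit 2, nat_lit 3]
def Wt_201_203 (j : ℕ) : List ℕ := bif Nat.blt j 202 then [nat_lit 1, nat_lit 3, nat_lit 1, nat_lit 5, nat_lit 3, nat_lit 0, nat_lit 1, nat_lit 3, nat_lit 1, nat_lit 5, nat_lit 3, nat_lit 0] else [nat_lit 0, nat_lit 2, nat_lit 3, nat_lit 1, nat_lit 3, nat_lit 1, nat_lit 0, nat_lit 2, nat_lit 3, nat_lit 1, nat_lit 3, nat_lit 1]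
def Wt_200_203 (j : ℕ) : List ℕ := bif Nat.blt j 201 then [nat_lit 2, nat_lit 0, nat_lit 4, nat_lit 0, nat_lit 1, nat_lit 4, nat_lit 3, nat_lit 2, nat_lit 0, nat_lit 4, nat_lit 0, nat_lit 1, nat_lit 4, nat_lit 3] else (Wt_201_203 j)
def Wt_198_203 (j : ℕ) : List ℕ := bif Nat.blt j 200 then (Wt_198_200 j) else (Wt_200_203 j)
def Wt_193_203 (j : ℕ) : List ℕ := bif Nat.blt j 198 then (Wt_193_198 j) else (Wt_198_203 j)
def Wt_183_203 (j : ℕ) : List ℕ := bif Nat.blt j 193 then (Wt_183_193 j) else (Wt_193_203 j)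
def Wt_163_203 (j : ℕ) : List ℕ := bif Nat.blt j 183 then (Wt_163_183 j) else (Wt_183_203 j)
def Wt_203_205 (j : ℕ) : List ℕ := bif Nat.blt j 204 then [nat_lit 2, nat_lit 5, nat_lit 2, nat_lit 4, nat_lit 2, nat_lit 5, nat_lit 2, nat_lit 4, nat_lit 2, nat_lit 5, nat_lit 2, nat_lit 4] else [nat_lit 2, nat_lit 1, nat_lit 3, nat_lit 0, nat_lit 2, nat_lit 1, nat_lit 3, nat_lit 0, nat_lit 2, nat_lit 1, nat_lit 3, nat_lit 0]
def Wt_206_208 (j : ℕ) : List ℕ := bif Nat.blt j 207 then [nat_lit 5, nat_lit 1, nat_lit 5, nat_lit 2, nat_lit 3, nat_lit 5, nat_lit 1, nat_lit 5, nat_lit 2, nat_lit 3, nat_lit 5, nat_lit 1, nat_lit 5, nat_lit 2, nat_lit 3] else [nat_lit 2, nat_lit 5, nat_lit 1, nat_lit 5, nat_lit 3, nat_lit 2, nat_lit 5, nat_lit 1, nat_lit 5, nat_lit 3, nat_lit 2, nat_lit 5, nat_lit 1, nat_lit 5, nat_lit 3]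
def Wt_205_208 (j : ℕ) : List ℕ := bif Nat.blt j 206 then [nat_lit 5, nat_lit 0, nat_lit 4, nat_lit 0, nat_lit 5, nat_lit 0, nat_lit 4, nat_lit 0, nat_lit 5, nat_lit 0, nat_lit 4, nat_lit 0] else (Wt_206_208 j)
def Wt_203_208 (j : ℕ) : List ℕ := bif Nat.blt j 205 then (Wt_203_205 j) else (Wt_205_208 j)
def Wt_208_210 (j : ℕ) : List ℕ := bif Nat.blt j 209 then [nat_lit 5, nat_lit 2, nat_lit 4, nat_lit 2, nat_lit 5, nat_lit 2, nat_lit 4, nat_lit 2, nat_lit 5, nat_lit 2, nat_lit 4, nat_lit 2] else [nat_lit 5, nat_lit 3, nat_lit 5, nat_lit 1, nat_lit 3, nat_lit 5, nat_lit 3, nat_lit 5, nat_lit 1, nat_lit 3]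
def Wt_211_213 (j : ℕ) : List ℕ := bif Nat.blt j 212 then [nat_lit 1, nat_lit 0, nat_lit 3, nat_lit 4, nat_lit 1, nat_lit 4, nat_lit 1, nat_lit 4, nat_lit 3] else [nat_lit 0, nat_lit 2, nat_lit 4, nat_lit 1, nat_lit 3, nat_lit 0, nat_lit 2, nat_lit 4, nat_lit 1, nat_lit 3, nat_lit 0, nat_lit 2, nat_lit 4, nat_lit 1, nat_lit 3]
def Wt_210_213 (j : ℕ) : List ℕ := bif Nat.blt j 211 then [nat_lit 1, nat_lit 5, nat_lit 3, nat_lit 2, nat_lit 5, nat_lit 1, nat_lit 5, nat_lit 3, nat_lit 2, nat_lit 5, nat_lit 1, nat_lit 5, nat_lit 3, nat_lit 2, nat_lit 5] else (Wt_211_213 j)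
def Wt_208_213 (j : ℕ) : List ℕ := bif Nat.blt j 210 then (Wt_208_210 j) else (Wt_210_213 j)
def Wt_203_213 (j : ℕ) : List ℕ := bif Nat.blt j 208 then (Wt_203_208 j) else (Wt_208_213 j)
def Wt_213_215 (j : ℕ) : List ℕ := bif Nat.blt j 214 then [nat_lit 4, nat_lit 2, nat_lit 1, nat_lit 4, nat_lit 0, nat_lit 2, nat_lit 0, nat_lit 4, nat_lit 2, nat_lit 1, nat_lit 4, nat_lit 0, nat_lit 2, nat_lit 0] else [nat_lit 0, nat_lit 5, nat_lit 1, nat_lit 2, nat_lit 5, nat_lit 2, nat_lit 0, nat_lit 5, nat_lit 1, nat_lit 2, nat_lit 5, nat_lit 2]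
def Wt_216_218 (j : ℕ) : List ℕ := bif Nat.blt j 217 then [nat_lit 0, nat_lit 5, nat_lit 2, nat_lit 5, nat_lit 0, nat_lit 5, nat_lit 2, nat_lit 5, nat_lit 1] else [nat_lit 1, nat_lit 5, nat_lit 2, nat_lit 5, nat_lit 0, nat_lit 5, nat_lit 2, nat_lit 5, nat_lit 0]
def Wt_215_218 (j : ℕ) : List ℕ := bif Nat.blt j 216 then [nat_lit 1, nat_lit 2, nat_lit 0, nat_lit 5, nat_lit 2, nat_lit 0, nat_lit 1, nat_lit 2, nat_lit 0, nat_lit 5, nat_lit 2, nat_lit 0] else (Wt_216_218 j)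
def Wt_213_218 (j : ℕ) : List ℕ := bif Nat.blt j 215 then (Wt_213_215 j) else (Wt_215_218 j)
def Wt_218_220 (j : ℕ) : List ℕ := bif Nat.blt j 219 then [nat_lit 1, nat_lit 5, nat_lit 3, nat_lit 0, nat_lit 1, nat_lit 3, nat_lit 1, nat_lit 5, nat_lit 3, nat_lit 0, nat_lit 1, nat_lit 3] else [nat_lit 1, nat_lit 3, nat_lit 0, nat_lit 1, nat_lit 5, nat_lit 3, nat_lit 5]
def Wt_221_223 (j : ℕ) : List ℕ := bif Nat.blt j 222 then [nat_lit 1, nat_lit 5, nat_lit 2, nat_lit 5, nat_lit 1, nat_lit 5, nat_lit 2, nat_lit 5] else [nat_lit 1, nat_lit 3, nat_lit 5, nat_lit 3, nat_lit 5, nat_lit 1, nat_lit 3, nat_lit 5, nat_lit 3, nat_lit 5]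
def Wt_220_223 (j : ℕ) : List ℕ := bif Nat.blt j 221 then [nat_lit 0, nat_lit 2, nat_lit 0, nat_lit 1, nat_lit 3, nat_lit 5, nat_lit 3, nat_lit 5, nat_lit 2] else (Wt_221_223 j)
def Wt_218_223 (j : ℕ) : List ℕ := bif Nat.blt j 220 then (Wt_218_220 j) else (Wt_220_223 j)
def Wt_213_223 (j : ℕ) : List ℕ := bif Nat.blt j 218 then (Wt_213_218 j) else (Wt_218_223 j)
def Wt_203_223 (j : ℕ) : List ℕ := bif Nat.blt j 213 then (Wt_203_213 j) else (Wt_213_223 j)
def Wt_223_225 (j : ℕ) : List ℕ := bif Nat.blt j 224 then [nat_lit 1, nat_lit 0, nat_lit 5, nat_lit 3, nat_lit 5, nat_lit 1, nat_lit 3] else [nat_lit 0, nat_lit 3, nat_lit 1, nat_lit 5, nat_lit 3, nat_lit 5, nat_lit 1]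
def Wt_226_228 (j : ℕ) : List ℕ := bif Nat.blt j 227 then [nat_lit 5, nat_lit 3, nat_lit 5, nat_lit 3, nat_lit 0, nat_lit 1, nat_lit 2, nat_lit 0, nat_lit 2] else [nat_lit 1, nat_lit 2, nat_lit 0, nat_lit 3, nat_lit 1, nat_lit 2, nat_lit 0, nat_lit 3, nat_lit 1, nat_lit 2, nat_lit 0, nat_lit 3]
def Wt_225_228 (j : ℕ) : List ℕ := bif Nat.blt j 226 then [nat_lit 0, nat_lit 2, nat_lit 1, nat_lit 0, nat_lit 3, nat_lit 5, nat_lit 3, nat_lit 5, nat_lit 2] else (Wt_226_228 j)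
def Wt_223_228 (j : ℕ) : List ℕ := bif Nat.blt j 225 then (Wt_223_225 j) else (Wt_225_228 j)
def Wt_228_230 (j : ℕ) : List ℕ := bif Nat.blt j 229 then [nat_lit 1, nat_lit 5, nat_lit 0, nat_lit 2, nat_lit 0, nat_lit 5, nat_lit 2] else [nat_lit 0, nat_lit 1, nat_lit 5, nat_lit 1, nat_lit 2, nat_lit 5, nat_lit 0, nat_lit 2, nat_lit 1]
def Wt_231_233 (j : ℕ) : List ℕ := bif Nat.blt j 232 then [nat_lit 63, nat_lit 0, nat_lit 5, nat_lit 2, nat_lit 5, nat_lit 0, nat_lit 5, nat_lit 2, nat_lit 5, nat_lit 1] else [nat_lit 1, nat_lit 1, nat_lit 63]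
def Wt_230_233 (j : ℕ) : List ℕ := bif Nat.blt j 231 then [nat_lit 0, nat_lit 5, nat_lit 1, nat_lit 0, nat_lit 3, nat_lit 1, nat_lit 5, nat_lit 0, nat_lit 3] else (Wt_231_233 j)
def Wt_228_233 (j : ℕ) : List ℕ := bif Nat.blt j 230 then (Wt_228_230 j) else (Wt_230_233 j)
def Wt_223_233 (j : ℕ) : List ℕ := bif Nat.blt j 228 then (Wt_223_228 j) else (Wt_228_233 j)
def Wt_233_235 (j : ℕ) : List ℕ := bif Nat.blt j 234 then [nat_lit 1, nat_lit 5, nat_lit 3, nat_lit 5, nat_lit 0, nat_lit 1, nat_lit 3] else [nat_lit 4, nat_lit 2, nat_lit 1, nat_lit 0, nat_lit 4, nat_lit 2, nat_lit 3, nat_lit 4, nat_lit 2]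
def Wt_236_238 (j : ℕ) : List ℕ := bif Nat.blt j 237 then [nat_lit 3, nat_lit 4, nat_lit 1, nat_lit 0, nat_lit 4, nat_lit 0, nat_lit 2, nat_lit 3, nat_lit 4, nat_lit 1, nat_lit 0, nat_lit 4, nat_lit 0, nat_lit 2] else [nat_lit 3, nat_lit 4, nat_lit 2, nat_lit 0, nat_lit 4, nat_lit 0, nat_lit 2, nat_lit 4]
def Wt_235_238 (j : ℕ) : List ℕ := bif Nat.blt j 236 then [nat_lit 2, nat_lit 4, nat_lit 3, nat_lit 4, nat_lit 3, nat_lit 2, nat_lit 4, nat_lit 3, nat_lit 4, nat_lit 3, nat_lit 2, nat_lit 4, nat_lit 3, nat_lit 4, nat_lit 3] else (Wt_236_238 j)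
def Wt_233_238 (j : ℕ) : List ℕ := bif Nat.blt j 235 then (Wt_233_235 j) else (Wt_235_238 j)
def Wt_239_241 (j : ℕ) : List ℕ := bif Nat.blt j 240 then [nat_lit 3, nat_lit 4, nat_lit 1, nat_lit 0, nat_lit 3, nat_lit 4, nat_lit 2, nat_lit 3, nat_lit 4, nat_lit 1, nat_lit 0, nat_lit 3, nat_lit 4, nat_lit 2] else [nat_lit 5, nat_lit 0, nat_lit 1, nat_lit 3, nat_lit 1, nat_lit 5, nat_lit 3]
def Wt_238_241 (j : ℕ) : List ℕ := bif Nat.blt j 239 then [nat_lit 4, nat_lit 2, nat_lit 3, nat_lit 4, nat_lit 1, nat_lit 0, nat_lit 3, nat_lit 4, nat_lit 2, nat_lit 3, nat_lit 4, nat_lit 1, nat_lit 0, nat_lit 3] else (Wt_239_241 j)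
def Wt_242_244 (j : ℕ) : List ℕ := bif Nat.blt j 243 then [nat_lit 2, nat_lit 5, nat_lit 2, nat_lit 1, nat_lit 5, nat_lit 0, nat_lit 2, nat_lit 5, nat_lit 2, nat_lit 1, nat_lit 5, nat_lit 0] else [nat_lit 1, nat_lit 2, nat_lit 3, nat_lit 5, nat_lit 3, nat_lit 2, nat_lit 1, nat_lit 5]
def Wt_241_244 (j : ℕ) : List ℕ := bif Nat.blt j 242 then [nat_lit 0, nat_lit 1, nat_lit 5, nat_lit 3, nat_lit 5, nat_lit 1, nat_lit 3] else (Wt_242_244 j)
def Wt_238_244 (j : ℕ) : List ℕ := bif Nat.blt j 241 then (Wt_238_241 j) else (Wt_241_244 j)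
def Wt_233_244 (j : ℕ) : List ℕ := bif Nat.blt j 238 then (Wt_233_238 j) else (Wt_238_244 j)
def Wt_223_244 (j : ℕ) : List ℕ := bif Nat.blt j 233 then (Wt_223_233 j) else (Wt_233_244 j)
def Wt_203_244 (j : ℕ) : List ℕ := bif Nat.blt j 223 then (Wt_203_223 j) else (Wt_223_244 j)
def Wt_163_244 (j : ℕ) : List ℕ := bif Nat.blt j 203 then (Wt_163_203 j) else (Wt_203_244 j)
def Wt_244_246 (j : ℕ) : List ℕ := bif Nat.blt j 245 then [nat_lit 1, nat_lit 3, nat_lit 1, nat_lit 5, nat_lit 3, nat_lit 5, nat_lit 0] else [nat_lit 1, nat_lit 5, nat_lit 3, nat_lit 5, nat_lit 3, nat_lit 1, nat_lit 5, nat_lit 3, nat_lit 5, nat_lit 3]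
def Wt_247_249 (j : ℕ) : List ℕ := bif Nat.blt j 248 then [nat_lit 1, nat_lit 2, nat_lit 4, nat_lit 0, nat_lit 2, nat_lit 0, nat_lit 4, nat_lit 1, nat_lit 2, nat_lit 4, nat_lit 0, nat_lit 2, nat_lit 0, nat_lit 4] else [nat_lit 4, nat_lit 1, nat_lit 2, nat_lit 3, nat_lit 2, nat_lit 0, nat_lit 4, nat_lit 1, nat_lit 0]
def Wt_246_249 (j : ℕ) : List ℕ := bif Nat.blt j 247 then [nat_lit 3, nat_lit 2, nat_lit 3, nat_lit 2, nat_lit 1, nat_lit 3, nat_lit 2, nat_lit 0] else (Wt_247_249 j)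
def Wt_244_249 (j : ℕ) : List ℕ := bif Nat.blt j 246 then (Wt_244_246 j) else (Wt_246_249 j)
def Wt_249_251 (j : ℕ) : List ℕ := bif Nat.blt j 250 then [nat_lit 2, nat_lit 0, nat_lit 1, nat_lit 2, nat_lit 0, nat_lit 5, nat_lit 2, nat_lit 0, nat_lit 1, nat_lit 2, nat_lit 0, nat_lit 5] else [nat_lit 0, nat_lit 5, nat_lit 0, nat_lit 4, nat_lit 0, nat_lit 5, nat_lit 0, nat_lit 4, nat_lit 0, nat_lit 5, nat_lit 0, nat_lit 4]
def Wt_252_254 (j : ℕ) : List ℕ := bif Nat.blt j 253 then [nat_lit 63, nat_lit 1, nat_lit 2, nat_lit 5, nat_lit 2, nat_lit 0, nat_lit 5, nat_lit 1, nat_lit 2, nat_lit 5, nat_lit 2, nat_lit 0, nat_lit 5] else [nat_lit 0, nat_lit 0, nat_lit 63]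
def Wt_251_254 (j : ℕ) : List ℕ := bif Nat.blt j 252 then [nat_lit 5, nat_lit 0, nat_lit 2, nat_lit 5, nat_lit 3, nat_lit 2, nat_lit 1, nat_lit 5, nat_lit 0, nat_lit 2, nat_lit 5, nat_lit 3, nat_lit 2, nat_lit 1] else (Wt_252_254 j)
def Wt_249_254 (j : ℕ) : List ℕ := bif Nat.blt j 251 then (Wt_249_251 j) else (Wt_251_254 j)
def Wt_244_254 (j : ℕ) : List ℕ := bif Nat.blt j 249 then (Wt_244_249 j) else (Wt_249_254 j)
def Wt_254_256 (j : ℕ) : List ℕ := bif Nat.blt j 255 then [nat_lit 4, nat_lit 4, nat_lit 63] else [nat_lit 63, nat_lit 1, nat_lit 0, nat_lit 1, nat_lit 2, nat_lit 0, nat_lit 5, nat_lit 2, nat_lit 1, nat_lit 5]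
def Wt_257_259 (j : ℕ) : List ℕ := bif Nat.blt j 258 then [nat_lit 3, nat_lit 1, nat_lit 0, nat_lit 5, nat_lit 3, nat_lit 5, nat_lit 2, nat_lit 1, nat_lit 2] else [nat_lit 3, nat_lit 5, nat_lit 1, nat_lit 2, nat_lit 5, nat_lit 2, nat_lit 3, nat_lit 1, nat_lit 0]
def Wt_256_259 (j : ℕ) : List ℕ := bif Nat.blt j 257 then [nat_lit 5, nat_lit 3, nat_lit 5, nat_lit 0, nat_lit 5, nat_lit 3, nat_lit 5, nat_lit 0] else (Wt_257_259 j)
def Wt_254_259 (j : ℕ) : List ℕ := bif Nat.blt j 256 then (Wt_254_256 j) else (Wt_256_259 j)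
def Wt_259_261 (j : ℕ) : List ℕ := bif Nat.blt j 260 then [nat_lit 5, nat_lit 1, nat_lit 0, nat_lit 3, nat_lit 1, nat_lit 5, nat_lit 0, nat_lit 3, nat_lit 0] else [nat_lit 5, nat_lit 4, nat_lit 1, nat_lit 2, nat_lit 5, nat_lit 2, nat_lit 1, nat_lit 5, nat_lit 4, nat_lit 1, nat_lit 2, nat_lit 5, nat_lit 2, nat_lit 1]
def Wt_262_264 (j : ℕ) : List ℕ := bif Nat.blt j 263 then [nat_lit 5, nat_lit 1, nat_lit 2, nat_lit 3, nat_lit 5, nat_lit 2, nat_lit 0, nat_lit 5, nat_lit 1, nat_lit 2, nat_lit 3, nat_lit 5, nat_lit 2, nat_lit 0] else [nat_lit 3, nat_lit 5, nat_lit 3, nat_lit 5, nat_lit 0, nat_lit 3, nat_lit 5, nat_lit 3, nat_lit 5, nat_lit 0]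
def Wt_261_264 (j : ℕ) : List ℕ := bif Nat.blt j 262 then [nat_lit 2, nat_lit 5, nat_lit 2, nat_lit 5, nat_lit 2, nat_lit 5, nat_lit 2, nat_lit 5] else (Wt_262_264 j)
def Wt_259_264 (j : ℕ) : List ℕ := bif Nat.blt j 261 then (Wt_259_261 j) else (Wt_261_264 j)
def Wt_254_264 (j : ℕ) : List ℕ := bif Nat.blt j 259 then (Wt_254_259 j) else (Wt_259_264 j)
def Wt_244_264 (j : ℕ) : List ℕ := bif Nat.blt j 254 then (Wt_244_254 j) else (Wt_254_264 j)
def Wt_264_266 (j : ℕ) : List ℕ := bif Nat.blt j 265 then [nat_lit 5, nat_lit 3, nat_lit 5, nat_lit 0, nat_lit 3, nat_lit 5, nat_lit 3, nat_lit 5, nat_lit 0, nat_lit 3] else [nat_lit 0, nat_lit 5, nat_lit 3, nat_lit 5, nat_lit 3, nat_lit 0, nat_lit 5, nat_lit 3, nat_lit 5, nat_lit 3]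
def Wt_267_269 (j : ℕ) : List ℕ := bif Nat.blt j 268 then [nat_lit 3, nat_lit 0, nat_lit 1, nat_lit 3, nat_lit 1, nat_lit 5, nat_lit 3, nat_lit 0, nat_lit 1, nat_lit 3, nat_lit 1, nat_lit 5] else [nat_lit 2, nat_lit 5, nat_lit 1, nat_lit 0, nat_lit 5, nat_lit 2, nat_lit 5, nat_lit 0, nat_lit 5]
def Wt_266_269 (j : ℕ) : List ℕ := bif Nat.blt j 267 then [nat_lit 2, nat_lit 1, nat_lit 3, nat_lit 2, nat_lit 0, nat_lit 3, nat_lit 2, nat_lit 3] else (Wt_267_269 j)
def Wt_264_269 (j : ℕ) : List ℕ := bif Nat.blt j 266 then (Wt_264_266 j) else (Wt_266_269 j)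
def Wt_269_271 (j : ℕ) : List ℕ := bif Nat.blt j 270 then [nat_lit 0, nat_lit 2, nat_lit 1, nat_lit 0, nat_lit 1, nat_lit 5, nat_lit 1, nat_lit 2, nat_lit 5] else [nat_lit 4, nat_lit 0, nat_lit 1, nat_lit 4, nat_lit 2, nat_lit 3, nat_lit 2]
def Wt_272_274 (j : ℕ) : List ℕ := bif Nat.blt j 273 then [nat_lit 63, nat_lit 5, nat_lit 1, nat_lit 2, nat_lit 5, nat_lit 2, nat_lit 1, nat_lit 4, nat_lit 5, nat_lit 1, nat_lit 2, nat_lit 5, nat_lit 2, nat_lit 1, nat_lit 4] else [nat_lit 5, nat_lit 3, nat_lit 2, nat_lit 1, nat_lit 5, nat_lit 0, nat_lit 2, nat_lit 5, nat_lit 3, nat_lit 2, nat_lit 1, nat_lit 5, nat_lit 0, nat_lit 2]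
def Wt_271_274 (j : ℕ) : List ℕ := bif Nat.blt j 272 then [nat_lit 5, nat_lit 3, nat_lit 2, nat_lit 1, nat_lit 5, nat_lit 1, nat_lit 2, nat_lit 3] else (Wt_272_274 j)
def Wt_269_274 (j : ℕ) : List ℕ := bif Nat.blt j 271 then (Wt_269_271 j) else (Wt_271_274 j)
def Wt_264_274 (j : ℕ) : List ℕ := bif Nat.blt j 269 then (Wt_264_269 j) else (Wt_269_274 j)
def Wt_274_276 (j : ℕ) : List ℕ := bif Nat.blt j 275 then [nat_lit 3, nat_lit 0, nat_lit 3, nat_lit 2, nat_lit 0, nat_lit 1, nat_lit 3, nat_lit 0, nat_lit 3, nat_lit 2, nat_lit 0, nat_lit 1] else [nat_lit 0, nat_lit 2, nat_lit 4, nat_lit 3, nat_lit 4, nat_lit 2, nat_lit 0, nat_lit 4]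
def Wt_277_279 (j : ℕ) : List ℕ := bif Nat.blt j 278 then [nat_lit 3, nat_lit 2, nat_lit 4, nat_lit 0, nat_lit 1, nat_lit 2, nat_lit 4, nat_lit 2, nat_lit 4] else [nat_lit 4, nat_lit 1, nat_lit 2, nat_lit 5, nat_lit 2, nat_lit 1, nat_lit 5, nat_lit 4, nat_lit 1, nat_lit 2, nat_lit 5, nat_lit 2, nat_lit 1, nat_lit 5]
def Wt_276_279 (j : ℕ) : List ℕ := bif Nat.blt j 277 then [nat_lit 2, nat_lit 1, nat_lit 4, nat_lit 0, nat_lit 2, nat_lit 0, nat_lit 4, nat_lit 2, nat_lit 1, nat_lit 4, nat_lit 0, nat_lit 2, nat_lit 0, nat_lit 4] else (Wt_277_279 j)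
def Wt_274_279 (j : ℕ) : List ℕ := bif Nat.blt j 276 then (Wt_274_276 j) else (Wt_276_279 j)
def Wt_280_282 (j : ℕ) : List ℕ := bif Nat.blt j 281 then [nat_lit 0, nat_lit 2, nat_lit 3, nat_lit 2, nat_lit 1, nat_lit 2, nat_lit 3, nat_lit 2] else [nat_lit 5, nat_lit 1, nat_lit 0, nat_lit 1, nat_lit 2, nat_lit 0, nat_lit 5, nat_lit 2, nat_lit 1]
def Wt_279_282 (j : ℕ) : List ℕ := bif Nat.blt j 280 then [nat_lit 2, nat_lit 3, nat_lit 4, nat_lit 1, nat_lit 0, nat_lit 4, nat_lit 3] else (Wt_280_282 j)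
def Wt_283_285 (j : ℕ) : List ℕ := bif Nat.blt j 284 then [nat_lit 5, nat_lit 2, nat_lit 1, nat_lit 5, nat_lit 0, nat_lit 2, nat_lit 0] else [nat_lit 5, nat_lit 2, nat_lit 5, nat_lit 2, nat_lit 5, nat_lit 2, nat_lit 5, nat_lit 2]
def Wt_282_285 (j : ℕ) : List ℕ := bif Nat.blt j 283 then [nat_lit 4, nat_lit 3, nat_lit 2, nat_lit 3, nat_lit 4, nat_lit 1, nat_lit 0] else (Wt_283_285 j)
def Wt_279_285 (j : ℕ) : List ℕ := bif Nat.blt j 282 then (Wt_279_282 j) else (Wt_282_285 j)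
def Wt_274_285 (j : ℕ) : List ℕ := bif Nat.blt j 279 then (Wt_274_279 j) else (Wt_279_285 j)
def Wt_264_285 (j : ℕ) : List ℕ := bif Nat.blt j 274 then (Wt_264_274 j) else (Wt_274_285 j)
def Wt_244_285 (j : ℕ) : List ℕ := bif Nat.blt j 264 then (Wt_244_264 j) else (Wt_264_285 j)
def Wt_285_287 (j : ℕ) : List ℕ := bif Nat.blt j 286 then [nat_lit 5, nat_lit 0, nat_lit 5, nat_lit 0, nat_lit 5, nat_lit 0, nat_lit 5, nat_lit 0] else [nat_lit 5, nat_lit 1, nat_lit 5, nat_lit 1, nat_lit 5, nat_lit 1, nat_lit 5, nat_lit 1]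
def Wt_288_290 (j : ℕ) : List ℕ := bif Nat.blt j 289 then [nat_lit 4, nat_lit 5, nat_lit 4, nat_lit 5, nat_lit 1, nat_lit 4, nat_lit 5, nat_lit 4, nat_lit 5, nat_lit 1, nat_lit 4, nat_lit 5, nat_lit 4, nat_lit 5, nat_lit 1] else [nat_lit 5, nat_lit 4, nat_lit 5, nat_lit 1, nat_lit 4, nat_lit 5, nat_lit 4, nat_lit 5, nat_lit 1, nat_lit 4, nat_lit 5, nat_lit 4, nat_lit 5, nat_lit 1, nat_lit 4]
def Wt_287_290 (j : ℕ) : List ℕ := bif Nat.blt j 288 then [nat_lit 3, nat_lit 4, nat_lit 2, nat_lit 4, nat_lit 2, nat_lit 1, nat_lit 0, nat_lit 4, nat_lit 2] else (Wt_288_290 j)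
def Wt_285_290 (j : ℕ) : List ℕ := bif Nat.blt j 287 then (Wt_285_287 j) else (Wt_287_290 j)
def Wt_290_292 (j : ℕ) : List ℕ := bif Nat.blt j 291 then [nat_lit 5, nat_lit 2, nat_lit 1, nat_lit 5, nat_lit 4, nat_lit 1, nat_lit 2, nat_lit 5, nat_lit 2, nat_lit 1, nat_lit 5, nat_lit 4, nat_lit 1, nat_lit 2] else [nat_lit 2, nat_lit 4, nat_lit 5, nat_lit 2, nat_lit 5, nat_lit 2, nat_lit 4, nat_lit 5, nat_lit 2, nat_lit 5, nat_lit 2, nat_lit 4, nat_lit 5, nat_lit 2, nat_lit 5]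
def Wt_293_295 (j : ℕ) : List ℕ := bif Nat.blt j 294 then [nat_lit 63, nat_lit 2, nat_lit 3, nat_lit 2, nat_lit 1, nat_lit 3, nat_lit 2, nat_lit 0, nat_lit 3] else [nat_lit 2, nat_lit 2, nat_lit 63]
def Wt_292_295 (j : ℕ) : List ℕ := bif Nat.blt j 293 then [nat_lit 1, nat_lit 0, nat_lit 2, nat_lit 0, nat_lit 2, nat_lit 5, nat_lit 3, nat_lit 5, nat_lit 3] else (Wt_293_295 j)
def Wt_290_295 (j : ℕ) : List ℕ := bif Nat.blt j 292 then (Wt_290_292 j) else (Wt_292_295 j)
def Wt_285_295 (j : ℕ) : List ℕ := bif Nat.blt j 290 then (Wt_285_290 j) else (Wt_290_295 j)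
def Wt_295_297 (j : ℕ) : List ℕ := bif Nat.blt j 296 then [nat_lit 63, nat_lit 0, nat_lit 4, nat_lit 3, nat_lit 2, nat_lit 3, nat_lit 4, nat_lit 1] else [nat_lit 63, nat_lit 1, nat_lit 63, nat_lit 1]
def Wt_298_300 (j : ℕ) : List ℕ := bif Nat.blt j 299 then [nat_lit 63, nat_lit 0, nat_lit 63, nat_lit 0] else [nat_lit 63, nat_lit 3, nat_lit 63, nat_lit 3]
def Wt_297_300 (j : ℕ) : List ℕ := bif Nat.blt j 298 then [nat_lit 63, nat_lit 2, nat_lit 63, nat_lit 2] else (Wt_298_300 j)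
def Wt_295_300 (j : ℕ) : List ℕ := bif Nat.blt j 297 then (Wt_295_297 j) else (Wt_297_300 j)
def Wt_300_302 (j : ℕ) : List ℕ := bif Nat.blt j 301 then [nat_lit 3, nat_lit 3, nat_lit 63] else [nat_lit 5, nat_lit 1, nat_lit 2, nat_lit 3, nat_lit 5, nat_lit 3, nat_lit 2, nat_lit 1]
def Wt_303_305 (j : ℕ) : List ℕ := bif Nat.blt j 304 then [nat_lit 2, nat_lit 0, nat_lit 1, nat_lit 2, nat_lit 3, nat_lit 0, nat_lit 5, nat_lit 3, nat_lit 5] else [nat_lit 2, nat_lit 0, nat_lit 2, nat_lit 1, nat_lit 0, nat_lit 3, nat_lit 5, nat_lit 3, nat_lit 5]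
def Wt_302_305 (j : ℕ) : List ℕ := bif Nat.blt j 303 then [nat_lit 3, nat_lit 2, nat_lit 0, nat_lit 3, nat_lit 2, nat_lit 3, nat_lit 2, nat_lit 1] else (Wt_303_305 j)
def Wt_300_305 (j : ℕ) : List ℕ := bif Nat.blt j 302 then (Wt_300_302 j) else (Wt_302_305 j)
def Wt_295_305 (j : ℕ) : List ℕ := bif Nat.blt j 300 then (Wt_295_300 j) else (Wt_300_305 j)
def Wt_285_305 (j : ℕ) : List ℕ := bif Nat.blt j 295 then (Wt_285_295 j) else (Wt_295_305 j)
def Wt_305_307 (j : ℕ) : List ℕ := bif Nat.blt j 306 then [nat_lit 3, nat_lit 2, nat_lit 3, nat_lit 4, nat_lit 1, nat_lit 0, nat_lit 4] else [nat_lit 63, nat_lit 5, nat_lit 1, nat_lit 2, nat_lit 3, nat_lit 5, nat_lit 3, nat_lit 2, nat_lit 1]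
def Wt_308_310 (j : ℕ) : List ℕ := bif Nat.blt j 309 then [nat_lit 0, nat_lit 2, nat_lit 3, nat_lit 1, nat_lit 2, nat_lit 3, nat_lit 2, nat_lit 3] else [nat_lit 0, nat_lit 1, nat_lit 2, nat_lit 3, nat_lit 1, nat_lit 3, nat_lit 2, nat_lit 1]
def Wt_307_310 (j : ℕ) : List ℕ := bif Nat.blt j 308 then [nat_lit 63, nat_lit 3, nat_lit 2, nat_lit 3, nat_lit 2, nat_lit 1, nat_lit 3, nat_lit 2, nat_lit 0] else (Wt_308_310 j)
def Wt_305_310 (j : ℕ) : List ℕ := bif Nat.blt j 307 then (Wt_305_307 j) else (Wt_307_310 j)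
def Wt_310_312 (j : ℕ) : List ℕ := bif Nat.blt j 311 then [nat_lit 63, nat_lit 0, nat_lit 5, nat_lit 1, nat_lit 2, nat_lit 5, nat_lit 2, nat_lit 0, nat_lit 5, nat_lit 1, nat_lit 2, nat_lit 5, nat_lit 2] else [nat_lit 5, nat_lit 5, nat_lit 63]
def Wt_313_315 (j : ℕ) : List ℕ := bif Nat.blt j 314 then [nat_lit 63, nat_lit 1, nat_lit 3, nat_lit 1, nat_lit 5, nat_lit 3, nat_lit 0, nat_lit 1, nat_lit 3, nat_lit 1, nat_lit 5, nat_lit 3, nat_lit 0] else [nat_lit 1, nat_lit 3, nat_lit 2, nat_lit 1, nat_lit 0, nat_lit 1, nat_lit 2, nat_lit 3]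
def Wt_312_315 (j : ℕ) : List ℕ := bif Nat.blt j 313 then [nat_lit 0, nat_lit 5, nat_lit 3, nat_lit 5, nat_lit 2, nat_lit 0, nat_lit 1, nat_lit 2, nat_lit 3] else (Wt_313_315 j)
def Wt_310_315 (j : ℕ) : List ℕ := bif Nat.blt j 312 then (Wt_310_312 j) else (Wt_312_315 j)
def Wt_305_315 (j : ℕ) : List ℕ := bif Nat.blt j 310 then (Wt_305_310 j) else (Wt_310_315 j)
def Wt_315_317 (j : ℕ) : List ℕ := bif Nat.blt j 316 then [nat_lit 1, nat_lit 2, nat_lit 3, nat_lit 2, nat_lit 0, nat_lit 2, nat_lit 3, nat_lit 2] else [nat_lit 3, nat_lit 5, nat_lit 3, nat_lit 5, nat_lit 1, nat_lit 3, nat_lit 5, nat_lit 3, nat_lit 5, nat_lit 1]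
def Wt_318_320 (j : ℕ) : List ℕ := bif Nat.blt j 319 then [nat_lit 3, nat_lit 4, nat_lit 1, nat_lit 0, nat_lit 4, nat_lit 3, nat_lit 2] else [nat_lit 1, nat_lit 0, nat_lit 3, nat_lit 1, nat_lit 5, nat_lit 3, nat_lit 5]
def Wt_317_320 (j : ℕ) : List ℕ := bif Nat.blt j 318 then [nat_lit 63, nat_lit 4, nat_lit 2, nat_lit 5, nat_lit 2, nat_lit 4, nat_lit 2, nat_lit 5, nat_lit 2, nat_lit 4, nat_lit 2, nat_lit 5, nat_lit 2] else (Wt_318_320 j)
def Wt_315_320 (j : ℕ) : List ℕ := bif Nat.blt j 317 then (Wt_315_317 j) else (Wt_317_320 j)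
def Wt_321_323 (j : ℕ) : List ℕ := bif Nat.blt j 322 then [nat_lit 5, nat_lit 0, nat_lit 2, nat_lit 0, nat_lit 5, nat_lit 1, nat_lit 2] else [nat_lit 2, nat_lit 5, nat_lit 0, nat_lit 2, nat_lit 1, nat_lit 0, nat_lit 2, nat_lit 5, nat_lit 0, nat_lit 2, nat_lit 1, nat_lit 0]
def Wt_320_323 (j : ℕ) : List ℕ := bif Nat.blt j 321 then [nat_lit 4, nat_lit 1, nat_lit 2, nat_lit 4, nat_lit 0, nat_lit 2, nat_lit 0, nat_lit 4, nat_lit 1, nat_lit 2, nat_lit 4, nat_lit 0, nat_lit 2, nat_lit 0] else (Wt_321_323 j)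
def Wt_324_326 (j : ℕ) : List ℕ := bif Nat.blt j 325 then [nat_lit 5, nat_lit 2, nat_lit 5, nat_lit 0, nat_lit 1, nat_lit 5, nat_lit 2, nat_lit 5, nat_lit 0] else [nat_lit 3, nat_lit 0, nat_lit 1, nat_lit 3, nat_lit 2, nat_lit 5, nat_lit 2, nat_lit 1, nat_lit 5]
def Wt_323_326 (j : ℕ) : List ℕ := bif Nat.blt j 324 then [nat_lit 2, nat_lit 3, nat_lit 0, nat_lit 2, nat_lit 3, nat_lit 1, nat_lit 2, nat_lit 3] else (Wt_324_326 j)
def Wt_320_326 (j : ℕ) : List ℕ := bif Nat.blt j 323 then (Wt_320_323 j) else (Wt_323_326 j)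
def Wt_315_326 (j : ℕ) : List ℕ := bif Nat.blt j 320 then (Wt_315_320 j) else (Wt_320_326 j)
def Wt_305_326 (j : ℕ) : List ℕ := bif Nat.blt j 315 then (Wt_305_315 j) else (Wt_315_326 j)
def Wt_285_326 (j : ℕ) : List ℕ := bif Nat.blt j 305 then (Wt_285_305 j) else (Wt_305_326 j)
def Wt_244_326 (j : ℕ) : List ℕ := bif Nat.blt j 285 then (Wt_244_285 j) else (Wt_285_326 j)
def Wt_163_326 (j : ℕ) : List ℕ := bif Nat.blt j 244 then (Wt_163_244 j) else (Wt_244_326 j)
def Wt_0_326 (j : ℕ) : List ℕ := bif Nat.blt j 163 then (Wt_0_163 j) else (Wt_163_326 j)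
def Wt_326_328 (j : ℕ) : List ℕ := bif Nat.blt j 327 then [nat_lit 5, nat_lit 0, nat_lit 3, nat_lit 0, nat_lit 5, nat_lit 1, nat_lit 3, nat_lit 0, nat_lit 1] else [nat_lit 4, nat_lit 3, nat_lit 4, nat_lit 3, nat_lit 4, nat_lit 3, nat_lit 4, nat_lit 3]
def Wt_329_331 (j : ℕ) : List ℕ := bif Nat.blt j 330 then [nat_lit 5, nat_lit 2, nat_lit 0, nat_lit 5, nat_lit 1, nat_lit 2, nat_lit 5, nat_lit 2, nat_lit 0, nat_lit 5, nat_lit 1, nat_lit 2] else [nat_lit 3, nat_lit 5, nat_lit 3, nat_lit 2, nat_lit 1, nat_lit 0, nat_lit 2, nat_lit 0, nat_lit 5]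
def Wt_328_331 (j : ℕ) : List ℕ := bif Nat.blt j 329 then [nat_lit 63, nat_lit 4, nat_lit 1, nat_lit 2, nat_lit 5, nat_lit 2, nat_lit 1, nat_lit 5, nat_lit 4, nat_lit 1, nat_lit 2, nat_lit 5, nat_lit 2, nat_lit 1, nat_lit 5] else (Wt_329_331 j)
def Wt_326_331 (j : ℕ) : List ℕ := bif Nat.blt j 328 then (Wt_326_328 j) else (Wt_328_331 j)
def Wt_331_333 (j : ℕ) : List ℕ := bif Nat.blt j 332 then [nat_lit 5, nat_lit 3, nat_lit 5, nat_lit 1, nat_lit 3, nat_lit 0, nat_lit 1] else [nat_lit 3, nat_lit 2, nat_lit 1, nat_lit 2, nat_lit 5, nat_lit 3, nat_lit 5, nat_lit 0, nat_lit 1]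
def Wt_334_336 (j : ℕ) : List ℕ := bif Nat.blt j 335 then [nat_lit 2, nat_lit 5, nat_lit 2, nat_lit 1, nat_lit 5, nat_lit 4, nat_lit 1, nat_lit 2, nat_lit 5, nat_lit 2, nat_lit 1, nat_lit 5, nat_lit 4, nat_lit 1] else [nat_lit 3, nat_lit 4, nat_lit 3, nat_lit 2, nat_lit 4, nat_lit 3, nat_lit 4, nat_lit 3, nat_lit 2, nat_lit 4, nat_lit 3, nat_lit 4, nat_lit 3, nat_lit 2, nat_lit 4]
def Wt_333_336 (j : ℕ) : List ℕ := bif Nat.blt j 334 then [nat_lit 5, nat_lit 2, nat_lit 3, nat_lit 5, nat_lit 1, nat_lit 5, nat_lit 2, nat_lit 3, nat_lit 5, nat_lit 1, nat_lit 5, nat_lit 2, nat_lit 3, nat_lit 5, nat_lit 1] else (Wt_334_336 j)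
def Wt_331_336 (j : ℕ) : List ℕ := bif Nat.blt j 333 then (Wt_331_333 j) else (Wt_333_336 j)
def Wt_326_336 (j : ℕ) : List ℕ := bif Nat.blt j 331 then (Wt_326_331 j) else (Wt_331_336 j)
def Wt_336_338 (j : ℕ) : List ℕ := bif Nat.blt j 337 then [nat_lit 2, nat_lit 0, nat_lit 3, nat_lit 1, nat_lit 4, nat_lit 2, nat_lit 0, nat_lit 3, nat_lit 1, nat_lit 4, nat_lit 2, nat_lit 0, nat_lit 3, nat_lit 1, nat_lit 4] else [nat_lit 0, nat_lit 1, nat_lit 2, nat_lit 0, nat_lit 5, nat_lit 2, nat_lit 0, nat_lit 1, nat_lit 2, nat_lit 0, nat_lit 5, nat_lit 2]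
def Wt_339_341 (j : ℕ) : List ℕ := bif Nat.blt j 340 then [nat_lit 2, nat_lit 5, nat_lit 3, nat_lit 2, nat_lit 1, nat_lit 5, nat_lit 0, nat_lit 2, nat_lit 5, nat_lit 3, nat_lit 2, nat_lit 1, nat_lit 5, nat_lit 0] else [nat_lit 4, nat_lit 5, nat_lit 1, nat_lit 2, nat_lit 5, nat_lit 2, nat_lit 1, nat_lit 4, nat_lit 5, nat_lit 1, nat_lit 2, nat_lit 5, nat_lit 2, nat_lit 1]
def Wt_338_341 (j : ℕ) : List ℕ := bif Nat.blt j 339 then [nat_lit 5, nat_lit 2, nat_lit 5, nat_lit 4, nat_lit 2, nat_lit 5, nat_lit 2, nat_lit 5, nat_lit 4, nat_lit 2, nat_lit 5, nat_lit 2, nat_lit 5, nat_lit 4, nat_lit 2] else (Wt_339_341 j)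
def Wt_336_341 (j : ℕ) : List ℕ := bif Nat.blt j 338 then (Wt_336_338 j) else (Wt_338_341 j)
def Wt_341_343 (j : ℕ) : List ℕ := bif Nat.blt j 342 then [nat_lit 4, nat_lit 2, nat_lit 5, nat_lit 2, nat_lit 4, nat_lit 2, nat_lit 5, nat_lit 2, nat_lit 4, nat_lit 2, nat_lit 5, nat_lit 2] else [nat_lit 5, nat_lit 2, nat_lit 0, nat_lit 5, nat_lit 1, nat_lit 2, nat_lit 3, nat_lit 5, nat_lit 2, nat_lit 0, nat_lit 5, nat_lit 1, nat_lit 2, nat_lit 3]
def Wt_344_346 (j : ℕ) : List ℕ := bif Nat.blt j 345 then [nat_lit 2, nat_lit 1, nat_lit 2, nat_lit 0, nat_lit 1, nat_lit 0] else [nat_lit 4, nat_lit 2, nat_lit 5, nat_lit 2, nat_lit 5, nat_lit 4, nat_lit 2, nat_lit 5, nat_lit 2, nat_lit 5, nat_lit 4, nat_lit 2, nat_lit 5, nat_lit 2, nat_lit 5]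
def Wt_343_346 (j : ℕ) : List ℕ := bif Nat.blt j 344 then [nat_lit 2, nat_lit 5, nat_lit 2, nat_lit 1, nat_lit 5, nat_lit 3, nat_lit 0, nat_lit 1, nat_lit 3] else (Wt_344_346 j)
def Wt_341_346 (j : ℕ) : List ℕ := bif Nat.blt j 343 then (Wt_341_343 j) else (Wt_343_346 j)
def Wt_336_346 (j : ℕ) : List ℕ := bif Nat.blt j 341 then (Wt_336_341 j) else (Wt_341_346 j)
def Wt_326_346 (j : ℕ) : List ℕ := bif Nat.blt j 336 then (Wt_326_336 j) else (Wt_336_346 j)
def Wt_346_348 (j : ℕ) : List ℕ := bif Nat.blt j 347 then [nat_lit 0, nat_lit 2, nat_lit 5, nat_lit 0, nat_lit 2, nat_lit 1, nat_lit 0, nat_lit 2, nat_lit 5, nat_lit 0, nat_lit 2, nat_lit 1] else [nat_lit 5, nat_lit 2, nat_lit 5, nat_lit 0, nat_lit 5, nat_lit 2, nat_lit 5, nat_lit 0, nat_lit 1]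
def Wt_349_351 (j : ℕ) : List ℕ := bif Nat.blt j 350 then [nat_lit 2, nat_lit 1, nat_lit 4, nat_lit 5, nat_lit 1, nat_lit 2, nat_lit 5, nat_lit 2, nat_lit 1, nat_lit 4, nat_lit 5, nat_lit 1, nat_lit 2, nat_lit 5] else [nat_lit 5, nat_lit 1, nat_lit 5, nat_lit 3, nat_lit 2, nat_lit 5, nat_lit 1, nat_lit 5, nat_lit 3, nat_lit 2, nat_lit 5, nat_lit 1, nat_lit 5, nat_lit 3, nat_lit 2]
def Wt_348_351 (j : ℕ) : List ℕ := bif Nat.blt j 349 then [nat_lit 63, nat_lit 4, nat_lit 1, nat_lit 4, nat_lit 3, nat_lit 1, nat_lit 0, nat_lit 3, nat_lit 4, nat_lit 1] else (Wt_349_351 j)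
def Wt_346_351 (j : ℕ) : List ℕ := bif Nat.blt j 348 then (Wt_346_348 j) else (Wt_348_351 j)
def Wt_351_353 (j : ℕ) : List ℕ := bif Nat.blt j 352 then [nat_lit 3, nat_lit 5, nat_lit 1, nat_lit 3, nat_lit 1, nat_lit 0, nat_lit 3, nat_lit 5, nat_lit 1, nat_lit 3, nat_lit 1, nat_lit 0] else [nat_lit 5, nat_lit 2, nat_lit 0, nat_lit 1, nat_lit 2, nat_lit 0, nat_lit 5, nat_lit 2, nat_lit 0, nat_lit 1, nat_lit 2, nat_lit 0]
def Wt_354_356 (j : ℕ) : List ℕ := bif Nat.blt j 355 then [nat_lit 0, nat_lit 1, nat_lit 2, nat_lit 4, nat_lit 0, nat_lit 4, nat_lit 0, nat_lit 4, nat_lit 2] else [nat_lit 5, nat_lit 3, nat_lit 0, nat_lit 2, nat_lit 0, nat_lit 1, nat_lit 2, nat_lit 5, nat_lit 3]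
def Wt_353_356 (j : ℕ) : List ℕ := bif Nat.blt j 354 then [nat_lit 1, nat_lit 0, nat_lit 2, nat_lit 4, nat_lit 0, nat_lit 4, nat_lit 0, nat_lit 4, nat_lit 2] else (Wt_354_356 j)
def Wt_351_356 (j : ℕ) : List ℕ := bif Nat.blt j 353 then (Wt_351_353 j) else (Wt_353_356 j)
def Wt_346_356 (j : ℕ) : List ℕ := bif Nat.blt j 351 then (Wt_346_351 j) else (Wt_351_356 j)
def Wt_356_358 (j : ℕ) : List ℕ := bif Nat.blt j 357 then [nat_lit 3, nat_lit 1, nat_lit 3, nat_lit 1, nat_lit 2, nat_lit 0, nat_lit 2, nat_lit 1] else [nat_lit 1, nat_lit 4, nat_lit 5, nat_lit 4, nat_lit 5, nat_lit 1, nat_lit 4, nat_lit 5, nat_lit 4, nat_lit 5, nat_lit 1, nat_lit 4, nat_lit 5, nat_lit 4, nat_lit 5]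
def Wt_359_361 (j : ℕ) : List ℕ := bif Nat.blt j 360 then [nat_lit 4, nat_lit 1, nat_lit 0, nat_lit 4, nat_lit 2, nat_lit 3, nat_lit 2] else [nat_lit 2, nat_lit 3, nat_lit 2, nat_lit 0, nat_lit 2, nat_lit 3, nat_lit 2, nat_lit 1]
def Wt_358_361 (j : ℕ) : List ℕ := bif Nat.blt j 359 then [nat_lit 2, nat_lit 3, nat_lit 1, nat_lit 3, nat_lit 2, nat_lit 1, nat_lit 0, nat_lit 1] else (Wt_359_361 j)
def Wt_356_361 (j : ℕ) : List ℕ := bif Nat.blt j 358 then (Wt_356_358 j) else (Wt_358_361 j)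
def Wt_361_363 (j : ℕ) : List ℕ := bif Nat.blt j 362 then [nat_lit 63, nat_lit 5, nat_lit 3, nat_lit 0, nat_lit 2, nat_lit 1, nat_lit 0, nat_lit 2, nat_lit 5, nat_lit 3] else [nat_lit 2, nat_lit 5, nat_lit 2, nat_lit 4, nat_lit 5, nat_lit 2, nat_lit 5, nat_lit 2, nat_lit 4, nat_lit 5, nat_lit 2, nat_lit 5, nat_lit 2, nat_lit 4, nat_lit 5]
def Wt_364_366 (j : ℕ) : List ℕ := bif Nat.blt j 365 then [nat_lit 4, nat_lit 0, nat_lit 5, nat_lit 0, nat_lit 4, nat_lit 0, nat_lit 5, nat_lit 0, nat_lit 4, nat_lit 0, nat_lit 5, nat_lit 0] else [nat_lit 63, nat_lit 1, nat_lit 0, nat_lit 4, nat_lit 2, nat_lit 3, nat_lit 2, nat_lit 4]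
def Wt_363_366 (j : ℕ) : List ℕ := bif Nat.blt j 364 then [nat_lit 3, nat_lit 1, nat_lit 4, nat_lit 2, nat_lit 0, nat_lit 3, nat_lit 1, nat_lit 4, nat_lit 2, nat_lit 0, nat_lit 3, nat_lit 1, nat_lit 4, nat_lit 2, nat_lit 0] else (Wt_364_366 j)
def Wt_361_366 (j : ℕ) : List ℕ := bif Nat.blt j 363 then (Wt_361_363 j) else (Wt_363_366 j)
def Wt_356_366 (j : ℕ) : List ℕ := bif Nat.blt j 361 then (Wt_356_361 j) else (Wt_361_366 j)
def Wt_346_366 (j : ℕ) : List ℕ := bif Nat.blt j 356 then (Wt_346_356 j) else (Wt_356_366 j)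
def Wt_326_366 (j : ℕ) : List ℕ := bif Nat.blt j 346 then (Wt_326_346 j) else (Wt_346_366 j)
def Wt_366_368 (j : ℕ) : List ℕ := bif Nat.blt j 367 then [nat_lit 63, nat_lit 2, nat_lit 3, nat_lit 2, nat_lit 4, nat_lit 1, nat_lit 0, nat_lit 4] else [nat_lit 2, nat_lit 4, nat_lit 2, nat_lit 1, nat_lit 0, nat_lit 4, nat_lit 2, nat_lit 3, nat_lit 4]
def Wt_369_371 (j : ℕ) : List ℕ := bif Nat.blt j 370 then [nat_lit 63, nat_lit 1, nat_lit 2, nat_lit 5, nat_lit 2, nat_lit 1, nat_lit 5, nat_lit 4, nat_lit 1, nat_lit 2, nat_lit 5, nat_lit 2, nat_lit 1, nat_lit 5, nat_lit 4] else [nat_lit 63, nat_lit 4, nat_lit 1, nat_lit 0, nat_lit 4, nat_lit 3, nat_lit 2, nat_lit 3]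
def Wt_368_371 (j : ℕ) : List ℕ := bif Nat.blt j 369 then [nat_lit 4, nat_lit 0, nat_lit 1, nat_lit 2, nat_lit 4, nat_lit 2, nat_lit 4, nat_lit 3, nat_lit 2] else (Wt_369_371 j)
def Wt_366_371 (j : ℕ) : List ℕ := bif Nat.blt j 368 then (Wt_366_368 j) else (Wt_368_371 j)
def Wt_371_373 (j : ℕ) : List ℕ := bif Nat.blt j 372 then [nat_lit 63, nat_lit 4, nat_lit 3, nat_lit 2, nat_lit 4, nat_lit 0, nat_lit 1, nat_lit 2, nat_lit 4, nat_lit 2] else [nat_lit 63, nat_lit 4, nat_lit 2, nat_lit 3, nat_lit 4, nat_lit 2, nat_lit 4, nat_lit 2, nat_lit 1, nat_lit 0]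
def Wt_374_376 (j : ℕ) : List ℕ := bif Nat.blt j 375 then [nat_lit 4, nat_lit 1, nat_lit 0, nat_lit 4, nat_lit 3, nat_lit 2, nat_lit 3] else [nat_lit 5, nat_lit 3, nat_lit 1, nat_lit 5, nat_lit 3, nat_lit 5, nat_lit 3, nat_lit 1, nat_lit 5, nat_lit 3]
def Wt_373_376 (j : ℕ) : List ℕ := bif Nat.blt j 374 then [nat_lit 1, nat_lit 0, nat_lit 4, nat_lit 1, nat_lit 2, nat_lit 3, nat_lit 2, nat_lit 0, nat_lit 4] else (Wt_374_376 j)
def Wt_371_376 (j : ℕ) : List ℕ := bif Nat.blt j 373 then (Wt_371_373 j) else (Wt_373_376 j)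
def Wt_366_376 (j : ℕ) : List ℕ := bif Nat.blt j 371 then (Wt_366_371 j) else (Wt_371_376 j)
def Wt_376_378 (j : ℕ) : List ℕ := bif Nat.blt j 377 then [nat_lit 3, nat_lit 5, nat_lit 3, nat_lit 5, nat_lit 3, nat_lit 5, nat_lit 3, nat_lit 5] else [nat_lit 5, nat_lit 3, nat_lit 0, nat_lit 5, nat_lit 3, nat_lit 5, nat_lit 3, nat_lit 0, nat_lit 5, nat_lit 3]
def Wt_379_381 (j : ℕ) : List ℕ := bif Nat.blt j 380 then [nat_lit 2, nat_lit 5, nat_lit 0, nat_lit 1, nat_lit 5, nat_lit 2, nat_lit 5, nat_lit 0, nat_lit 5] else [nat_lit 2, nat_lit 5, nat_lit 4, nat_lit 2, nat_lit 5, nat_lit 2, nat_lit 5, nat_lit 4, nat_lit 2, nat_lit 5, nat_lit 2, nat_lit 5, nat_lit 4, nat_lit 2, nat_lit 5]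
def Wt_378_381 (j : ℕ) : List ℕ := bif Nat.blt j 379 then [nat_lit 0, nat_lit 1, nat_lit 4, nat_lit 3, nat_lit 2, nat_lit 4, nat_lit 3, nat_lit 0, nat_lit 1, nat_lit 4, nat_lit 3, nat_lit 2, nat_lit 4, nat_lit 3] else (Wt_379_381 j)
def Wt_376_381 (j : ℕ) : List ℕ := bif Nat.blt j 378 then (Wt_376_378 j) else (Wt_378_381 j)
def Wt_381_383 (j : ℕ) : List ℕ := bif Nat.blt j 382 then [nat_lit 1, nat_lit 5, nat_lit 3, nat_lit 5, nat_lit 2, nat_lit 1, nat_lit 5, nat_lit 3, nat_lit 5, nat_lit 2, nat_lit 1, nat_lit 5, nat_lit 3, nat_lit 5, nat_lit 2] else [nat_lit 63, nat_lit 0, nat_lit 3, nat_lit 2, nat_lit 3, nat_lit 2, nat_lit 1, nat_lit 3, nat_lit 2]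
def Wt_384_386 (j : ℕ) : List ℕ := bif Nat.blt j 385 then [nat_lit 63, nat_lit 5, nat_lit 0, nat_lit 5, nat_lit 2, nat_lit 5, nat_lit 1, nat_lit 0, nat_lit 5, nat_lit 2] else [nat_lit 1, nat_lit 5, nat_lit 0, nat_lit 2, nat_lit 5, nat_lit 2, nat_lit 1, nat_lit 5, nat_lit 0, nat_lit 2, nat_lit 5, nat_lit 2]
def Wt_383_386 (j : ℕ) : List ℕ := bif Nat.blt j 384 then [nat_lit 63, nat_lit 0, nat_lit 5, nat_lit 3, nat_lit 5, nat_lit 2, nat_lit 1, nat_lit 2, nat_lit 3, nat_lit 1] else (Wt_384_386 j)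
def Wt_381_386 (j : ℕ) : List ℕ := bif Nat.blt j 383 then (Wt_381_383 j) else (Wt_383_386 j)
def Wt_376_386 (j : ℕ) : List ℕ := bif Nat.blt j 381 then (Wt_376_381 j) else (Wt_381_386 j)
def Wt_366_386 (j : ℕ) : List ℕ := bif Nat.blt j 376 then (Wt_366_376 j) else (Wt_376_386 j)
def Wt_386_388 (j : ℕ) : List ℕ := bif Nat.blt j 387 then [nat_lit 63, nat_lit 0, nat_lit 3, nat_lit 5, nat_lit 1, nat_lit 3, nat_lit 1, nat_lit 0, nat_lit 3, nat_lit 5, nat_lit 1, nat_lit 3, nat_lit 1] else [nat_lit 63, nat_lit 5, nat_lit 0, nat_lit 2, nat_lit 1, nat_lit 0, nat_lit 2, nat_lit 5, nat_lit 0, nat_lit 2, nat_lit 1, nat_lit 0, nat_lit 2]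
def Wt_389_391 (j : ℕ) : List ℕ := bif Nat.blt j 390 then [nat_lit 2, nat_lit 1, nat_lit 0, nat_lit 2, nat_lit 5, nat_lit 3, nat_lit 5, nat_lit 0, nat_lit 3] else [nat_lit 0, nat_lit 1, nat_lit 3, nat_lit 0, nat_lit 3, nat_lit 1]
def Wt_388_391 (j : ℕ) : List ℕ := bif Nat.blt j 389 then [nat_lit 1, nat_lit 3, nat_lit 0, nat_lit 2, nat_lit 0, nat_lit 2, nat_lit 0, nat_lit 3] else (Wt_389_391 j)
def Wt_386_391 (j : ℕ) : List ℕ := bif Nat.blt j 388 then (Wt_386_388 j) else (Wt_388_391 j)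
def Wt_391_393 (j : ℕ) : List ℕ := bif Nat.blt j 392 then [nat_lit 3, nat_lit 0, nat_lit 2, nat_lit 0, nat_lit 2, nat_lit 0, nat_lit 3, nat_lit 1] else [nat_lit 1, nat_lit 3, nat_lit 2, nat_lit 0, nat_lit 3, nat_lit 2, nat_lit 3, nat_lit 2]
def Wt_394_396 (j : ℕ) : List ℕ := bif Nat.blt j 395 then [nat_lit 1, nat_lit 4, nat_lit 0, nat_lit 2, nat_lit 3, nat_lit 2, nat_lit 1, nat_lit 4, nat_lit 0] else [nat_lit 2, nat_lit 3, nat_lit 0, nat_lit 1, nat_lit 3, nat_lit 5, nat_lit 1, nat_lit 2, nat_lit 5]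
def Wt_393_396 (j : ℕ) : List ℕ := bif Nat.blt j 394 then [nat_lit 0, nat_lit 4, nat_lit 1, nat_lit 2, nat_lit 3, nat_lit 2, nat_lit 0, nat_lit 4, nat_lit 1] else (Wt_394_396 j)
def Wt_391_396 (j : ℕ) : List ℕ := bif Nat.blt j 393 then (Wt_391_393 j) else (Wt_393_396 j)
def Wt_386_396 (j : ℕ) : List ℕ := bif Nat.blt j 391 then (Wt_386_391 j) else (Wt_391_396 j)
def Wt_396_398 (j : ℕ) : List ℕ := bif Nat.blt j 397 then [nat_lit 2, nat_lit 1, nat_lit 2, nat_lit 3, nat_lit 1, nat_lit 0, nat_lit 5, nat_lit 3, nat_lit 5] else [nat_lit 63, nat_lit 0, nat_lit 3, nat_lit 2, nat_lit 5, nat_lit 2, nat_lit 1, nat_lit 5, nat_lit 3, nat_lit 1]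
def Wt_399_401 (j : ℕ) : List ℕ := bif Nat.blt j 400 then [nat_lit 3, nat_lit 2, nat_lit 5, nat_lit 2, nat_lit 1, nat_lit 5, nat_lit 3, nat_lit 0, nat_lit 1] else [nat_lit 2, nat_lit 3, nat_lit 4, nat_lit 1, nat_lit 0, nat_lit 3, nat_lit 4, nat_lit 2, nat_lit 3, nat_lit 4, nat_lit 1, nat_lit 0, nat_lit 3, nat_lit 4]
def Wt_398_401 (j : ℕ) : List ℕ := bif Nat.blt j 399 then [nat_lit 2, nat_lit 1, nat_lit 2, nat_lit 5, nat_lit 3, nat_lit 5, nat_lit 0, nat_lit 1, nat_lit 3] else (Wt_399_401 j)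
def Wt_396_401 (j : ℕ) : List ℕ := bif Nat.blt j 398 then (Wt_396_398 j) else (Wt_398_401 j)
def Wt_402_404 (j : ℕ) : List ℕ := bif Nat.blt j 403 then [nat_lit 63, nat_lit 3, nat_lit 2, nat_lit 3, nat_lit 2, nat_lit 3, nat_lit 2] else [nat_lit 63, nat_lit 4, nat_lit 2, nat_lit 3, nat_lit 2, nat_lit 4, nat_lit 1, nat_lit 0]
def Wt_401_404 (j : ℕ) : List ℕ := bif Nat.blt j 402 then [nat_lit 63, nat_lit 2, nat_lit 1, nat_lit 5, nat_lit 1, nat_lit 2, nat_lit 3, nat_lit 5, nat_lit 3] else (Wt_402_404 j)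
def Wt_405_407 (j : ℕ) : List ℕ := bif Nat.blt j 406 then [nat_lit 2, nat_lit 0, nat_lit 3, nat_lit 2, nat_lit 3, nat_lit 2, nat_lit 1, nat_lit 3] else [nat_lit 5, nat_lit 1, nat_lit 2, nat_lit 5, nat_lit 0, nat_lit 2, nat_lit 0]
def Wt_404_407 (j : ℕ) : List ℕ := bif Nat.blt j 405 then [nat_lit 63, nat_lit 4, nat_lit 63, nat_lit 4] else (Wt_405_407 j)
def Wt_401_407 (j : ℕ) : List ℕ := bif Nat.blt j 404 then (Wt_401_404 j) else (Wt_404_407 j)
def Wt_396_407 (j : ℕ) : List ℕ := bif Nat.blt j 401 then (Wt_396_401 j) else (Wt_401_407 j)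
def Wt_386_407 (j : ℕ) : List ℕ := bif Nat.blt j 396 then (Wt_386_396 j) else (Wt_396_407 j)
def Wt_366_407 (j : ℕ) : List ℕ := bif Nat.blt j 386 then (Wt_366_386 j) else (Wt_386_407 j)
def Wt_326_407 (j : ℕ) : List ℕ := bif Nat.blt j 366 then (Wt_326_366 j) else (Wt_366_407 j)
def Wt_407_409 (j : ℕ) : List ℕ := bif Nat.blt j 408 then [nat_lit 5, nat_lit 3, nat_lit 2, nat_lit 1, nat_lit 5, nat_lit 2, nat_lit 1, nat_lit 3] else [nat_lit 0, nat_lit 5, nat_lit 3, nat_lit 5, nat_lit 2, nat_lit 1, nat_lit 2, nat_lit 3, nat_lit 1]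
def Wt_410_412 (j : ℕ) : List ℕ := bif Nat.blt j 411 then [nat_lit 63, nat_lit 2, nat_lit 3, nat_lit 2, nat_lit 1, nat_lit 4, nat_lit 1, nat_lit 0, nat_lit 4, nat_lit 0] else [nat_lit 5, nat_lit 0, nat_lit 2, nat_lit 1, nat_lit 0, nat_lit 2, nat_lit 5, nat_lit 0, nat_lit 2, nat_lit 1, nat_lit 0, nat_lit 2]
def Wt_409_412 (j : ℕ) : List ℕ := bif Nat.blt j 410 then [nat_lit 5, nat_lit 1, nat_lit 2, nat_lit 5, nat_lit 2, nat_lit 3, nat_lit 1, nat_lit 0, nat_lit 3] else (Wt_410_412 j)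
def Wt_407_412 (j : ℕ) : List ℕ := bif Nat.blt j 409 then (Wt_407_409 j) else (Wt_409_412 j)
def Wt_412_414 (j : ℕ) : List ℕ := bif Nat.blt j 413 then [nat_lit 0, nat_lit 5, nat_lit 2, nat_lit 5, nat_lit 0, nat_lit 1, nat_lit 5, nat_lit 2, nat_lit 5] else [nat_lit 63, nat_lit 2, nat_lit 5, nat_lit 3, nat_lit 5, nat_lit 0, nat_lit 3, nat_lit 2, nat_lit 1, nat_lit 0]
def Wt_415_417 (j : ℕ) : List ℕ := bif Nat.blt j 416 then [nat_lit 63, nat_lit 0, nat_lit 3, nat_lit 1, nat_lit 5, nat_lit 3, nat_lit 5, nat_lit 1] else [nat_lit 0, nat_lit 3, nat_lit 2, nat_lit 1, nat_lit 0, nat_lit 2, nat_lit 5, nat_lit 3, nat_lit 5]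
def Wt_414_417 (j : ℕ) : List ℕ := bif Nat.blt j 415 then [nat_lit 63, nat_lit 0, nat_lit 1, nat_lit 2, nat_lit 0, nat_lit 5, nat_lit 2, nat_lit 0, nat_lit 1, nat_lit 2, nat_lit 0, nat_lit 5, nat_lit 2] else (Wt_415_417 j)
def Wt_412_417 (j : ℕ) : List ℕ := bif Nat.blt j 414 then (Wt_412_414 j) else (Wt_414_417 j)
def Wt_407_417 (j : ℕ) : List ℕ := bif Nat.blt j 412 then (Wt_407_412 j) else (Wt_412_417 j)
def Wt_417_419 (j : ℕ) : List ℕ := bif Nat.blt j 418 then [nat_lit 5, nat_lit 0, nat_lit 5, nat_lit 2, nat_lit 5, nat_lit 1, nat_lit 0, nat_lit 5, nat_lit 2] else [nat_lit 2, nat_lit 3, nat_lit 2, nat_lit 1, nat_lit 3, nat_lit 2, nat_lit 0, nat_lit 3]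
def Wt_420_422 (j : ℕ) : List ℕ := bif Nat.blt j 421 then [nat_lit 1, nat_lit 0, nat_lit 5, nat_lit 2, nat_lit 5, nat_lit 0, nat_lit 5, nat_lit 2, nat_lit 5] else [nat_lit 0, nat_lit 1, nat_lit 5, nat_lit 2, nat_lit 5, nat_lit 0, nat_lit 5, nat_lit 2, nat_lit 5]
def Wt_419_422 (j : ℕ) : List ℕ := bif Nat.blt j 420 then [nat_lit 1, nat_lit 4, nat_lit 2, nat_lit 0, nat_lit 3, nat_lit 1, nat_lit 4, nat_lit 2, nat_lit 0, nat_lit 3, nat_lit 1, nat_lit 4, nat_lit 2, nat_lit 0, nat_lit 3] else (Wt_420_422 j)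
def Wt_417_422 (j : ℕ) : List ℕ := bif Nat.blt j 419 then (Wt_417_419 j) else (Wt_419_422 j)
def Wt_422_424 (j : ℕ) : List ℕ := bif Nat.blt j 423 then [nat_lit 2, nat_lit 3, nat_lit 2, nat_lit 4, nat_lit 0, nat_lit 1, nat_lit 4] else [nat_lit 0, nat_lit 3, nat_lit 5, nat_lit 3, nat_lit 5, nat_lit 2, nat_lit 0, nat_lit 2, nat_lit 1]
def Wt_425_427 (j : ℕ) : List ℕ := bif Nat.blt j 426 then [nat_lit 4, nat_lit 0, nat_lit 2, nat_lit 3, nat_lit 2, nat_lit 1, nat_lit 4, nat_lit 0, nat_lit 1] else [nat_lit 1, nat_lit 3, nat_lit 1, nat_lit 3, nat_lit 2, nat_lit 0, nat_lit 1, nat_lit 3, nat_lit 1, nat_lit 3, nat_lit 2, nat_lit 0]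
def Wt_424_427 (j : ℕ) : List ℕ := bif Nat.blt j 425 then [nat_lit 1, nat_lit 3, nat_lit 5, nat_lit 3, nat_lit 5, nat_lit 2, nat_lit 0, nat_lit 2, nat_lit 0] else (Wt_425_427 j)
def Wt_422_427 (j : ℕ) : List ℕ := bif Nat.blt j 424 then (Wt_422_424 j) else (Wt_424_427 j)
def Wt_417_427 (j : ℕ) : List ℕ := bif Nat.blt j 422 then (Wt_417_422 j) else (Wt_422_427 j)
def Wt_407_427 (j : ℕ) : List ℕ := bif Nat.blt j 417 then (Wt_407_417 j) else (Wt_417_427 j)
def Wt_427_429 (j : ℕ) : List ℕ := bif Nat.blt j 428 then [nat_lit 5, nat_lit 4, nat_lit 2, nat_lit 5, nat_lit 2, nat_lit 5, nat_lit 4, nat_lit 2, nat_lit 5, nat_lit 2, nat_lit 5, nat_lit 4, nat_lit 2, nat_lit 5, nat_lit 2] else [nat_lit 63, nat_lit 1, nat_lit 5, nat_lit 2, nat_lit 5, nat_lit 0, nat_lit 5, nat_lit 2, nat_lit 5, nat_lit 0]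
def Wt_430_432 (j : ℕ) : List ℕ := bif Nat.blt j 431 then [nat_lit 63, nat_lit 5, nat_lit 0, nat_lit 5, nat_lit 0, nat_lit 5, nat_lit 0, nat_lit 5, nat_lit 0] else [nat_lit 0, nat_lit 5, nat_lit 2, nat_lit 1, nat_lit 5, nat_lit 0, nat_lit 2]
def Wt_429_432 (j : ℕ) : List ℕ := bif Nat.blt j 430 then [nat_lit 63, nat_lit 2, nat_lit 3, nat_lit 2, nat_lit 4, nat_lit 0, nat_lit 1, nat_lit 4] else (Wt_430_432 j)
def Wt_427_432 (j : ℕ) : List ℕ := bif Nat.blt j 429 then (Wt_427_429 j) else (Wt_429_432 j)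
def Wt_432_434 (j : ℕ) : List ℕ := bif Nat.blt j 433 then [nat_lit 5, nat_lit 0, nat_lit 2, nat_lit 0, nat_lit 5, nat_lit 2, nat_lit 1] else [nat_lit 4, nat_lit 1, nat_lit 5, nat_lit 4, nat_lit 5, nat_lit 4, nat_lit 1, nat_lit 5, nat_lit 4, nat_lit 5, nat_lit 4, nat_lit 1, nat_lit 5, nat_lit 4, nat_lit 5]
def Wt_435_437 (j : ℕ) : List ℕ := bif Nat.blt j 436 then [nat_lit 4, nat_lit 0, nat_lit 1, nat_lit 4, nat_lit 0, nat_lit 2, nat_lit 3, nat_lit 2, nat_lit 1] else [nat_lit 4, nat_lit 2, nat_lit 1, nat_lit 0, nat_lit 2, nat_lit 4, nat_lit 0, nat_lit 4, nat_lit 0]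
def Wt_434_437 (j : ℕ) : List ℕ := bif Nat.blt j 435 then [nat_lit 63, nat_lit 4, nat_lit 2, nat_lit 3, nat_lit 2, nat_lit 4, nat_lit 0, nat_lit 1] else (Wt_435_437 j)
def Wt_432_437 (j : ℕ) : List ℕ := bif Nat.blt j 434 then (Wt_432_434 j) else (Wt_434_437 j)
def Wt_427_437 (j : ℕ) : List ℕ := bif Nat.blt j 432 then (Wt_427_432 j) else (Wt_432_437 j)
def Wt_437_439 (j : ℕ) : List ℕ := bif Nat.blt j 438 then [nat_lit 4, nat_lit 0, nat_lit 4, nat_lit 0, nat_lit 4, nat_lit 2, nat_lit 1, nat_lit 0, nat_lit 2] else [nat_lit 63, nat_lit 4, nat_lit 2, nat_lit 1, nat_lit 0, nat_lit 4, nat_lit 2, nat_lit 3, nat_lit 4, nat_lit 2]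
def Wt_440_442 (j : ℕ) : List ℕ := bif Nat.blt j 441 then [nat_lit 4, nat_lit 1, nat_lit 4, nat_lit 1, nat_lit 4, nat_lit 3, nat_lit 1, nat_lit 0, nat_lit 3] else [nat_lit 5, nat_lit 2, nat_lit 5, nat_lit 2, nat_lit 4, nat_lit 5, nat_lit 2, nat_lit 5, nat_lit 2, nat_lit 4, nat_lit 5, nat_lit 2, nat_lit 5, nat_lit 2, nat_lit 4]
def Wt_439_442 (j : ℕ) : List ℕ := bif Nat.blt j 440 then [nat_lit 4, nat_lit 3, nat_lit 1, nat_lit 0, nat_lit 3, nat_lit 4, nat_lit 1, nat_lit 4, nat_lit 1] else (Wt_440_442 j)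
def Wt_437_442 (j : ℕ) : List ℕ := bif Nat.blt j 439 then (Wt_437_439 j) else (Wt_439_442 j)
def Wt_443_445 (j : ℕ) : List ℕ := bif Nat.blt j 444 then [nat_lit 5, nat_lit 3, nat_lit 5, nat_lit 3, nat_lit 0, nat_lit 5, nat_lit 3, nat_lit 5, nat_lit 3, nat_lit 0] else [nat_lit 1, nat_lit 0, nat_lit 1, nat_lit 2, nat_lit 0, nat_lit 5, nat_lit 2, nat_lit 1, nat_lit 5]
def Wt_442_445 (j : ℕ) : List ℕ := bif Nat.blt j 443 then [nat_lit 3, nat_lit 1, nat_lit 2, nat_lit 0, nat_lit 2, nat_lit 1, nat_lit 3, nat_lit 1] else (Wt_443_445 j)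
def Wt_446_448 (j : ℕ) : List ℕ := bif Nat.blt j 447 then [nat_lit 1, nat_lit 5, nat_lit 2, nat_lit 1, nat_lit 5, nat_lit 0, nat_lit 2, nat_lit 1, nat_lit 0] else [nat_lit 3, nat_lit 1, nat_lit 0, nat_lit 5, nat_lit 3, nat_lit 5, nat_lit 1]
def Wt_445_448 (j : ℕ) : List ℕ := bif Nat.blt j 446 then [nat_lit 0, nat_lit 3, nat_lit 0, nat_lit 5, nat_lit 1, nat_lit 0, nat_lit 3, nat_lit 1, nat_lit 5] else (Wt_446_448 j)
def Wt_442_448 (j : ℕ) : List ℕ := bif Nat.blt j 445 then (Wt_442_445 j) else (Wt_445_448 j)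
def Wt_437_448 (j : ℕ) : List ℕ := bif Nat.blt j 442 then (Wt_437_442 j) else (Wt_442_448 j)
def Wt_427_448 (j : ℕ) : List ℕ := bif Nat.blt j 437 then (Wt_427_437 j) else (Wt_437_448 j)
def Wt_407_448 (j : ℕ) : List ℕ := bif Nat.blt j 427 then (Wt_407_427 j) else (Wt_427_448 j)
def Wt_448_450 (j : ℕ) : List ℕ := bif Nat.blt j 449 then [nat_lit 5, nat_lit 1, nat_lit 4, nat_lit 5, nat_lit 4, nat_lit 5, nat_lit 1, nat_lit 4, nat_lit 5, nat_lit 4, nat_lit 5, nat_lit 1, nat_lit 4, nat_lit 5, nat_lit 4] else [nat_lit 3, nat_lit 1, nat_lit 0, nat_lit 2, nat_lit 3, nat_lit 1, nat_lit 3, nat_lit 1, nat_lit 0, nat_lit 2, nat_lit 3, nat_lit 1]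
def Wt_451_453 (j : ℕ) : List ℕ := bif Nat.blt j 452 then [nat_lit 3, nat_lit 1, nat_lit 2, nat_lit 5, nat_lit 1, nat_lit 2, nat_lit 3, nat_lit 5] else [nat_lit 4, nat_lit 5, nat_lit 1, nat_lit 4, nat_lit 5, nat_lit 4, nat_lit 5, nat_lit 1, nat_lit 4, nat_lit 5, nat_lit 4, nat_lit 5, nat_lit 1, nat_lit 4, nat_lit 5]
def Wt_450_453 (j : ℕ) : List ℕ := bif Nat.blt j 451 then [nat_lit 63, nat_lit 5, nat_lit 2, nat_lit 4, nat_lit 2, nat_lit 5, nat_lit 2, nat_lit 4, nat_lit 2, nat_lit 5, nat_lit 2, nat_lit 4, nat_lit 2] else (Wt_451_453 j)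
def Wt_448_453 (j : ℕ) : List ℕ := bif Nat.blt j 450 then (Wt_448_450 j) else (Wt_450_453 j)
def Wt_453_455 (j : ℕ) : List ℕ := bif Nat.blt j 454 then [nat_lit 3, nat_lit 5, nat_lit 3, nat_lit 2, nat_lit 1, nat_lit 5, nat_lit 2, nat_lit 1] else [nat_lit 5, nat_lit 3, nat_lit 0, nat_lit 1, nat_lit 3, nat_lit 2, nat_lit 5, nat_lit 2, nat_lit 1]
def Wt_456_458 (j : ℕ) : List ℕ := bif Nat.blt j 457 then [nat_lit 4, nat_lit 3, nat_lit 2, nat_lit 4, nat_lit 0, nat_lit 1, nat_lit 2, nat_lit 4, nat_lit 2] else [nat_lit 4, nat_lit 0, nat_lit 1, nat_lit 4, nat_lit 0, nat_lit 3, nat_lit 2, nat_lit 3, nat_lit 1]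
def Wt_455_458 (j : ℕ) : List ℕ := bif Nat.blt j 456 then [nat_lit 2, nat_lit 3, nat_lit 5, nat_lit 3, nat_lit 5, nat_lit 0, nat_lit 2, nat_lit 0, nat_lit 1] else (Wt_456_458 j)
def Wt_453_458 (j : ℕ) : List ℕ := bif Nat.blt j 455 then (Wt_453_455 j) else (Wt_455_458 j)
def Wt_448_458 (j : ℕ) : List ℕ := bif Nat.blt j 453 then (Wt_448_453 j) else (Wt_453_458 j)
def Wt_458_460 (j : ℕ) : List ℕ := bif Nat.blt j 459 then [nat_lit 4, nat_lit 0, nat_lit 1, nat_lit 4, nat_lit 1, nat_lit 2, nat_lit 3, nat_lit 2, nat_lit 0] else [nat_lit 4, nat_lit 2, nat_lit 3, nat_lit 4, nat_lit 3, nat_lit 4, nat_lit 2, nat_lit 3, nat_lit 4, nat_lit 3, nat_lit 4, nat_lit 2, nat_lit 3, nat_lit 4, nat_lit 3]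
def Wt_461_463 (j : ℕ) : List ℕ := bif Nat.blt j 462 then [nat_lit 3, nat_lit 0, nat_lit 1, nat_lit 4, nat_lit 3, nat_lit 2, nat_lit 4, nat_lit 3, nat_lit 0, nat_lit 1, nat_lit 4, nat_lit 3, nat_lit 2, nat_lit 4] else [nat_lit 5, nat_lit 2, nat_lit 4, nat_lit 5, nat_lit 2, nat_lit 5, nat_lit 2, nat_lit 4, nat_lit 5, nat_lit 2, nat_lit 5, nat_lit 2, nat_lit 4, nat_lit 5, nat_lit 2]
def Wt_460_463 (j : ℕ) : List ℕ := bif Nat.blt j 461 then [nat_lit 3, nat_lit 0, nat_lit 1, nat_lit 3, nat_lit 4, nat_lit 1, nat_lit 4, nat_lit 1, nat_lit 4] else (Wt_461_463 j)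
def Wt_458_463 (j : ℕ) : List ℕ := bif Nat.blt j 460 then (Wt_458_460 j) else (Wt_460_463 j)
def Wt_463_465 (j : ℕ) : List ℕ := bif Nat.blt j 464 then [nat_lit 2, nat_lit 5, nat_lit 2, nat_lit 5, nat_lit 4, nat_lit 2, nat_lit 5, nat_lit 2, nat_lit 5, nat_lit 4, nat_lit 2, nat_lit 5, nat_lit 2, nat_lit 5, nat_lit 4] else [nat_lit 3, nat_lit 2, nat_lit 3, nat_lit 1, nat_lit 4, nat_lit 0, nat_lit 1, nat_lit 4, nat_lit 0]
def Wt_466_468 (j : ℕ) : List ℕ := bif Nat.blt j 467 then [nat_lit 1, nat_lit 0, nat_lit 4, nat_lit 1, nat_lit 3, nat_lit 2, nat_lit 3, nat_lit 0, nat_lit 4] else [nat_lit 0, nat_lit 4, nat_lit 1, nat_lit 3, nat_lit 2, nat_lit 3, nat_lit 0, nat_lit 4, nat_lit 1]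
def Wt_465_468 (j : ℕ) : List ℕ := bif Nat.blt j 466 then [nat_lit 0, nat_lit 3, nat_lit 0, nat_lit 5, nat_lit 1, nat_lit 3, nat_lit 0, nat_lit 1, nat_lit 5] else (Wt_466_468 j)
def Wt_463_468 (j : ℕ) : List ℕ := bif Nat.blt j 465 then (Wt_463_465 j) else (Wt_465_468 j)
def Wt_458_468 (j : ℕ) : List ℕ := bif Nat.blt j 463 then (Wt_458_463 j) else (Wt_463_468 j)
def Wt_448_468 (j : ℕ) : List ℕ := bif Nat.blt j 458 then (Wt_448_458 j) else (Wt_458_468 j)
def Wt_468_470 (j : ℕ) : List ℕ := bif Nat.blt j 469 then [nat_lit 3, nat_lit 1, nat_lit 5, nat_lit 3, nat_lit 5, nat_lit 3, nat_lit 1, nat_lit 5, nat_lit 3, nat_lit 5] else [nat_lit 3, nat_lit 2, nat_lit 4, nat_lit 3, nat_lit 0, nat_lit 1, nat_lit 4, nat_lit 3, nat_lit 2, nat_lit 4, nat_lit 3, nat_lit 0, nat_lit 1, nat_lit 4]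
def Wt_471_473 (j : ℕ) : List ℕ := bif Nat.blt j 472 then [nat_lit 3, nat_lit 1, nat_lit 0, nat_lit 3, nat_lit 5, nat_lit 1, nat_lit 3, nat_lit 1, nat_lit 0, nat_lit 3, nat_lit 5, nat_lit 1] else [nat_lit 5, nat_lit 4, nat_lit 1, nat_lit 5, nat_lit 4, nat_lit 5, nat_lit 4, nat_lit 1, nat_lit 5, nat_lit 4, nat_lit 5, nat_lit 4, nat_lit 1, nat_lit 5, nat_lit 4]
def Wt_470_473 (j : ℕ) : List ℕ := bif Nat.blt j 471 then [nat_lit 0, nat_lit 2, nat_lit 0, nat_lit 3, nat_lit 1, nat_lit 3, nat_lit 0, nat_lit 2] else (Wt_471_473 j)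
def Wt_468_473 (j : ℕ) : List ℕ := bif Nat.blt j 470 then (Wt_468_470 j) else (Wt_470_473 j)
def Wt_473_475 (j : ℕ) : List ℕ := bif Nat.blt j 474 then [nat_lit 4, nat_lit 5, nat_lit 4, nat_lit 1, nat_lit 5, nat_lit 4, nat_lit 5, nat_lit 4, nat_lit 1, nat_lit 5, nat_lit 4, nat_lit 5, nat_lit 4, nat_lit 1, nat_lit 5] else [nat_lit 0, nat_lit 4, nat_lit 0, nat_lit 2, nat_lit 3, nat_lit 4, nat_lit 1, nat_lit 0, nat_lit 4, nat_lit 0, nat_lit 2, nat_lit 3, nat_lit 4, nat_lit 1]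
def Wt_476_478 (j : ℕ) : List ℕ := bif Nat.blt j 477 then [nat_lit 2, nat_lit 4, nat_lit 3, nat_lit 2, nat_lit 4, nat_lit 0, nat_lit 1, nat_lit 2, nat_lit 4] else [nat_lit 2, nat_lit 4, nat_lit 1, nat_lit 3, nat_lit 0, nat_lit 2, nat_lit 4, nat_lit 1, nat_lit 3, nat_lit 0, nat_lit 2, nat_lit 4, nat_lit 1, nat_lit 3, nat_lit 0]
def Wt_475_478 (j : ℕ) : List ℕ := bif Nat.blt j 476 then [nat_lit 1, nat_lit 2, nat_lit 4, nat_lit 0, nat_lit 4, nat_lit 0, nat_lit 4, nat_lit 2, nat_lit 0] else (Wt_476_478 j)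
def Wt_473_478 (j : ℕ) : List ℕ := bif Nat.blt j 475 then (Wt_473_475 j) else (Wt_475_478 j)
def Wt_468_478 (j : ℕ) : List ℕ := bif Nat.blt j 473 then (Wt_468_473 j) else (Wt_473_478 j)
def Wt_478_480 (j : ℕ) : List ℕ := bif Nat.blt j 479 then [nat_lit 5, nat_lit 1, nat_lit 2, nat_lit 5, nat_lit 2, nat_lit 0, nat_lit 5, nat_lit 1, nat_lit 2, nat_lit 5, nat_lit 2, nat_lit 0] else [nat_lit 63, nat_lit 2, nat_lit 0, nat_lit 5, nat_lit 1, nat_lit 2, nat_lit 5, nat_lit 2, nat_lit 0, nat_lit 5, nat_lit 1, nat_lit 2, nat_lit 5]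
def Wt_481_483 (j : ℕ) : List ℕ := bif Nat.blt j 482 then [nat_lit 4, nat_lit 0, nat_lit 4, nat_lit 0, nat_lit 4, nat_lit 2, nat_lit 0, nat_lit 1, nat_lit 2] else [nat_lit 4, nat_lit 1, nat_lit 4, nat_lit 1, nat_lit 4, nat_lit 3, nat_lit 0, nat_lit 1, nat_lit 3]
def Wt_480_483 (j : ℕ) : List ℕ := bif Nat.blt j 481 then [nat_lit 63, nat_lit 2, nat_lit 3, nat_lit 4, nat_lit 0, nat_lit 1, nat_lit 4, nat_lit 3] else (Wt_481_483 j)
def Wt_478_483 (j : ℕ) : List ℕ := bif Nat.blt j 480 then (Wt_478_480 j) else (Wt_480_483 j)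
def Wt_484_486 (j : ℕ) : List ℕ := bif Nat.blt j 485 then [nat_lit 63, nat_lit 5, nat_lit 63, nat_lit 5] else [nat_lit 63, nat_lit 5, nat_lit 1, nat_lit 3, nat_lit 1, nat_lit 0, nat_lit 3, nat_lit 5, nat_lit 1, nat_lit 3, nat_lit 1, nat_lit 0, nat_lit 3]
def Wt_483_486 (j : ℕ) : List ℕ := bif Nat.blt j 484 then [nat_lit 63, nat_lit 2, nat_lit 3, nat_lit 0, nat_lit 1, nat_lit 3, nat_lit 5, nat_lit 1, nat_lit 2, nat_lit 5] else (Wt_484_486 j)
def Wt_487_489 (j : ℕ) : List ℕ := bif Nat.blt j 488 then [nat_lit 4, nat_lit 1, nat_lit 0, nat_lit 4, nat_lit 0, nat_lit 2, nat_lit 3, nat_lit 2, nat_lit 1] else [nat_lit 63, nat_lit 3, nat_lit 4, nat_lit 3, nat_lit 4, nat_lit 2, nat_lit 3, nat_lit 4, nat_lit 3, nat_lit 4, nat_lit 2, nat_lit 3, nat_lit 4, nat_lit 3, nat_lit 4, nat_lit 2]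
def Wt_486_489 (j : ℕ) : List ℕ := bif Nat.blt j 487 then [nat_lit 0, nat_lit 2, nat_lit 1, nat_lit 3, nat_lit 1, nat_lit 3, nat_lit 1, nat_lit 2] else (Wt_487_489 j)
def Wt_483_489 (j : ℕ) : List ℕ := bif Nat.blt j 486 then (Wt_483_486 j) else (Wt_486_489 j)
def Wt_478_489 (j : ℕ) : List ℕ := bif Nat.blt j 483 then (Wt_478_483 j) else (Wt_483_489 j)
def Wt_468_489 (j : ℕ) : List ℕ := bif Nat.blt j 478 then (Wt_468_478 j) else (Wt_478_489 j)
def Wt_448_489 (j : ℕ) : List ℕ := bif Nat.blt j 468 then (Wt_448_468 j) else (Wt_468_489 j)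
def Wt_407_489 (j : ℕ) : List ℕ := bif Nat.blt j 448 then (Wt_407_448 j) else (Wt_448_489 j)
def Wt_326_489 (j : ℕ) : List ℕ := bif Nat.blt j 407 then (Wt_326_407 j) else (Wt_407_489 j)
def Wt_489_491 (j : ℕ) : List ℕ := bif Nat.blt j 490 then [nat_lit 0, nat_lit 3, nat_lit 4, nat_lit 2, nat_lit 3, nat_lit 4, nat_lit 1, nat_lit 0, nat_lit 3, nat_lit 4, nat_lit 2, nat_lit 3, nat_lit 4, nat_lit 1] else [nat_lit 1, nat_lit 3, nat_lit 4, nat_lit 1, nat_lit 4, nat_lit 1, nat_lit 4, nat_lit 3, nat_lit 0]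
def Wt_492_494 (j : ℕ) : List ℕ := bif Nat.blt j 493 then [nat_lit 1, nat_lit 5, nat_lit 1, nat_lit 2, nat_lit 3, nat_lit 5, nat_lit 3, nat_lit 2] else [nat_lit 63, nat_lit 4, nat_lit 3, nat_lit 4, nat_lit 3, nat_lit 4, nat_lit 3, nat_lit 4, nat_lit 3]
def Wt_491_494 (j : ℕ) : List ℕ := bif Nat.blt j 492 then [nat_lit 0, nat_lit 1, nat_lit 3, nat_lit 4, nat_lit 1, nat_lit 4, nat_lit 1, nat_lit 4, nat_lit 3] else (Wt_492_494 j)
def Wt_489_494 (j : ℕ) : List ℕ := bif Nat.blt j 491 then (Wt_489_491 j) else (Wt_491_494 j)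
def Wt_494_496 (j : ℕ) : List ℕ := bif Nat.blt j 495 then [nat_lit 5, nat_lit 3, nat_lit 5, nat_lit 2, nat_lit 1, nat_lit 0, nat_lit 2, nat_lit 0, nat_lit 3] else [nat_lit 3, nat_lit 0, nat_lit 5, nat_lit 1, nat_lit 0, nat_lit 3, nat_lit 1, nat_lit 5, nat_lit 0]
def Wt_497_499 (j : ℕ) : List ℕ := bif Nat.blt j 498 then [nat_lit 3, nat_lit 4, nat_lit 1, nat_lit 4, nat_lit 1, nat_lit 4, nat_lit 3, nat_lit 1, nat_lit 0] else [nat_lit 63, nat_lit 0, nat_lit 3, nat_lit 0, nat_lit 5, nat_lit 1, nat_lit 0, nat_lit 3, nat_lit 1, nat_lit 5]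
def Wt_496_499 (j : ℕ) : List ℕ := bif Nat.blt j 497 then [nat_lit 0, nat_lit 2, nat_lit 3, nat_lit 4, nat_lit 1, nat_lit 0, nat_lit 4, nat_lit 0, nat_lit 2, nat_lit 3, nat_lit 4, nat_lit 1, nat_lit 0, nat_lit 4] else (Wt_497_499 j)
def Wt_494_499 (j : ℕ) : List ℕ := bif Nat.blt j 496 then (Wt_494_496 j) else (Wt_496_499 j)
def Wt_489_499 (j : ℕ) : List ℕ := bif Nat.blt j 494 then (Wt_489_494 j) else (Wt_494_499 j)
def Wt_499_501 (j : ℕ) : List ℕ := bif Nat.blt j 500 then [nat_lit 63, nat_lit 3, nat_lit 5, nat_lit 3, nat_lit 2, nat_lit 1, nat_lit 5, nat_lit 1, nat_lit 2] else [nat_lit 63, nat_lit 4, nat_lit 1, nat_lit 0, nat_lit 4, nat_lit 2, nat_lit 3, nat_lit 2]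
def Wt_502_504 (j : ℕ) : List ℕ := bif Nat.blt j 503 then [nat_lit 3, nat_lit 1, nat_lit 0, nat_lit 3, nat_lit 2, nat_lit 5, nat_lit 2, nat_lit 1, nat_lit 5] else [nat_lit 5, nat_lit 3, nat_lit 5, nat_lit 3, nat_lit 1, nat_lit 5, nat_lit 3, nat_lit 5, nat_lit 3, nat_lit 1]
def Wt_501_504 (j : ℕ) : List ℕ := bif Nat.blt j 502 then [nat_lit 2, nat_lit 4, nat_lit 0, nat_lit 1, nat_lit 2, nat_lit 4, nat_lit 2, nat_lit 4, nat_lit 3] else (Wt_502_504 j)
def Wt_499_504 (j : ℕ) : List ℕ := bif Nat.blt j 501 then (Wt_499_501 j) else (Wt_501_504 j)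
def Wt_504_506 (j : ℕ) : List ℕ := bif Nat.blt j 505 then [nat_lit 63, nat_lit 2, nat_lit 3, nat_lit 1, nat_lit 0, nat_lit 3, nat_lit 5, nat_lit 1, nat_lit 2, nat_lit 5] else [nat_lit 1, nat_lit 4, nat_lit 5, nat_lit 1, nat_lit 2, nat_lit 5, nat_lit 2, nat_lit 1, nat_lit 4, nat_lit 5, nat_lit 1, nat_lit 2, nat_lit 5, nat_lit 2]
def Wt_507_509 (j : ℕ) : List ℕ := bif Nat.blt j 508 then [nat_lit 63, nat_lit 3, nat_lit 4, nat_lit 2, nat_lit 0, nat_lit 4, nat_lit 0, nat_lit 2, nat_lit 4] else [nat_lit 2, nat_lit 0, nat_lit 3, nat_lit 5, nat_lit 3, nat_lit 5, nat_lit 2, nat_lit 0, nat_lit 1]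
def Wt_506_509 (j : ℕ) : List ℕ := bif Nat.blt j 507 then [nat_lit 0, nat_lit 2, nat_lit 5, nat_lit 3, nat_lit 5, nat_lit 3, nat_lit 1, nat_lit 0, nat_lit 2] else (Wt_507_509 j)
def Wt_504_509 (j : ℕ) : List ℕ := bif Nat.blt j 506 then (Wt_504_506 j) else (Wt_506_509 j)
def Wt_499_509 (j : ℕ) : List ℕ := bif Nat.blt j 504 then (Wt_499_504 j) else (Wt_504_509 j)
def Wt_489_509 (j : ℕ) : List ℕ := bif Nat.blt j 499 then (Wt_489_499 j) else (Wt_499_509 j)
def Wt_509_511 (j : ℕ) : List ℕ := bif Nat.blt j 510 then [nat_lit 5, nat_lit 2, nat_lit 3, nat_lit 0, nat_lit 1, nat_lit 3, nat_lit 5, nat_lit 1, nat_lit 2] else [nat_lit 63, nat_lit 1, nat_lit 3, nat_lit 1, nat_lit 0, nat_lit 5, nat_lit 3, nat_lit 5]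
def Wt_512_514 (j : ℕ) : List ℕ := bif Nat.blt j 513 then [nat_lit 0, nat_lit 4, nat_lit 2, nat_lit 3, nat_lit 2, nat_lit 4, nat_lit 1] else [nat_lit 5, nat_lit 1, nat_lit 0, nat_lit 5, nat_lit 2, nat_lit 5, nat_lit 0, nat_lit 5, nat_lit 2]
def Wt_511_514 (j : ℕ) : List ℕ := bif Nat.blt j 512 then [nat_lit 63, nat_lit 3, nat_lit 5, nat_lit 3, nat_lit 5, nat_lit 3, nat_lit 5, nat_lit 3, nat_lit 5] else (Wt_512_514 j)
def Wt_509_514 (j : ℕ) : List ℕ := bif Nat.blt j 511 then (Wt_509_511 j) else (Wt_511_514 j)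
def Wt_514_516 (j : ℕ) : List ℕ := bif Nat.blt j 515 then [nat_lit 63, nat_lit 5, nat_lit 4, nat_lit 1, nat_lit 5, nat_lit 4, nat_lit 5, nat_lit 4, nat_lit 1, nat_lit 5, nat_lit 4, nat_lit 5, nat_lit 4, nat_lit 1, nat_lit 5, nat_lit 4] else [nat_lit 5, nat_lit 1, nat_lit 2, nat_lit 5, nat_lit 2, nat_lit 1, nat_lit 4, nat_lit 5, nat_lit 1, nat_lit 2, nat_lit 5, nat_lit 2, nat_lit 1, nat_lit 4]
def Wt_517_519 (j : ℕ) : List ℕ := bif Nat.blt j 518 then [nat_lit 3, nat_lit 5, nat_lit 1, nat_lit 2, nat_lit 5, nat_lit 3, nat_lit 5, nat_lit 1, nat_lit 2, nat_lit 5, nat_lit 3, nat_lit 5, nat_lit 1, nat_lit 2, nat_lit 5] else [nat_lit 5, nat_lit 1, nat_lit 2, nat_lit 3, nat_lit 5, nat_lit 3, nat_lit 1, nat_lit 2]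
def Wt_516_519 (j : ℕ) : List ℕ := bif Nat.blt j 517 then [nat_lit 5, nat_lit 3, nat_lit 2, nat_lit 1, nat_lit 0, nat_lit 2, nat_lit 0, nat_lit 5, nat_lit 3] else (Wt_517_519 j)
def Wt_514_519 (j : ℕ) : List ℕ := bif Nat.blt j 516 then (Wt_514_516 j) else (Wt_516_519 j)
def Wt_509_519 (j : ℕ) : List ℕ := bif Nat.blt j 514 then (Wt_509_514 j) else (Wt_514_519 j)
def Wt_519_521 (j : ℕ) : List ℕ := bif Nat.blt j 520 then [nat_lit 0, nat_lit 4, nat_lit 1, nat_lit 0, nat_lit 4, nat_lit 1, nat_lit 3, nat_lit 2, nat_lit 3] else [nat_lit 1, nat_lit 4, nat_lit 0, nat_lit 1, nat_lit 4, nat_lit 0, nat_lit 3, nat_lit 2, nat_lit 3]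
def Wt_522_524 (j : ℕ) : List ℕ := bif Nat.blt j 523 then [nat_lit 2, nat_lit 5, nat_lit 2, nat_lit 0, nat_lit 5, nat_lit 1, nat_lit 2, nat_lit 5, nat_lit 2, nat_lit 0, nat_lit 5, nat_lit 1] else [nat_lit 5, nat_lit 0, nat_lit 2, nat_lit 5, nat_lit 2, nat_lit 1, nat_lit 5, nat_lit 0, nat_lit 2, nat_lit 5, nat_lit 2, nat_lit 1]
def Wt_521_524 (j : ℕ) : List ℕ := bif Nat.blt j 522 then [nat_lit 5, nat_lit 2, nat_lit 5, nat_lit 1, nat_lit 5, nat_lit 2, nat_lit 5, nat_lit 1] else (Wt_522_524 j)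
def Wt_519_524 (j : ℕ) : List ℕ := bif Nat.blt j 521 then (Wt_519_521 j) else (Wt_521_524 j)
def Wt_525_527 (j : ℕ) : List ℕ := bif Nat.blt j 526 then [nat_lit 0, nat_lit 5, nat_lit 3, nat_lit 5, nat_lit 1, nat_lit 3, nat_lit 1] else [nat_lit 3, nat_lit 1, nat_lit 3, nat_lit 2, nat_lit 1, nat_lit 0, nat_lit 1, nat_lit 2]
def Wt_524_527 (j : ℕ) : List ℕ := bif Nat.blt j 525 then [nat_lit 1, nat_lit 5, nat_lit 4, nat_lit 1, nat_lit 2, nat_lit 5, nat_lit 2, nat_lit 1, nat_lit 5, nat_lit 4, nat_lit 1, nat_lit 2, nat_lit 5, nat_lit 2] else (Wt_525_527 j)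
def Wt_528_530 (j : ℕ) : List ℕ := bif Nat.blt j 529 then [nat_lit 5, nat_lit 0, nat_lit 2, nat_lit 0, nat_lit 1, nat_lit 2, nat_lit 3, nat_lit 5, nat_lit 3] else [nat_lit 2, nat_lit 3, nat_lit 4, nat_lit 2, nat_lit 4, nat_lit 2, nat_lit 1, nat_lit 0, nat_lit 4]
def Wt_527_530 (j : ℕ) : List ℕ := bif Nat.blt j 528 then [nat_lit 5, nat_lit 3, nat_lit 5, nat_lit 3, nat_lit 0, nat_lit 2, nat_lit 0, nat_lit 1, nat_lit 2] else (Wt_528_530 j)
def Wt_524_530 (j : ℕ) : List ℕ := bif Nat.blt j 527 then (Wt_524_527 j) else (Wt_527_530 j)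
def Wt_519_530 (j : ℕ) : List ℕ := bif Nat.blt j 524 then (Wt_519_524 j) else (Wt_524_530 j)
def Wt_509_530 (j : ℕ) : List ℕ := bif Nat.blt j 519 then (Wt_509_519 j) else (Wt_519_530 j)
def Wt_489_530 (j : ℕ) : List ℕ := bif Nat.blt j 509 then (Wt_489_509 j) else (Wt_509_530 j)
def Wt_530_532 (j : ℕ) : List ℕ := bif Nat.blt j 531 then [nat_lit 1, nat_lit 4, nat_lit 1, nat_lit 3, nat_lit 2, nat_lit 3, nat_lit 0, nat_lit 4, nat_lit 0] else [nat_lit 4, nat_lit 0, nat_lit 2, nat_lit 0, nat_lit 4, nat_lit 2, nat_lit 1, nat_lit 4, nat_lit 0, nat_lit 2, nat_lit 0, nat_lit 4, nat_lit 2, nat_lit 1]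
def Wt_533_535 (j : ℕ) : List ℕ := bif Nat.blt j 534 then [nat_lit 1, nat_lit 3, nat_lit 5, nat_lit 1, nat_lit 2, nat_lit 5, nat_lit 2, nat_lit 3, nat_lit 0] else [nat_lit 0, nat_lit 1, nat_lit 2, nat_lit 0, nat_lit 5, nat_lit 1, nat_lit 2, nat_lit 5, nat_lit 1]
def Wt_532_535 (j : ℕ) : List ℕ := bif Nat.blt j 533 then [nat_lit 63, nat_lit 4, nat_lit 0, nat_lit 5, nat_lit 0, nat_lit 4, nat_lit 0, nat_lit 5, nat_lit 0, nat_lit 4, nat_lit 0, nat_lit 5, nat_lit 0] else (Wt_533_535 j)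
def Wt_530_535 (j : ℕ) : List ℕ := bif Nat.blt j 532 then (Wt_530_532 j) else (Wt_532_535 j)
def Wt_535_537 (j : ℕ) : List ℕ := bif Nat.blt j 536 then [nat_lit 63, nat_lit 5, nat_lit 2, nat_lit 1, nat_lit 5, nat_lit 0, nat_lit 2, nat_lit 5, nat_lit 2, nat_lit 1, nat_lit 5, nat_lit 0, nat_lit 2] else [nat_lit 63, nat_lit 5, nat_lit 0, nat_lit 4, nat_lit 0, nat_lit 5, nat_lit 0, nat_lit 4, nat_lit 0, nat_lit 5, nat_lit 0, nat_lit 4, nat_lit 0]
def Wt_538_540 (j : ℕ) : List ℕ := bif Nat.blt j 539 then [nat_lit 63, nat_lit 0, nat_lit 1, nat_lit 0, nat_lit 1] else [nat_lit 1, nat_lit 5, nat_lit 3, nat_lit 5, nat_lit 1, nat_lit 0, nat_lit 3]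
def Wt_537_540 (j : ℕ) : List ℕ := bif Nat.blt j 538 then [nat_lit 63, nat_lit 0, nat_lit 2, nat_lit 1, nat_lit 0, nat_lit 2, nat_lit 5, nat_lit 0, nat_lit 2, nat_lit 1, nat_lit 0, nat_lit 2, nat_lit 5] else (Wt_538_540 j)
def Wt_535_540 (j : ℕ) : List ℕ := bif Nat.blt j 537 then (Wt_535_537 j) else (Wt_537_540 j)
def Wt_530_540 (j : ℕ) : List ℕ := bif Nat.blt j 535 then (Wt_530_535 j) else (Wt_535_540 j)
def Wt_540_542 (j : ℕ) : List ℕ := bif Nat.blt j 541 then [nat_lit 63, nat_lit 1, nat_lit 2, nat_lit 5, nat_lit 2, nat_lit 1, nat_lit 4, nat_lit 5, nat_lit 1, nat_lit 2, nat_lit 5, nat_lit 2, nat_lit 1, nat_lit 4, nat_lit 5] else [nat_lit 3, nat_lit 0, nat_lit 1, nat_lit 5, nat_lit 3, nat_lit 5, nat_lit 1]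
def Wt_543_545 (j : ℕ) : List ℕ := bif Nat.blt j 544 then [nat_lit 5, nat_lit 2, nat_lit 5, nat_lit 0, nat_lit 5, nat_lit 2, nat_lit 5, nat_lit 1, nat_lit 0] else [nat_lit 0, nat_lit 3, nat_lit 5, nat_lit 3, nat_lit 5, nat_lit 2, nat_lit 0, nat_lit 1, nat_lit 2]
def Wt_542_545 (j : ℕ) : List ℕ := bif Nat.blt j 543 then [nat_lit 5, nat_lit 2, nat_lit 3, nat_lit 1, nat_lit 0, nat_lit 3, nat_lit 5, nat_lit 1, nat_lit 2] else (Wt_543_545 j)
def Wt_540_545 (j : ℕ) : List ℕ := bif Nat.blt j 542 then (Wt_540_542 j) else (Wt_542_545 j)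
def Wt_545_547 (j : ℕ) : List ℕ := bif Nat.blt j 546 then [nat_lit 63, nat_lit 2, nat_lit 0, nat_lit 4, nat_lit 0, nat_lit 2, nat_lit 4, nat_lit 3, nat_lit 4] else [nat_lit 1, nat_lit 4, nat_lit 0, nat_lit 2, nat_lit 0, nat_lit 4, nat_lit 2, nat_lit 1, nat_lit 4, nat_lit 0, nat_lit 2, nat_lit 0, nat_lit 4, nat_lit 2]
def Wt_548_550 (j : ℕ) : List ℕ := bif Nat.blt j 549 then [nat_lit 5, nat_lit 3, nat_lit 5, nat_lit 2, nat_lit 0, nat_lit 1, nat_lit 2, nat_lit 3, nat_lit 0] else [nat_lit 3, nat_lit 2, nat_lit 1, nat_lit 0, nat_lit 2, nat_lit 0, nat_lit 5, nat_lit 3, nat_lit 5]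
def Wt_547_550 (j : ℕ) : List ℕ := bif Nat.blt j 548 then [nat_lit 5, nat_lit 1, nat_lit 3, nat_lit 0, nat_lit 1, nat_lit 5, nat_lit 0, nat_lit 3, nat_lit 0] else (Wt_548_550 j)
def Wt_545_550 (j : ℕ) : List ℕ := bif Nat.blt j 547 then (Wt_545_547 j) else (Wt_547_550 j)
def Wt_540_550 (j : ℕ) : List ℕ := bif Nat.blt j 545 then (Wt_540_545 j) else (Wt_545_550 j)
def Wt_530_550 (j : ℕ) : List ℕ := bif Nat.blt j 540 then (Wt_530_540 j) else (Wt_540_550 j)
def Wt_550_552 (j : ℕ) : List ℕ := bif Nat.blt j 551 then [nat_lit 0, nat_lit 1, nat_lit 3, nat_lit 2, nat_lit 1, nat_lit 2, nat_lit 5, nat_lit 3, nat_lit 5] else [nat_lit 5, nat_lit 3, nat_lit 5, nat_lit 2, nat_lit 0, nat_lit 1, nat_lit 2, nat_lit 0, nat_lit 3]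
def Wt_553_555 (j : ℕ) : List ℕ := bif Nat.blt j 554 then [nat_lit 5, nat_lit 4, nat_lit 5, nat_lit 4, nat_lit 1, nat_lit 5, nat_lit 4, nat_lit 5, nat_lit 4, nat_lit 1, nat_lit 5, nat_lit 4, nat_lit 5, nat_lit 4, nat_lit 1] else [nat_lit 4, nat_lit 5, nat_lit 2, nat_lit 5, nat_lit 2, nat_lit 4, nat_lit 5, nat_lit 2, nat_lit 5, nat_lit 2, nat_lit 4, nat_lit 5, nat_lit 2, nat_lit 5, nat_lit 2]
def Wt_552_555 (j : ℕ) : List ℕ := bif Nat.blt j 553 then [nat_lit 5, nat_lit 1, nat_lit 0, nat_lit 3, nat_lit 1, nat_lit 5, nat_lit 3] else (Wt_553_555 j)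
def Wt_550_555 (j : ℕ) : List ℕ := bif Nat.blt j 552 then (Wt_550_552 j) else (Wt_552_555 j)
def Wt_555_557 (j : ℕ) : List ℕ := bif Nat.blt j 556 then [nat_lit 5, nat_lit 1, nat_lit 2, nat_lit 5, nat_lit 3, nat_lit 5, nat_lit 1, nat_lit 2, nat_lit 5, nat_lit 3, nat_lit 5, nat_lit 1, nat_lit 2, nat_lit 5, nat_lit 3] else [nat_lit 1, nat_lit 2, nat_lit 0, nat_lit 2, nat_lit 1, nat_lit 3, nat_lit 1, nat_lit 3]
def Wt_558_560 (j : ℕ) : List ℕ := bif Nat.blt j 559 then [nat_lit 2, nat_lit 3, nat_lit 0, nat_lit 3, nat_lit 1, nat_lit 0, nat_lit 2, nat_lit 3, nat_lit 0, nat_lit 3, nat_lit 1, nat_lit 0] else [nat_lit 3, nat_lit 0, nat_lit 4, nat_lit 1, nat_lit 0, nat_lit 4, nat_lit 1, nat_lit 3, nat_lit 2]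
def Wt_557_560 (j : ℕ) : List ℕ := bif Nat.blt j 558 then [nat_lit 5, nat_lit 0, nat_lit 5, nat_lit 3, nat_lit 5, nat_lit 0, nat_lit 5, nat_lit 3] else (Wt_558_560 j)
def Wt_555_560 (j : ℕ) : List ℕ := bif Nat.blt j 557 then (Wt_555_557 j) else (Wt_557_560 j)
def Wt_550_560 (j : ℕ) : List ℕ := bif Nat.blt j 555 then (Wt_550_555 j) else (Wt_555_560 j)
def Wt_560_562 (j : ℕ) : List ℕ := bif Nat.blt j 561 then [nat_lit 2, nat_lit 3, nat_lit 5, nat_lit 3, nat_lit 1, nat_lit 2, nat_lit 5, nat_lit 1] else [nat_lit 0, nat_lit 1, nat_lit 3, nat_lit 1, nat_lit 3, nat_lit 2, nat_lit 0, nat_lit 1, nat_lit 3, nat_lit 1, nat_lit 3, nat_lit 2]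
def Wt_563_565 (j : ℕ) : List ℕ := bif Nat.blt j 564 then [nat_lit 5, nat_lit 2, nat_lit 0, nat_lit 1, nat_lit 2, nat_lit 3, nat_lit 0, nat_lit 5, nat_lit 3] else [nat_lit 5, nat_lit 3, nat_lit 2, nat_lit 5, nat_lit 1, nat_lit 5, nat_lit 3, nat_lit 2, nat_lit 5, nat_lit 1, nat_lit 5, nat_lit 3, nat_lit 2, nat_lit 5, nat_lit 1]
def Wt_562_565 (j : ℕ) : List ℕ := bif Nat.blt j 563 then [nat_lit 63, nat_lit 2, nat_lit 5, nat_lit 2, nat_lit 5, nat_lit 2, nat_lit 5, nat_lit 2, nat_lit 5] else (Wt_563_565 j)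
def Wt_560_565 (j : ℕ) : List ℕ := bif Nat.blt j 562 then (Wt_560_562 j) else (Wt_562_565 j)
def Wt_566_568 (j : ℕ) : List ℕ := bif Nat.blt j 567 then [nat_lit 3, nat_lit 2, nat_lit 0, nat_lit 4, nat_lit 0, nat_lit 1, nat_lit 4, nat_lit 3, nat_lit 2, nat_lit 0, nat_lit 4, nat_lit 0, nat_lit 1, nat_lit 4] else [nat_lit 63, nat_lit 0, nat_lit 1, nat_lit 4, nat_lit 3, nat_lit 2, nat_lit 0, nat_lit 4, nat_lit 0, nat_lit 1, nat_lit 4, nat_lit 3, nat_lit 2, nat_lit 0, nat_lit 4]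
def Wt_565_568 (j : ℕ) : List ℕ := bif Nat.blt j 566 then [nat_lit 4, nat_lit 1, nat_lit 0, nat_lit 4, nat_lit 1, nat_lit 2, nat_lit 3, nat_lit 2, nat_lit 0] else (Wt_566_568 j)
def Wt_569_571 (j : ℕ) : List ℕ := bif Nat.blt j 570 then [nat_lit 63, nat_lit 0, nat_lit 5, nat_lit 0, nat_lit 5, nat_lit 0, nat_lit 5, nat_lit 0, nat_lit 5] else [nat_lit 5, nat_lit 1, nat_lit 3, nat_lit 0, nat_lit 1, nat_lit 5, nat_lit 3]
def Wt_568_571 (j : ℕ) : List ℕ := bif Nat.blt j 569 then [nat_lit 3, nat_lit 1, nat_lit 3, nat_lit 2, nat_lit 0, nat_lit 1, nat_lit 3, nat_lit 1, nat_lit 3, nat_lit 2, nat_lit 0, nat_lit 1] else (Wt_569_571 j)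
def Wt_565_571 (j : ℕ) : List ℕ := bif Nat.blt j 568 then (Wt_565_568 j) else (Wt_568_571 j)
def Wt_560_571 (j : ℕ) : List ℕ := bif Nat.blt j 565 then (Wt_560_565 j) else (Wt_565_571 j)
def Wt_550_571 (j : ℕ) : List ℕ := bif Nat.blt j 560 then (Wt_550_560 j) else (Wt_560_571 j)
def Wt_530_571 (j : ℕ) : List ℕ := bif Nat.blt j 550 then (Wt_530_550 j) else (Wt_550_571 j)
def Wt_489_571 (j : ℕ) : List ℕ := bif Nat.blt j 530 then (Wt_489_530 j) else (Wt_530_571 j)
def Wt_571_573 (j : ℕ) : List ℕ := bif Nat.blt j 572 then [nat_lit 3, nat_lit 4, nat_lit 1, nat_lit 4, nat_lit 1, nat_lit 4, nat_lit 3, nat_lit 0, nat_lit 1] else [nat_lit 5, nat_lit 2, nat_lit 1, nat_lit 5, nat_lit 0, nat_lit 2, nat_lit 5, nat_lit 2, nat_lit 1, nat_lit 5, nat_lit 0, nat_lit 2]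
def Wt_574_576 (j : ℕ) : List ℕ := bif Nat.blt j 575 then [nat_lit 63, nat_lit 0, nat_lit 5, nat_lit 1, nat_lit 2, nat_lit 3, nat_lit 5, nat_lit 2, nat_lit 0, nat_lit 5, nat_lit 1, nat_lit 2, nat_lit 3, nat_lit 5, nat_lit 2] else [nat_lit 63, nat_lit 1, nat_lit 5, nat_lit 1, nat_lit 2, nat_lit 5, nat_lit 0, nat_lit 2, nat_lit 1, nat_lit 0]
def Wt_573_576 (j : ℕ) : List ℕ := bif Nat.blt j 574 then [nat_lit 63, nat_lit 5, nat_lit 4, nat_lit 1, nat_lit 2, nat_lit 5, nat_lit 2, nat_lit 1, nat_lit 5, nat_lit 4, nat_lit 1, nat_lit 2, nat_lit 5, nat_lit 2, nat_lit 1] else (Wt_574_576 j)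
def Wt_571_576 (j : ℕ) : List ℕ := bif Nat.blt j 573 then (Wt_571_573 j) else (Wt_573_576 j)
def Wt_576_578 (j : ℕ) : List ℕ := bif Nat.blt j 577 then [nat_lit 63, nat_lit 2, nat_lit 1, nat_lit 5, nat_lit 4, nat_lit 1, nat_lit 2, nat_lit 5, nat_lit 2, nat_lit 1, nat_lit 5, nat_lit 4, nat_lit 1, nat_lit 2, nat_lit 5] else [nat_lit 63, nat_lit 3, nat_lit 1, nat_lit 0, nat_lit 3, nat_lit 5, nat_lit 1, nat_lit 3, nat_lit 1, nat_lit 0, nat_lit 3, nat_lit 5, nat_lit 1]
def Wt_579_581 (j : ℕ) : List ℕ := bif Nat.blt j 580 then [nat_lit 0, nat_lit 4, nat_lit 0, nat_lit 1, nat_lit 4, nat_lit 3, nat_lit 2, nat_lit 0, nat_lit 4, nat_lit 0, nat_lit 1, nat_lit 4, nat_lit 3, nat_lit 2] else [nat_lit 1, nat_lit 0, nat_lit 4, nat_lit 3, nat_lit 2, nat_lit 3, nat_lit 4]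
def Wt_578_581 (j : ℕ) : List ℕ := bif Nat.blt j 579 then [nat_lit 1, nat_lit 0, nat_lit 4, nat_lit 2, nat_lit 3, nat_lit 4, nat_lit 2, nat_lit 4, nat_lit 2] else (Wt_579_581 j)
def Wt_576_581 (j : ℕ) : List ℕ := bif Nat.blt j 578 then (Wt_576_578 j) else (Wt_578_581 j)
def Wt_571_581 (j : ℕ) : List ℕ := bif Nat.blt j 576 then (Wt_571_576 j) else (Wt_576_581 j)
def Wt_581_583 (j : ℕ) : List ℕ := bif Nat.blt j 582 then [nat_lit 1, nat_lit 0, nat_lit 2, nat_lit 3, nat_lit 1, nat_lit 3, nat_lit 1, nat_lit 0, nat_lit 2, nat_lit 3, nat_lit 1, nat_lit 3] else [nat_lit 63, nat_lit 4, nat_lit 5, nat_lit 1, nat_lit 4, nat_lit 5, nat_lit 4, nat_lit 5, nat_lit 1, nat_lit 4, nat_lit 5, nat_lit 4, nat_lit 5, nat_lit 1, nat_lit 4, nat_lit 5]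
def Wt_584_586 (j : ℕ) : List ℕ := bif Nat.blt j 585 then [nat_lit 4, nat_lit 2, nat_lit 3, nat_lit 4, nat_lit 2, nat_lit 4, nat_lit 2, nat_lit 1, nat_lit 0] else [nat_lit 63, nat_lit 4, nat_lit 5, nat_lit 4, nat_lit 5, nat_lit 4, nat_lit 5, nat_lit 4, nat_lit 5]
def Wt_583_586 (j : ℕ) : List ℕ := bif Nat.blt j 584 then [nat_lit 2, nat_lit 0, nat_lit 1, nat_lit 0, nat_lit 2, nat_lit 1] else (Wt_584_586 j)
def Wt_581_586 (j : ℕ) : List ℕ := bif Nat.blt j 583 then (Wt_581_583 j) else (Wt_583_586 j)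
def Wt_586_588 (j : ℕ) : List ℕ := bif Nat.blt j 587 then [nat_lit 4, nat_lit 3, nat_lit 2, nat_lit 3, nat_lit 4, nat_lit 0, nat_lit 1] else [nat_lit 1, nat_lit 4, nat_lit 3, nat_lit 2, nat_lit 3, nat_lit 4, nat_lit 0]
def Wt_589_591 (j : ℕ) : List ℕ := bif Nat.blt j 590 then [nat_lit 63, nat_lit 5, nat_lit 4, nat_lit 5, nat_lit 4, nat_lit 5, nat_lit 4, nat_lit 5, nat_lit 4] else [nat_lit 63, nat_lit 0, nat_lit 2, nat_lit 4, nat_lit 3, nat_lit 4, nat_lit 2, nat_lit 0, nat_lit 4]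
def Wt_588_591 (j : ℕ) : List ℕ := bif Nat.blt j 589 then [nat_lit 63, nat_lit 5, nat_lit 1, nat_lit 4, nat_lit 5, nat_lit 4, nat_lit 5, nat_lit 1, nat_lit 4, nat_lit 5, nat_lit 4, nat_lit 5, nat_lit 1, nat_lit 4, nat_lit 5, nat_lit 4] else (Wt_589_591 j)
def Wt_586_591 (j : ℕ) : List ℕ := bif Nat.blt j 588 then (Wt_586_588 j) else (Wt_588_591 j)
def Wt_581_591 (j : ℕ) : List ℕ := bif Nat.blt j 586 then (Wt_581_586 j) else (Wt_586_591 j)
def Wt_571_591 (j : ℕ) : List ℕ := bif Nat.blt j 581 then (Wt_571_581 j) else (Wt_581_591 j)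
def Wt_591_593 (j : ℕ) : List ℕ := bif Nat.blt j 592 then [nat_lit 5, nat_lit 3, nat_lit 1, nat_lit 2, nat_lit 5, nat_lit 1, nat_lit 2, nat_lit 3] else [nat_lit 1, nat_lit 2, nat_lit 5, nat_lit 2, nat_lit 1, nat_lit 5, nat_lit 4, nat_lit 1, nat_lit 2, nat_lit 5, nat_lit 2, nat_lit 1, nat_lit 5, nat_lit 4]
def Wt_594_596 (j : ℕ) : List ℕ := bif Nat.blt j 595 then [nat_lit 1, nat_lit 5, nat_lit 0, nat_lit 2, nat_lit 5, nat_lit 3, nat_lit 2, nat_lit 1, nat_lit 5, nat_lit 0, nat_lit 2, nat_lit 5, nat_lit 3, nat_lit 2] else [nat_lit 1, nat_lit 5, nat_lit 4, nat_lit 5, nat_lit 4, nat_lit 1, nat_lit 5, nat_lit 4, nat_lit 5, nat_lit 4, nat_lit 1, nat_lit 5, nat_lit 4, nat_lit 5, nat_lit 4]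
def Wt_593_596 (j : ℕ) : List ℕ := bif Nat.blt j 594 then [nat_lit 2, nat_lit 3, nat_lit 1, nat_lit 2, nat_lit 3, nat_lit 2, nat_lit 3, nat_lit 0] else (Wt_594_596 j)
def Wt_591_596 (j : ℕ) : List ℕ := bif Nat.blt j 593 then (Wt_591_593 j) else (Wt_593_596 j)
def Wt_596_598 (j : ℕ) : List ℕ := bif Nat.blt j 597 then [nat_lit 63, nat_lit 5, nat_lit 1, nat_lit 3, nat_lit 5, nat_lit 3, nat_lit 5, nat_lit 1, nat_lit 3, nat_lit 5, nat_lit 3] else [nat_lit 63, nat_lit 5, nat_lit 4, nat_lit 5, nat_lit 1, nat_lit 4, nat_lit 5, nat_lit 4, nat_lit 5, nat_lit 1, nat_lit 4, nat_lit 5, nat_lit 4, nat_lit 5, nat_lit 1, nat_lit 4]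
def Wt_599_601 (j : ℕ) : List ℕ := bif Nat.blt j 600 then [nat_lit 63, nat_lit 3, nat_lit 1, nat_lit 5, nat_lit 3, nat_lit 5, nat_lit 3, nat_lit 1, nat_lit 5, nat_lit 3, nat_lit 5] else [nat_lit 63, nat_lit 0, nat_lit 5, nat_lit 1, nat_lit 0, nat_lit 3, nat_lit 1, nat_lit 5, nat_lit 0, nat_lit 3]
def Wt_598_601 (j : ℕ) : List ℕ := bif Nat.blt j 599 then [nat_lit 63, nat_lit 4, nat_lit 1, nat_lit 5, nat_lit 4, nat_lit 5, nat_lit 4, nat_lit 1, nat_lit 5, nat_lit 4, nat_lit 5, nat_lit 4, nat_lit 1, nat_lit 5, nat_lit 4, nat_lit 5] else (Wt_599_601 j)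
def Wt_596_601 (j : ℕ) : List ℕ := bif Nat.blt j 598 then (Wt_596_598 j) else (Wt_598_601 j)
def Wt_591_601 (j : ℕ) : List ℕ := bif Nat.blt j 596 then (Wt_591_596 j) else (Wt_596_601 j)
def Wt_601_603 (j : ℕ) : List ℕ := bif Nat.blt j 602 then [nat_lit 2, nat_lit 0, nat_lit 1, nat_lit 2, nat_lit 0, nat_lit 3, nat_lit 5, nat_lit 3, nat_lit 5] else [nat_lit 3, nat_lit 5, nat_lit 3, nat_lit 1, nat_lit 2, nat_lit 5, nat_lit 2, nat_lit 1]
def Wt_604_606 (j : ℕ) : List ℕ := bif Nat.blt j 605 then [nat_lit 63, nat_lit 5, nat_lit 1, nat_lit 5, nat_lit 1, nat_lit 5, nat_lit 1, nat_lit 5, nat_lit 1] else [nat_lit 63, nat_lit 5, nat_lit 0, nat_lit 3, nat_lit 5, nat_lit 3, nat_lit 5, nat_lit 0, nat_lit 3, nat_lit 5, nat_lit 3]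
def Wt_603_606 (j : ℕ) : List ℕ := bif Nat.blt j 604 then [nat_lit 3, nat_lit 5, nat_lit 0, nat_lit 1, nat_lit 3, nat_lit 2, nat_lit 1, nat_lit 2, nat_lit 5] else (Wt_604_606 j)
def Wt_601_606 (j : ℕ) : List ℕ := bif Nat.blt j 603 then (Wt_601_603 j) else (Wt_603_606 j)
def Wt_607_609 (j : ℕ) : List ℕ := bif Nat.blt j 608 then [nat_lit 63, nat_lit 5, nat_lit 3, nat_lit 5, nat_lit 3, nat_lit 5, nat_lit 3, nat_lit 5, nat_lit 3] else [nat_lit 0, nat_lit 4, nat_lit 3, nat_lit 2, nat_lit 3, nat_lit 4, nat_lit 1]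
def Wt_606_609 (j : ℕ) : List ℕ := bif Nat.blt j 607 then [nat_lit 63, nat_lit 5, nat_lit 3, nat_lit 5, nat_lit 1, nat_lit 3, nat_lit 5, nat_lit 3, nat_lit 5, nat_lit 1, nat_lit 3] else (Wt_607_609 j)
def Wt_610_612 (j : ℕ) : List ℕ := bif Nat.blt j 611 then [nat_lit 63, nat_lit 1, nat_lit 3, nat_lit 0, nat_lit 1, nat_lit 5, nat_lit 3, nat_lit 5] else [nat_lit 63, nat_lit 1, nat_lit 2, nat_lit 0, nat_lit 2, nat_lit 1, nat_lit 3, nat_lit 1, nat_lit 3]
def Wt_609_612 (j : ℕ) : List ℕ := bif Nat.blt j 610 then [nat_lit 63, nat_lit 2, nat_lit 4, nat_lit 3, nat_lit 0, nat_lit 1, nat_lit 4, nat_lit 3, nat_lit 2, nat_lit 4, nat_lit 3, nat_lit 0, nat_lit 1, nat_lit 4, nat_lit 3] else (Wt_610_612 j)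
def Wt_606_612 (j : ℕ) : List ℕ := bif Nat.blt j 609 then (Wt_606_609 j) else (Wt_609_612 j)
def Wt_601_612 (j : ℕ) : List ℕ := bif Nat.blt j 606 then (Wt_601_606 j) else (Wt_606_612 j)
def Wt_591_612 (j : ℕ) : List ℕ := bif Nat.blt j 601 then (Wt_591_601 j) else (Wt_601_612 j)
def Wt_571_612 (j : ℕ) : List ℕ := bif Nat.blt j 591 then (Wt_571_591 j) else (Wt_591_612 j)
def Wt_612_614 (j : ℕ) : List ℕ := bif Nat.blt j 613 then [nat_lit 63, nat_lit 0, nat_lit 2, nat_lit 0, nat_lit 2, nat_lit 5, nat_lit 3, nat_lit 5, nat_lit 3, nat_lit 1] else [nat_lit 4, nat_lit 2, nat_lit 4, nat_lit 3, nat_lit 2, nat_lit 4, nat_lit 0, nat_lit 1, nat_lit 2]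
def Wt_615_617 (j : ℕ) : List ℕ := bif Nat.blt j 616 then [nat_lit 63, nat_lit 1, nat_lit 5, nat_lit 1, nat_lit 5, nat_lit 1, nat_lit 5, nat_lit 1, nat_lit 5] else [nat_lit 63, nat_lit 4, nat_lit 5, nat_lit 4, nat_lit 1, nat_lit 5, nat_lit 4, nat_lit 5, nat_lit 4, nat_lit 1, nat_lit 5, nat_lit 4, nat_lit 5, nat_lit 4, nat_lit 1, nat_lit 5]
def Wt_614_617 (j : ℕ) : List ℕ := bif Nat.blt j 615 then [nat_lit 3, nat_lit 5, nat_lit 3, nat_lit 0, nat_lit 1, nat_lit 2, nat_lit 0, nat_lit 2, nat_lit 5] else (Wt_615_617 j)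
def Wt_612_617 (j : ℕ) : List ℕ := bif Nat.blt j 614 then (Wt_612_614 j) else (Wt_614_617 j)
def Wt_617_619 (j : ℕ) : List ℕ := bif Nat.blt j 618 then [nat_lit 3, nat_lit 5, nat_lit 3, nat_lit 0, nat_lit 2, nat_lit 0, nat_lit 1, nat_lit 2, nat_lit 5] else [nat_lit 0, nat_lit 2, nat_lit 3, nat_lit 2, nat_lit 1, nat_lit 4, nat_lit 0, nat_lit 1, nat_lit 4]
def Wt_620_622 (j : ℕ) : List ℕ := bif Nat.blt j 621 then [nat_lit 0, nat_lit 4, nat_lit 2, nat_lit 3, nat_lit 4, nat_lit 2, nat_lit 4, nat_lit 2, nat_lit 1] else [nat_lit 2, nat_lit 1, nat_lit 0, nat_lit 2, nat_lit 4, nat_lit 0, nat_lit 4, nat_lit 0, nat_lit 4]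
def Wt_619_622 (j : ℕ) : List ℕ := bif Nat.blt j 620 then [nat_lit 0, nat_lit 1, nat_lit 4, nat_lit 3, nat_lit 2, nat_lit 3, nat_lit 4] else (Wt_620_622 j)
def Wt_617_622 (j : ℕ) : List ℕ := bif Nat.blt j 619 then (Wt_617_619 j) else (Wt_619_622 j)
def Wt_612_622 (j : ℕ) : List ℕ := bif Nat.blt j 617 then (Wt_612_617 j) else (Wt_617_622 j)
def Wt_622_624 (j : ℕ) : List ℕ := bif Nat.blt j 623 then [nat_lit 3, nat_lit 5, nat_lit 1, nat_lit 2, nat_lit 5, nat_lit 2, nat_lit 3, nat_lit 0, nat_lit 1] else [nat_lit 3, nat_lit 5, nat_lit 3, nat_lit 1, nat_lit 0, nat_lit 2, nat_lit 0, nat_lit 2, nat_lit 5]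
def Wt_625_627 (j : ℕ) : List ℕ := bif Nat.blt j 626 then [nat_lit 1, nat_lit 5, nat_lit 3, nat_lit 5, nat_lit 1, nat_lit 3, nat_lit 0] else [nat_lit 1, nat_lit 4, nat_lit 3, nat_lit 0, nat_lit 1, nat_lit 3, nat_lit 4, nat_lit 1, nat_lit 4]
def Wt_624_627 (j : ℕ) : List ℕ := bif Nat.blt j 625 then [nat_lit 63, nat_lit 2, nat_lit 4, nat_lit 2, nat_lit 4, nat_lit 2, nat_lit 4] else (Wt_625_627 j)
def Wt_622_627 (j : ℕ) : List ℕ := bif Nat.blt j 624 then (Wt_622_624 j) else (Wt_624_627 j)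
def Wt_627_629 (j : ℕ) : List ℕ := bif Nat.blt j 628 then [nat_lit 5, nat_lit 3, nat_lit 0, nat_lit 1, nat_lit 2, nat_lit 0, nat_lit 2, nat_lit 5, nat_lit 3] else [nat_lit 5, nat_lit 2, nat_lit 1, nat_lit 3, nat_lit 5, nat_lit 3, nat_lit 2, nat_lit 1]
def Wt_630_632 (j : ℕ) : List ℕ := bif Nat.blt j 631 then [nat_lit 0, nat_lit 1, nat_lit 4, nat_lit 0, nat_lit 3, nat_lit 2, nat_lit 3, nat_lit 1, nat_lit 4] else [nat_lit 0, nat_lit 3, nat_lit 2, nat_lit 3, nat_lit 1, nat_lit 4, nat_lit 0, nat_lit 1, nat_lit 4]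
def Wt_629_632 (j : ℕ) : List ℕ := bif Nat.blt j 630 then [nat_lit 3, nat_lit 2, nat_lit 3, nat_lit 4, nat_lit 0, nat_lit 1, nat_lit 4] else (Wt_630_632 j)
def Wt_627_632 (j : ℕ) : List ℕ := bif Nat.blt j 629 then (Wt_627_629 j) else (Wt_629_632 j)
def Wt_622_632 (j : ℕ) : List ℕ := bif Nat.blt j 627 then (Wt_622_627 j) else (Wt_627_632 j)
def Wt_612_632 (j : ℕ) : List ℕ := bif Nat.blt j 622 then (Wt_612_622 j) else (Wt_622_632 j)
def Wt_632_634 (j : ℕ) : List ℕ := bif Nat.blt j 633 then [nat_lit 5, nat_lit 0, nat_lit 2, nat_lit 1, nat_lit 0, nat_lit 1, nat_lit 5, nat_lit 1, nat_lit 2] else [nat_lit 3, nat_lit 0, nat_lit 2, nat_lit 0, nat_lit 1, nat_lit 2, nat_lit 5, nat_lit 3, nat_lit 5]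
def Wt_635_637 (j : ℕ) : List ℕ := bif Nat.blt j 636 then [nat_lit 2, nat_lit 4, nat_lit 2, nat_lit 4, nat_lit 3, nat_lit 2, nat_lit 4, nat_lit 0, nat_lit 1] else [nat_lit 3, nat_lit 1, nat_lit 2, nat_lit 3, nat_lit 2, nat_lit 3, nat_lit 0, nat_lit 2]
def Wt_634_637 (j : ℕ) : List ℕ := bif Nat.blt j 635 then [nat_lit 3, nat_lit 2, nat_lit 1, nat_lit 4, nat_lit 0, nat_lit 1, nat_lit 4, nat_lit 0, nat_lit 2] else (Wt_635_637 j)
def Wt_632_637 (j : ℕ) : List ℕ := bif Nat.blt j 634 then (Wt_632_634 j) else (Wt_634_637 j)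
def Wt_637_639 (j : ℕ) : List ℕ := bif Nat.blt j 638 then [nat_lit 5, nat_lit 3, nat_lit 1, nat_lit 0, nat_lit 2, nat_lit 0, nat_lit 2, nat_lit 5, nat_lit 3] else [nat_lit 2, nat_lit 4, nat_lit 0, nat_lit 1, nat_lit 4, nat_lit 2, nat_lit 3]
def Wt_640_642 (j : ℕ) : List ℕ := bif Nat.blt j 641 then [nat_lit 5, nat_lit 0, nat_lit 1, nat_lit 5, nat_lit 2, nat_lit 5, nat_lit 0, nat_lit 5, nat_lit 2] else [nat_lit 1, nat_lit 3, nat_lit 2, nat_lit 3, nat_lit 0, nat_lit 4, nat_lit 1, nat_lit 0, nat_lit 4]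
def Wt_639_642 (j : ℕ) : List ℕ := bif Nat.blt j 640 then [nat_lit 1, nat_lit 3, nat_lit 0, nat_lit 3, nat_lit 1, nat_lit 0] else (Wt_640_642 j)
def Wt_637_642 (j : ℕ) : List ℕ := bif Nat.blt j 639 then (Wt_637_639 j) else (Wt_639_642 j)
def Wt_632_642 (j : ℕ) : List ℕ := bif Nat.blt j 637 then (Wt_632_637 j) else (Wt_637_642 j)
def Wt_642_644 (j : ℕ) : List ℕ := bif Nat.blt j 643 then [nat_lit 5, nat_lit 3, nat_lit 5, nat_lit 3, nat_lit 0, nat_lit 2, nat_lit 1, nat_lit 0, nat_lit 2] else [nat_lit 3, nat_lit 0, nat_lit 1, nat_lit 2, nat_lit 0, nat_lit 2, nat_lit 5, nat_lit 3, nat_lit 5]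
def Wt_645_647 (j : ℕ) : List ℕ := bif Nat.blt j 646 then [nat_lit 0, nat_lit 2, nat_lit 0, nat_lit 4, nat_lit 2, nat_lit 1, nat_lit 4, nat_lit 0, nat_lit 2, nat_lit 0, nat_lit 4, nat_lit 2, nat_lit 1, nat_lit 4] else [nat_lit 5, nat_lit 2, nat_lit 0, nat_lit 2, nat_lit 1, nat_lit 0, nat_lit 3, nat_lit 5, nat_lit 3]
def Wt_644_647 (j : ℕ) : List ℕ := bif Nat.blt j 645 then [nat_lit 4, nat_lit 3, nat_lit 0, nat_lit 1, nat_lit 3, nat_lit 4, nat_lit 1, nat_lit 4, nat_lit 1] else (Wt_645_647 j)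
def Wt_642_647 (j : ℕ) : List ℕ := bif Nat.blt j 644 then (Wt_642_644 j) else (Wt_644_647 j)
def Wt_648_650 (j : ℕ) : List ℕ := bif Nat.blt j 649 then [nat_lit 2, nat_lit 0, nat_lit 4, nat_lit 2, nat_lit 1, nat_lit 4, nat_lit 0, nat_lit 2, nat_lit 0, nat_lit 4, nat_lit 2, nat_lit 1, nat_lit 4, nat_lit 0] else [nat_lit 3, nat_lit 5, nat_lit 3, nat_lit 0, nat_lit 5, nat_lit 3, nat_lit 5, nat_lit 3, nat_lit 0, nat_lit 5]
def Wt_647_650 (j : ℕ) : List ℕ := bif Nat.blt j 648 then [nat_lit 2, nat_lit 3, nat_lit 4, nat_lit 1, nat_lit 0, nat_lit 4, nat_lit 0, nat_lit 2, nat_lit 3, nat_lit 4, nat_lit 1, nat_lit 0, nat_lit 4, nat_lit 0] else (Wt_648_650 j)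
def Wt_651_653 (j : ℕ) : List ℕ := bif Nat.blt j 652 then [nat_lit 2, nat_lit 3, nat_lit 5, nat_lit 3, nat_lit 2, nat_lit 1, nat_lit 5, nat_lit 1] else [nat_lit 5, nat_lit 2, nat_lit 1, nat_lit 5, nat_lit 3, nat_lit 0, nat_lit 1, nat_lit 3, nat_lit 2]
def Wt_650_653 (j : ℕ) : List ℕ := bif Nat.blt j 651 then [nat_lit 2, nat_lit 4, nat_lit 0, nat_lit 4, nat_lit 0, nat_lit 4, nat_lit 2, nat_lit 0, nat_lit 1] else (Wt_651_653 j)
def Wt_647_653 (j : ℕ) : List ℕ := bif Nat.blt j 650 then (Wt_647_650 j) else (Wt_650_653 j)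
def Wt_642_653 (j : ℕ) : List ℕ := bif Nat.blt j 647 then (Wt_642_647 j) else (Wt_647_653 j)
def Wt_632_653 (j : ℕ) : List ℕ := bif Nat.blt j 642 then (Wt_632_642 j) else (Wt_642_653 j)
def Wt_612_653 (j : ℕ) : List ℕ := bif Nat.blt j 632 then (Wt_612_632 j) else (Wt_632_653 j)
def Wt_571_653 (j : ℕ) : List ℕ := bif Nat.blt j 612 then (Wt_571_612 j) else (Wt_612_653 j)
def Wt_489_653 (j : ℕ) : List ℕ := bif Nat.blt j 571 then (Wt_489_571 j) else (Wt_571_653 j)
def Wt_326_653 (j : ℕ) : List ℕ := bif Nat.blt j 489 then (Wt_326_489 j) else (Wt_489_653 j)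
def Wt_0_653 (j : ℕ) : List ℕ := bif Nat.blt j 326 then (Wt_0_326 j) else (Wt_326_653 j)
def Wt (j : ℕ) : List ℕ := (Wt_0_653 j)
def W (j : ℕ) : List ℕ := bif Nat.blt j 653 then Wt j else []
theorem W_ge (j : ℕ) (h : 653 ≤ j) : W j = [] := by
  unfold W
  rw [blt_false_of_le h]
  rfl
def Hl : List ℕ := [nat_lit 0, nat_lit 1]
def isH (y : ℕ) : Bool := List.elem y Hl
def Rb : List (List ℕ) := [[nat_lit 0, nat_lit 0],
  [nat_lit 1, nat_lit 1],
  [nat_lit 1, nat_lit 0, nat_lit 1, nat_lit 0],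
  [nat_lit 2, nat_lit 2],
  [nat_lit 2, nat_lit 0, nat_lit 2, nat_lit 0, nat_lit 2, nat_lit 0, nat_lit 2, nat_lit 0],
  [nat_lit 2, nat_lit 1, nat_lit 2, nat_lit 1],
  [nat_lit 3, nat_lit 3],
  [nat_lit 0, nat_lit 1, nat_lit 3, nat_lit 0, nat_lit 3, nat_lit 2, nat_lit 0, nat_lit 1, nat_lit 3, nat_lit 0, nat_lit 3, nat_lit 2],
  [nat_lit 1, nat_lit 3, nat_lit 1, nat_lit 2, nat_lit 1, nat_lit 3, nat_lit 1, nat_lit 2, nat_lit 1, nat_lit 3, nat_lit 1, nat_lit 2],
  [nat_lit 0, nat_lit 3, nat_lit 1, nat_lit 2, nat_lit 0, nat_lit 3, nat_lit 1, nat_lit 2, nat_lit 0, nat_lit 3, nat_lit 1, nat_lit 2],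
  [nat_lit 3, nat_lit 1, nat_lit 3, nat_lit 2, nat_lit 0, nat_lit 1, nat_lit 3, nat_lit 1, nat_lit 3, nat_lit 2, nat_lit 0, nat_lit 1],
  [nat_lit 4, nat_lit 4],
  [nat_lit 3, nat_lit 4, nat_lit 3, nat_lit 2, nat_lit 4, nat_lit 3, nat_lit 4, nat_lit 3, nat_lit 2, nat_lit 4, nat_lit 3, nat_lit 4, nat_lit 3, nat_lit 2, nat_lit 4],
  [nat_lit 1, nat_lit 4, nat_lit 2, nat_lit 0, nat_lit 3, nat_lit 1, nat_lit 4, nat_lit 2, nat_lit 0, nat_lit 3, nat_lit 1, nat_lit 4, nat_lit 2, nat_lit 0, nat_lit 3],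
  [nat_lit 0, nat_lit 4, nat_lit 1, nat_lit 2, nat_lit 4, nat_lit 0, nat_lit 2, nat_lit 0, nat_lit 4, nat_lit 1, nat_lit 2, nat_lit 4, nat_lit 0, nat_lit 2],
  [nat_lit 4, nat_lit 1, nat_lit 0, nat_lit 3, nat_lit 4, nat_lit 2, nat_lit 3, nat_lit 4, nat_lit 1, nat_lit 0, nat_lit 3, nat_lit 4, nat_lit 2, nat_lit 3],
  [nat_lit 4, nat_lit 3, nat_lit 2, nat_lit 0, nat_lit 4, nat_lit 0, nat_lit 1, nat_lit 4, nat_lit 3, nat_lit 2, nat_lit 0, nat_lit 4, nat_lit 0, nat_lit 1],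
  [nat_lit 5, nat_lit 5],
  [nat_lit 2, nat_lit 5, nat_lit 4, nat_lit 2, nat_lit 5, nat_lit 2, nat_lit 5, nat_lit 4, nat_lit 2, nat_lit 5, nat_lit 2, nat_lit 5, nat_lit 4, nat_lit 2, nat_lit 5],
  [nat_lit 3, nat_lit 5, nat_lit 2, nat_lit 1, nat_lit 5, nat_lit 3, nat_lit 5, nat_lit 2, nat_lit 1, nat_lit 5, nat_lit 3, nat_lit 5, nat_lit 2, nat_lit 1, nat_lit 5],
  [nat_lit 4, nat_lit 5, nat_lit 1, nat_lit 4, nat_lit 5, nat_lit 4, nat_lit 5, nat_lit 1, nat_lit 4, nat_lit 5, nat_lit 4, nat_lit 5, nat_lit 1, nat_lit 4, nat_lit 5],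
  [nat_lit 5, nat_lit 2, nat_lit 3, nat_lit 5, nat_lit 1, nat_lit 5, nat_lit 2, nat_lit 3, nat_lit 5, nat_lit 1, nat_lit 5, nat_lit 2, nat_lit 3, nat_lit 5, nat_lit 1],
  [nat_lit 1, nat_lit 2, nat_lit 5, nat_lit 2, nat_lit 1, nat_lit 5, nat_lit 4, nat_lit 1, nat_lit 2, nat_lit 5, nat_lit 2, nat_lit 1, nat_lit 5, nat_lit 4],
  [nat_lit 1, nat_lit 5, nat_lit 0, nat_lit 2, nat_lit 5, nat_lit 3, nat_lit 2, nat_lit 1, nat_lit 5, nat_lit 0, nat_lit 2, nat_lit 5, nat_lit 3, nat_lit 2],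
  [nat_lit 5, nat_lit 2, nat_lit 4, nat_lit 2, nat_lit 5, nat_lit 2, nat_lit 4, nat_lit 2, nat_lit 5, nat_lit 2, nat_lit 4, nat_lit 2],
  [nat_lit 5, nat_lit 1, nat_lit 2, nat_lit 5, nat_lit 2, nat_lit 0, nat_lit 5, nat_lit 1, nat_lit 2, nat_lit 5, nat_lit 2, nat_lit 0],
  [nat_lit 5, nat_lit 0, nat_lit 4, nat_lit 0, nat_lit 5, nat_lit 0, nat_lit 4, nat_lit 0, nat_lit 5, nat_lit 0, nat_lit 4, nat_lit 0],
  [nat_lit 5, nat_lit 3, nat_lit 0, nat_lit 1, nat_lit 3, nat_lit 1, nat_lit 5, nat_lit 3, nat_lit 0, nat_lit 1, nat_lit 3, nat_lit 1],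
  [nat_lit 2, nat_lit 1, nat_lit 0, nat_lit 2, nat_lit 5, nat_lit 0, nat_lit 2, nat_lit 1, nat_lit 0, nat_lit 2, nat_lit 5, nat_lit 0],
  [nat_lit 5, nat_lit 0, nat_lit 3, nat_lit 5, nat_lit 3, nat_lit 5, nat_lit 0, nat_lit 3, nat_lit 5, nat_lit 3],
  [nat_lit 5, nat_lit 1, nat_lit 3, nat_lit 5, nat_lit 3, nat_lit 5, nat_lit 1, nat_lit 3, nat_lit 5, nat_lit 3],
  [nat_lit 0, nat_lit 3, nat_lit 0, nat_lit 3],
  [nat_lit 0, nat_lit 1, nat_lit 3, nat_lit 0, nat_lit 3, nat_lit 1],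
  [nat_lit 1, nat_lit 2, nat_lit 0, nat_lit 1, nat_lit 0, nat_lit 2],
  [nat_lit 0, nat_lit 2, nat_lit 3, nat_lit 1, nat_lit 3, nat_lit 2],
  [nat_lit 2, nat_lit 3, nat_lit 2, nat_lit 3, nat_lit 2, nat_lit 3],
  [nat_lit 2, nat_lit 4, nat_lit 2, nat_lit 4, nat_lit 2, nat_lit 4],
  [nat_lit 5, nat_lit 3, nat_lit 5, nat_lit 1, nat_lit 3, nat_lit 1, nat_lit 0],
  [nat_lit 4, nat_lit 2, nat_lit 3, nat_lit 2, nat_lit 4, nat_lit 1, nat_lit 0],
  [nat_lit 4, nat_lit 3, nat_lit 2, nat_lit 3, nat_lit 4, nat_lit 1, nat_lit 0],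
  [nat_lit 3, nat_lit 1, nat_lit 5, nat_lit 3, nat_lit 5, nat_lit 1, nat_lit 0],
  [nat_lit 5, nat_lit 1, nat_lit 2, nat_lit 5, nat_lit 0, nat_lit 2, nat_lit 0],
  [nat_lit 0, nat_lit 1, nat_lit 2, nat_lit 3, nat_lit 1, nat_lit 3, nat_lit 2, nat_lit 1],
  [nat_lit 1, nat_lit 2, nat_lit 0, nat_lit 2, nat_lit 1, nat_lit 2, nat_lit 0, nat_lit 2],
  [nat_lit 0, nat_lit 2, nat_lit 0, nat_lit 3, nat_lit 1, nat_lit 3, nat_lit 0, nat_lit 2],
  [nat_lit 1, nat_lit 2, nat_lit 3, nat_lit 2, nat_lit 0, nat_lit 2, nat_lit 3, nat_lit 2],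
  [nat_lit 1, nat_lit 5, nat_lit 1, nat_lit 2, nat_lit 3, nat_lit 5, nat_lit 3, nat_lit 2],
  [nat_lit 0, nat_lit 4, nat_lit 0, nat_lit 2, nat_lit 4, nat_lit 3, nat_lit 4, nat_lit 2],
  [nat_lit 1, nat_lit 3, nat_lit 5, nat_lit 3, nat_lit 2, nat_lit 1, nat_lit 5, nat_lit 2],
  [nat_lit 1, nat_lit 3, nat_lit 5, nat_lit 3, nat_lit 1, nat_lit 2, nat_lit 5, nat_lit 2],
  [nat_lit 1, nat_lit 3, nat_lit 1, nat_lit 2, nat_lit 0, nat_lit 2, nat_lit 1, nat_lit 3],
  [nat_lit 2, nat_lit 0, nat_lit 3, nat_lit 2, nat_lit 3, nat_lit 2, nat_lit 1, nat_lit 3],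
  [nat_lit 3, nat_lit 4, nat_lit 3, nat_lit 4, nat_lit 3, nat_lit 4, nat_lit 3, nat_lit 4],
  [nat_lit 0, nat_lit 5, nat_lit 0, nat_lit 5, nat_lit 0, nat_lit 5, nat_lit 0, nat_lit 5],
  [nat_lit 3, nat_lit 5, nat_lit 0, nat_lit 5, nat_lit 3, nat_lit 5, nat_lit 0, nat_lit 5],
  [nat_lit 1, nat_lit 5, nat_lit 1, nat_lit 5, nat_lit 1, nat_lit 5, nat_lit 1, nat_lit 5],
  [nat_lit 2, nat_lit 5, nat_lit 1, nat_lit 5, nat_lit 2, nat_lit 5, nat_lit 1, nat_lit 5],
  [nat_lit 2, nat_lit 5, nat_lit 2, nat_lit 5, nat_lit 2, nat_lit 5, nat_lit 2, nat_lit 5],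
  [nat_lit 3, nat_lit 5, nat_lit 3, nat_lit 5, nat_lit 3, nat_lit 5, nat_lit 3, nat_lit 5],
  [nat_lit 4, nat_lit 5, nat_lit 4, nat_lit 5, nat_lit 4, nat_lit 5, nat_lit 4, nat_lit 5],
  [nat_lit 3, nat_lit 5, nat_lit 3, nat_lit 5, nat_lit 2, nat_lit 0, nat_lit 2, nat_lit 1, nat_lit 0],
  [nat_lit 2, nat_lit 5, nat_lit 3, nat_lit 5, nat_lit 3, nat_lit 0, nat_lit 2, nat_lit 1, nat_lit 0],
  [nat_lit 1, nat_lit 5, nat_lit 1, nat_lit 2, nat_lit 5, nat_lit 0, nat_lit 2, nat_lit 1, nat_lit 0],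
  [nat_lit 2, nat_lit 5, nat_lit 3, nat_lit 5, nat_lit 0, nat_lit 3, nat_lit 2, nat_lit 1, nat_lit 0],
  [nat_lit 2, nat_lit 0, nat_lit 5, nat_lit 3, nat_lit 5, nat_lit 3, nat_lit 2, nat_lit 1, nat_lit 0],
  [nat_lit 2, nat_lit 4, nat_lit 0, nat_lit 4, nat_lit 0, nat_lit 4, nat_lit 2, nat_lit 1, nat_lit 0],
  [nat_lit 4, nat_lit 2, nat_lit 3, nat_lit 4, nat_lit 2, nat_lit 4, nat_lit 2, nat_lit 1, nat_lit 0],
  [nat_lit 2, nat_lit 0, nat_lit 3, nat_lit 5, nat_lit 3, nat_lit 5, nat_lit 2, nat_lit 1, nat_lit 0],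
  [nat_lit 5, nat_lit 3, nat_lit 5, nat_lit 2, nat_lit 1, nat_lit 2, nat_lit 3, nat_lit 1, nat_lit 0],
  [nat_lit 3, nat_lit 5, nat_lit 1, nat_lit 2, nat_lit 5, nat_lit 2, nat_lit 3, nat_lit 1, nat_lit 0],
  [nat_lit 3, nat_lit 4, nat_lit 1, nat_lit 4, nat_lit 1, nat_lit 4, nat_lit 3, nat_lit 1, nat_lit 0],
  [nat_lit 3, nat_lit 2, nat_lit 5, nat_lit 2, nat_lit 1, nat_lit 5, nat_lit 3, nat_lit 1, nat_lit 0],
  [nat_lit 3, nat_lit 2, nat_lit 5, nat_lit 1, nat_lit 2, nat_lit 5, nat_lit 3, nat_lit 1, nat_lit 0],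
  [nat_lit 2, nat_lit 0, nat_lit 2, nat_lit 5, nat_lit 3, nat_lit 5, nat_lit 3, nat_lit 1, nat_lit 0],
  [nat_lit 4, nat_lit 1, nat_lit 2, nat_lit 3, nat_lit 2, nat_lit 0, nat_lit 4, nat_lit 1, nat_lit 0],
  [nat_lit 4, nat_lit 1, nat_lit 3, nat_lit 2, nat_lit 3, nat_lit 0, nat_lit 4, nat_lit 1, nat_lit 0],
  [nat_lit 4, nat_lit 0, nat_lit 2, nat_lit 3, nat_lit 2, nat_lit 1, nat_lit 4, nat_lit 1, nat_lit 0],
  [nat_lit 4, nat_lit 0, nat_lit 3, nat_lit 2, nat_lit 3, nat_lit 1, nat_lit 4, nat_lit 1, nat_lit 0],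
  [nat_lit 3, nat_lit 1, nat_lit 5, nat_lit 0, nat_lit 3, nat_lit 0, nat_lit 5, nat_lit 1, nat_lit 0],
  [nat_lit 1, nat_lit 2, nat_lit 0, nat_lit 5, nat_lit 1, nat_lit 2, nat_lit 5, nat_lit 1, nat_lit 0],
  [nat_lit 5, nat_lit 2, nat_lit 5, nat_lit 0, nat_lit 5, nat_lit 2, nat_lit 5, nat_lit 1, nat_lit 0],
  []]
def spT_0_2 (j : ℕ) : ℕ := bif Nat.blt j 1 then nat_lit 0x2e000020260000e08c00002082000020210000602700006014000000380000a0320000a01500002050000020080000600f000000740000c0810000c0200000a04d0000800f0000e05e0000805e000040100000608c00006082000080a00000206e000060370000206a0000a0360000200a0000003e000000440000605a0000a05e00002020000000610000005c0000203a000060520000808c0000404d0000204d0000c04c0000200e0000203c0000c05200000048000080820000404a000060130000a05300004052000040140000800e00008015000000080000604a000020460000604c000020440000000400008044000020040000203e0000000a else nat_lit 0x100000802700008019000000460000804c0000a08c0000604d0000002a000020360000606c0000803300000037000060360000804a000020640000e0920000408b0000807d0000407c00004070000040a0000020760000401a000000600000603b0000403a00002037000020610000a05c0000a02d000000520000604b0000003c0000001b000000190000401900004018000080140000801a0000400f000060400000801c0000404c0000401e0000001f0000204c0000604400002070000040120000003a0000a00f0000000e000020120000c04b0000a044000060780000a0200000001c0000402600002038000060100000401f0000205e0000002f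
def spT_3_5 (j : ℕ) : ℕ := bif Nat.blt j 4 then nat_lit 0x1007d0000001600000000000020320000402e0000003400006039000020940000601c000060660000803d0000404b0000605c00004033000020510000004b0000001e0000a01e0000c05e0000c021000080180000c0840000804b00000002000100a00000c09c0000007c0000c053000060120000c0790000c078000000500000c04a0000403c00006070000100930000c05100000036000040a1000000a00000a039000000320000601d0000401b0001008c0000202b0000803c000020300000802b0000802a000020340000201300000030000040150000803600006020000000210000a01c00006079000060210000201c0000807f000080640000201b else nat_lit 0xc0500000804e000040300000603c0000205a0000a054000060360000a07f000000220000a032000020540000e067000040660000205c0000404e0000a0780000007f000000660000405c0000000c0000000c0000000000000006000000020000c04e000000060000606600010092000040250000602c0000002800008028000060840000006e0000006a00000072000080530000204e0001007d0000a05a0000604e0000002c0000e0850000801d0000605e0000600e0000a02e0000202d0000c05c0000004d0000c07c0000c0a0000040360000c0660000803b0000803a0000603a0000c02f000020720000c02c0000e09c0000208a0000e0880000006c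
def spT_2_5 (j : ℕ) : ℕ := bif Nat.blt j 3 then nat_lit 0x601f0000c01f00004094000060190000a04b0000201e00006096000060940000005a0000801e00000076000020680000005e0000c04f00000040000080790000a02f0000602a0000401d0000403000002048000040340000405e0000204a0000a0a00000e05c000000120000604200000013000060150000404400002039000040270000c02e0000c067000040660000602d000060670000004f0000407800006026000000830000002000000026000020330000a0520000801b000080840000a0820000402a0000802f0000602b0000402f0000202f0000c01c000060180000802d0000802c0000204b0000203d0000a00e000040320000602e00000018 else (spT_3_5 j)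
def spT_0_5 (j : ℕ) : ℕ := bif Nat.blt j 2 then (spT_0_2 j) else (spT_2_5 j)
def spT_6_8 (j : ℕ) : ℕ := bif Nat.blt j 7 then nat_lit 0xa04a0000409f0000809c0000007d0000003b00004064000080250000408c0000c08c0000a084000040820000c082000000950000404d0000402900000053000060530000206a0000604d000020a100004024000000140000609500004093000000780000804d000020a1000100a00000201a00008066000060a00000a07e0000c050000060390000007e0000c0a10000a038000040980000408a00000088000060600000205200002066000000160000004c000020460000e05c0000c01e0000608b000080890001008e000080880001008f00004095000000940000e0660000c058000020400000e07e0000a05800008038000060370000a033000040a0 else nat_lit 0x740000604a0000e08f0000607b0000a05e000040920000002d0000a08a0000003d0000e08e000100850000804c0000805c0000609c0000208c000080210000a09c00008086000020680000205c0000208d0000408d0000601e000040190000e0980000a0640000a037000000220000e08f0000808d000080830000804f00008032000020320000601b0000a0850000408300004021000000290000202900004037000020580000201f0000603d00000096000100960000809d0000a09700008024000020250000801f0000008d0000201900000099000000970000c085000060810001008b00004060000020280000e061000000300000001500004028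
def spT_5_8 (j : ℕ) : ℕ := bif Nat.blt j 6 then nat_lit 0x10088000020660000802600002024000100a10000a01f0000403b000020740000403d0000a04e00010094000000840000a0850000804e0000002c000000850000a0840000204c0000a04c000060340000001a000000250000607a0000405a0000a04c0000605400006028000000640000c0870000208300010082000040390000a0370000002b0000c02d0000608c000060a10000603800006024000000420000808b0000602f000060300000202d0000802e00000024000080390000601a000020180000402c0000202a000060890000605100008080000080320000c02c000000680000609d0000008b0000e0a10000a06700008038000080520000401c else (spT_6_8 j)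
def spT_9_11 (j : ℕ) : ℕ := bif Nat.blt j 10 then nat_lit 0x40400000c04d0000c09200002067000060850000c0950000e0870000a07c00008097000020970000804f0000e060000100790000e08d00004051000000480000a0920000608f0000e082000000840000204f000080950000a087000080290000006e0000e0790000808500010092000040640000a0510000201f0000004e000020740000603c0000003a0000206e00010089000040620000007b0000a09c0000403d00002029000080280000003c000060290000202e000000670000202c0000c0610000405e00002076000020280000404f0000604f00000076000020840000404200000028000020150000c04e0000802000010084000020370000602c else nat_lit 0xa08b0000805c000060830000203b0000201d0000a021000080780000001d0001008d000000790000407a00004096000000a1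
def spT_8_11 (j : ℕ) : ℕ := bif Nat.blt j 9 then nat_lit 0x7c0000802f0000a02c000060330000608d0000a0510000006a000020140000a020000040200000e0940000402b0001007f000000720000a014000080610000a0960000200f0000406c000060640000202700006025000080290000a0500000c07b000020890000c0800000c07f0000e09d0000a01d0000e05e0000807b000020a00000a08a000000510000402d00004050000020040000a03800000034000040330000009e0000408f000040340000c01d0000409b000040840000e08100008087000080540000004a0000a02c000000330000603200000070000100970000c09600004061000000270000a0800000402d000000290000e0a00000004c else (spT_9_11 j)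
def spT_5_11 (j : ℕ) : ℕ := bif Nat.blt j 8 then (spT_5_8 j) else (spT_8_11 j)
def spT_0_11 (j : ℕ) : ℕ := bif Nat.blt j 5 then (spT_0_5 j) else (spT_5_11 j)
def spT (j : ℕ) : ℕ := (spT_0_11 j)
def sp (j : ℕ) : ℕ := Nat.land (Nat.shiftRight (spT (Nat.shiftRight j 6)) (Nat.mul (Nat.land j 63) 32)) 4294967295
theorem Eo_lt (r : ℕ) : Eo r < 18014398509481984 := land54_lt _
def cT_0_2 (j : ℕ) : ℕ := bif Nat.blt j 1 then nat_lit 0x7f00007e00007d00007c00007b00007a00007900007800007700007600007500007400007300007200007100007000006f00006e00006d00006c00006b00006a00006900006800006700006600006500006400006300006200006100006000005f00005e00005d00005c00005b00005a00005900005800005700005600005500005400005300005200005100005000004f00004e00004d00004c00004b00004a00004900004800004700004600004500004400004300004200004100004000003f00003e00003d00003c00003b00003a00003900003800003700003600003500003400003300003200003100003000002f00002e00002d00002c00002b00002a00002900002800002700002600002500002400002300002200002100002000001f00001e00001d00001c00001b00001a00001900001800001700001600001500001400001300001200001100001000000f00000e00000d00000c00000b00000a000009000008000007000006000005000004000003000002000001000000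 else nat_lit 0xff0000fe0000fd0000fc0000fb0000fa0000f90000f80000f70000f60000f50000f40000f30000f20000f10000f00000ef0000ee0000ed0000ec0000eb0000ea0000e90000e80000e70000e60000e50000e40000e30000e20000e10000e00000df0000de0000dd0000dc0000db0000da0000d90000d80000d70000d60000d50000d40000d30000d20000d10000d00000cf0000ce0000cd0000cc0000cb0000ca0000c90000c80000c70000c60000c50000c40000c30000c20000c10000c00000bf0000be0000bd0000bc0000bb0000ba0000b90000b80000b70000b60000b50000b40000b30000b20000b10000b00000af0000ae0000ad0000ac0000ab0000aa0000a90000a80000a70000a60000a50000a40000a30000a20000a10000a000009f00009e00009d00009c00009b00009a00009900009800009700009600009500009400009300009200009100009000008f00008e00008d00008c00008b00008a000089000088000087000086000085000084000083000082000081000080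
def cT_2_4 (j : ℕ) : ℕ := bif Nat.blt j 3 then nat_lit 0x17f00017e00017d00017c00017b00017a00017900017800017700017600017500017400017300017200017100017000016f00016e00016d00016c00016b00016a00016900016800016700016600016500016400016300016200016100016000015f00015e00015d00015c00015b00015a00015900015800015700015600015500015400015300015200015100015000014f00014e00014d00014c00014b00014a00014900014800014700014600014500014400014300014200014100014000013f00013e00013d00013c00013b00013a00013900013800013700013600013500013400013300013200013100013000012f00012e00012d00012c00012b00012a00012900012800012700012600012500012400012300012200012100012000011f00011e00011d00011c00011b00011a00011900011800011700011600011500011400011300011200011100011000010f00010e00010d00010c00010b00010a000109000108000107000106000105000104000103000102000101000100 else nat_lit 0x2000001ff0001fe0001fd0001fc0001fb0001fa0001f90001f80001f70001f60001f50001f40001f30001f20001f10001f00001ef000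1ee0001ed0001ec0001eb0001ea0001e90001e80001e70001e60001e50001e40001e30001e20001e10001e00001df0001de0001dd0001dc0001db0001da0001d90001d80001d70001d60001d50001d40001d30001d20001d10001d00001cf0001ce0001cd0001cc0001cb0001ca0001c90001c80001c70001c60001c50001c40001c30001c20001c10001c00001bf0001bd0001bc0001bb0001ba0001b90001b80001b70001b60001b50001b40001b30001b20001b10001b00001af0001ae0001ad0001ac0001ab0001aa0001a90001a80001a70001a60001a50001a40001a30001a20001a10001a000019f00019e00019d00019c00019b00019a00019900019800019700019600019500019400019300019200019100019000018f00018e00018d00018c00018b00018a000189000188000187000186000185000184000183000182000181000180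
def cT_0_4 (j : ℕ) : ℕ := bif Nat.blt j 2 then (cT_0_2 j) else (cT_2_4 j)
def cT_4_6 (j : ℕ) : ℕ := bif Nat.blt j 5 then nat_lit 0x28100028000027f00027e00027d00027c00027b00027a00027900027800027700027600027500027400027300027200027100027000026f00026e00026d00026c00026b00026a00026900026800026700026600026500026400026300026200026100026000025f00025e00025d00025c00025b00025a00025900025800025700025600025500025400025300025200025100025000024f00024e00024d00024c00024b00024a00024900024800024700024600024500024400024300024200024100024000023f00023e00023d00023c00023b00023a00023900023800023700023600023500023400023300023200023000022f00022e00022d00022c00022b00022a00022900022800022700022600022500022400022300022200022100022000021f00021e00021d00021c00021b00021a00021900021800021700021600021500021400021300021200021100021000020f00020e00020d00020c00020b00020a000209000208000207000206000205000204000203000202000201 else nat_lit 0x3020003010003000002ff0002fe0002fd0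002fc0002fb0002fa0002f90002f70002f60002f50002f40002f30002f20002f10002f00002ef0002ee0002ed0002ec0002eb0002ea0002e90002e80002e70002e60002e50002e40002e30002e20002e10002e00002df0002de0002dd0002dc0002db0002da0002d90002d80002d70002d60002d50002d40002d30002d20002d10002d00002cf0002ce0002cd0002cc0002cb0002ca0002c90002c80002c70002c60002c50002c40002c30002c20002c10002c00002bf0002be0002bd0002bc0002bb0002ba0002b90002b80002b70002b60002b50002b40002b30002b20002b10002b00002af0002ae0002ad0002ac0002ab0002aa0002a90002a80002a70002a60002a50002a40002a30002a20002a10002a000029f00029e00029d00029c00029b00029a00029900029800029700029600029500029400029300029200029100029000028f00028e00028d00028c00028b00028a000289000288000287000286000285000284000283000282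
def cT_7_9 (j : ℕ) : ℕ := bif Nat.blt j 8 then nat_lit 0x40e00040d00040c00040b00040a0004090004080004070004060004050004040004030004020004010004000003ff0003fe0003fd0003fc0003fb0003fa0003f90003f80003f70003f60003f50003f40003f20003f10003f00003ef0003ee0003ed0003ec0003eb0003ea0003e90003e80003e70003e60003e50003e40003e30003e20003e10003e00003df0003de0003dd0003dc0003db0003da0003d90003d80003d70003d60003d50003d40003d30003d20003d10003d00003cf0003ce0003cd0003cc0003cb0003ca0003c90003c80003c70003c60003c50003c40003c30003c10003c00003bf0003be0003bd0003bc0003bb0003ba0003b90003b80003b70003b60003b50003b40003b30003b20003b10003b00003af0003ae0003ad0003ac0003ab0003aa0003a90003a80003a70003a60003a50003a40003a30003a20003a10003a000039f00039e00039d00039c00039b00039a00039900039800039600039500039400039200039100038f00038e00038d00038c000389000388 else nat_lit 0x48f00048e00048d00048c00048b00048a00048900048800048700048600048500048400048300048200048100048000047f00047e000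47d00047c00047b00047a00047900047800047700047600047500047400047300047200047100047000046f00046e00046d00046c00046b00046a00046900046800046700046600046500046400046300046200046100046000045f00045e00045d00045c00045b00045a00045900045800045700045600045500045400045300045200045100045000044f00044e00044d00044c00044b00044a00044900044800044700044500044400044300044200044100044000043f00043e00043d00043c00043b00043a00043900043800043700043600043500043400043300043200043100043000042f00042e00042d00042c00042b00042a00042900042800042700042600042500042400042300042200042100042000041f00041e00041d00041c00041b00041a00041900041800041700041600041500041400041300041200041100041000040f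
def cT_6_9 (j : ℕ) : ℕ := bif Nat.blt j 7 then nat_lit 0x38600038500038400038300038200038100038000037f00037e00037d00037c00037b00037a00037900037800037700037600037500037400037300037100037000036f00036e00036d00036c00036b00036a00036900036800036700036600036500036300036200036100036000035f00035e00035d00035c00035b00035a00035900035800035700035600035500035400035300035100035000034f00034e00034d00034c00034b00034a00034900034800034700034600034500034400034300034200034100034000033f00033e00033d00033c00033b00033a00033900033800033700033600033500033400033300033200033100033000032f00032e00032d00032c00032b00032a00032900032800032700032600032500032400032300032200032100032000031f00031e00031d00031c00031b00031a00031900031800031700031600031500031400031200031100031000030f00030e00030d00030c00030b00030a000309000308000307000306000305000304000303 else (cT_7_9 j)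
def cT_4_9 (j : ℕ) : ℕ := bif Nat.blt j 6 then (cT_4_6 j) else (cT_6_9 j)
def cT_0_9 (j : ℕ) : ℕ := bif Nat.blt j 4 then (cT_0_4 j) else (cT_4_9 j)
def cT_9_11 (j : ℕ) : ℕ := bif Nat.blt j 10 then nat_lit 0x51900051800051700051600051500051400051300051200051100051000050f00050e00050d00050c00050b00050a0005090005080005070005060005050005030005020005010004fd0004fc0004fb0004fa0004f80004f70004f50004f40004f30004f20004f10004f00004ef0004ee0004ec0004ea0004e90004e80004e70004e60004e50004e40004e30004e20004e10004e00004df0004de0004dd0004dc0004db0004da0004d90004d80004d70004d60004d50004d40004d30004d20004d00004cf0004ce0004cd0004cc0004cb0004ca0004c90004c80004c70004c60004c50004c40004c30004c20004c10004c00004bf0004be0004bd0004bc0004bb0004ba0004b90004b80004b70004b60004b50004b40004b20004b10004b00004af0004ae0004ad0004ac0004ab0004aa0004a90004a80004a70004a60004a50004a40004a30004a20004a10004a000049f00049e00049d00049c00049b00049a000499000498000497000496000495000494000493000492000491000490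 else nat_lit 0x59d00059c00059b00059a00059900059800059700059600059500059400059300059200059100059000058f00058e00058d00058c00058b00058a00058900058800058700058600058500058400058300058200058000057f00057e00057d00057c00057b00057a00057900057800057700057600057500057400057300057200057100057000056f00056e00056d00056c00056b00056a00056900056800056700056600056500056400056300056200056100056000055f00055e00055d00055c00055b00055a00055900055800055700055600055500055400055300055200055100055000054f00054e00054d00054c00054b00054a00054900054800054700054600054500054400054300054200054100054000053f00053e00053d00053c00053b00053a00053900053800053600053400053200053100053000052f00052e00052d00052c00052b00052a00052900052800052700052600052500052400052300052200052100052000051f00051e00051d00051c00051b00051a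
def cT_12_14 (j : ℕ) : ℕ := bif Nat.blt j 13 then nat_lit 0x6ad0006ac0006ab0006aa0006a90006a80006a70006a60006a50006a40006a30006a20006a10006a000069f00069e00069d00069c00069b00069a00069900069800069700069600069500069400069300069200069100069000068f00068e00068d00068c00068b00068a00068900068800068700068600068500068400068300068200068100068000067f00067e00067d00067c00067b00067a00067900067800067700067600067500067400067300067200067100067000066f00066e00066d00066a00066900066800066700066600066500066400066300066200066100066000065f00065e00065d00065c00065b00065a00065900065800065700065600065500065400065300065200065100065000064f00064e00064d00064c00064b00064a00064900064800064700064600064500064400064300064200064100064000063f00063e00063d00063c00063b00063a00063900063800063700063600063500063400063300063200063100063000062f00062e00062d00062c else nat_lit 0x72d00072c00072b00072a00072900072800072700072600072500072400072300072200072100072000071f00071e00071d00071c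00071b00071a00071900071800071700071600071500071400071300071200071100071000070f00070e00070d00070c00070b00070a0007090007080007070007060007050007040007030007020007010007000006ff0006fe0006fd0006fc0006fb0006fa0006f90006f80006f70006f60006f50006f40006f30006f20006f10006f00006ef0006ee0006ed0006ec0006eb0006ea0006e90006e80006e70006e60006e50006e40006e30006e20006e10006e00006df0006de0006dd0006dc0006db0006da0006d90006d80006d70006d60006d50006d40006d30006d20006d10006d00006cf0006ce0006cd0006cc0006cb0006ca0006c90006c80006c70006c60006c50006c40006c30006c20006c10006c00006bf0006be0006bd0006bc0006bb0006ba0006b90006b80006b70006b60006b50006b40006b30006b20006b10006b00006af0006ae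
def cT_11_14 (j : ℕ) : ℕ := bif Nat.blt j 12 then nat_lit 0x62900062800062300062200062100062000061e00061b00061a00061900061800061700061500061300061200061100061000060f00060e00060d00060c00060b00060a0006090006080006070006060006050006040006030006020006010006000005ff0005fe0005fd0005fc0005fb0005f70005f60005f50005f40005f30005f20005f10005f00005ef0005ee0005ed0005ec0005eb0005ea0005e90005e80005e70005e60005e50005e40005e30005e20005e10005e00005df0005de0005dd0005dc0005db0005da0005d90005d80005d70005d60005d50005d40005d30005d20005d10005d00005cf0005ce0005cd0005cc0005cb0005ca0005c90005c80005c70005c60005c50005c40005c30005c20005c10005c00005bf0005be0005bd0005bc0005bb0005ba0005b90005b80005b70005b60005b50005b40005b30005b20005b10005b00005af0005ae0005ad0005ac0005ab0005aa0005a90005a80005a70005a60005a50005a40005a30005a20005a10005a000059f00059e else (cT_12_14 j)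
def cT_9_14 (j : ℕ) : ℕ := bif Nat.blt j 11 then (cT_9_11 j) else (cT_11_14 j)
def cT_14_16 (j : ℕ) : ℕ := bif Nat.blt j 15 then nat_lit 0x7b30007b20007b10007b00007af0007ae0007ad0007ac0007ab0007aa0007a80007a70007a60007a50007a40007a30007a20007a10007a000079f00079e00079d00079c00079b00079a00079900079700079600079500079400079300079200079100079000078f00078e00078d00078b00078a00078900078800078700078600078500078400078300078200078100078000077f00077e00077d00077b00077a00077900077800077700077600077500077400077300077200077100077000076f00076e00076d00076c00076b00076a00076900076800076700076600076500076400076300076200076100076000075f00075e00075d00075c00075b00075a00075900075800075700075600075500075400075300075200075100075000074f00074e00074d00074c00074b00074a00074900074700074600074500074300074200074100074000073f00073e00073d00073c00073b00073a00073900073800073700073600073500073400073300073200073100073000072f00072e else nat_lit 0x83400083300083200083100083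000082f00082e00082d00082c00082b00082a00082900082800082700082600082500082400082300082200082100082000081f00081e00081d00081c00081b00081a00081900081800081700081600081500081400081300081200081100081000080f00080e00080d00080c00080b00080a0008090008080008070008060008050008040008030008020008010008000007ff0007fe0007fd0007fc0007fb0007fa0007f90007f80007f60007f50007f40007f30007f20007f10007f00007ef0007ee0007ed0007ec0007eb0007ea0007e90007e80007e70007e60007e50007e40007e30007e20007e10007e00007df0007de0007dd0007dc0007db0007da0007d90007d80007d70007d60007d50007d40007d30007d20007d10007d00007cf0007ce0007cd0007cc0007cb0007ca0007c90007c80007c70007c60007c50007c40007c30007c20007c10007c00007bf0007be0007bd0007bc0007bb0007ba0007b90007b80007b70007b60007b50007b4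
def cT_17_19 (j : ℕ) : ℕ := bif Nat.blt j 18 then nat_lit 0x94200094100094000093f00093e00093d00093c00093b00093a00093900093800093700093600093500093400093300093200093100093000092f00092e00092d00092c00092b00092a00092900092800092700092600092500092400092300092200092100092000091f00091e00091d00091c00091b00091a00091900091800091700091600091500091400091300091200091100091000090f00090e00090d00090c00090b00090a0009090009080009070009060009050009040009030009020009010009000008ff0008fe0008fd0008fc0008fb0008fa0008f90008f80008f70008f50008f40008f30008f20008f10008ed0008ec0008e90008e70008e60008e40008e30008e00008df0008de0008dd0008dc0008db0008da0008d90008d80008d70008d60008d50008d40008d30008d20008d10008d00008cf0008ce0008cd0008cc0008cb0008ca0008c90008c80008c70008c60008c50008c40008c30008c20008c10008c00008bf0008be0008bd0008bc0008bb0008ba0008b9 else nat_lit 0x9d30009d20009d10009d00009cf0009ce0009c90009c80009c50009c40009c20009c10009bf0009be0009bb0009ba0009b90009b8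0009b70009b60009b50009b40009b30009b20009b10009b00009af0009ae0009ad0009ac0009ab0009aa0009a90009a80009a70009a60009a50009a40009a30009a20009a100099f00099e00099d00099c00099b00099a00099900099800099700099600099300099200099100099000098f00098e00098d00098c00098b00098a00098900098800098700098600098500098400098300098200098100098000097f00097e00097d00097c00097b00097a00097900097800097700097600097500097400097300097200097100097000096f00096e00096d00096c00096900096800096700096600096500096400096300096200096100096000095f00095e00095d00095c00095b00095a00095900095800095700095600095500095400095300095200095100095000094f00094c00094b00094a000949000948000947000946000945000944000943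
def cT_16_19 (j : ℕ) : ℕ := bif Nat.blt j 17 then nat_lit 0x8b80008b70008b60008b50008b40008b30008b20008b10008b00008af0008ae0008ad0008ac0008ab0008aa0008a90008a80008a70008a60008a40008a30008a20008a10008a000089f00089e00089d00089c00089b00089a00089800089700089600089500089400089200089100089000088f00088e00088d00088c00088b00088a00088900088800088700088600088500088400088300088200088100088000087f00087e00087d00087c00087b00087a00087900087800087700087600087500087400087300087200087100087000086f00086e00086d00086c00086b00086a00086900086800086700086600086500086400086300086200086100086000085f00085e00085d00085c00085a00085900085800085700085600085500085400085300085200085100085000084f00084e00084d00084c00084b00084a00084900084800084700084600084500084400084300084200084100084000083f00083e00083d00083c00083b00083a000839000838000837000836000835 else (cT_17_19 j)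
def cT_14_19 (j : ℕ) : ℕ := bif Nat.blt j 16 then (cT_14_16 j) else (cT_16_19 j)
def cT_9_19 (j : ℕ) : ℕ := bif Nat.blt j 14 then (cT_9_14 j) else (cT_14_19 j)
def cT_0_19 (j : ℕ) : ℕ := bif Nat.blt j 9 then (cT_0_9 j) else (cT_9_19 j)
def cT_19_21 (j : ℕ) : ℕ := bif Nat.blt j 20 then nat_lit 0xa5b000a5a000a59000a58000a57000a56000a55000a54000a53000a52000a51000a50000a4f000a4e000a4b000a4a000a49000a48000a46000a45000a44000a42000a40000a3f000a3e000a3d000a3c000a3b000a3a000a39000a38000a37000a36000a35000a34000a33000a32000a31000a30000a2f000a2e000a2d000a2c000a2b000a2a000a29000a28000a27000a26000a25000a24000a23000a22000a21000a20000a1f000a1e000a1d000a1c000a1b000a1a000a19000a18000a17000a16000a13000a12000a11000a10000a0f000a0e000a0d000a0c000a0b000a0a000a09000a08000a07000a06000a05000a04000a03000a02000a01000a000009ff0009fe0009fd0009fc0009fb0009fa0009f90009f80009f70009f60009f50009f40009f30009f20009f00009ef0009ee0009ed0009ec0009eb0009ea0009e90009e80009e70009e60009e50009e40009e30009e20009e10009e00009df0009de0009dd0009dc0009db0009da0009d90009d80009d70009d60009d50009d4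 else nat_lit 0xadb000ada000ad9000ad8000ad7000ad6000ad5000ad4000ad3000ad2000ad1000ad0000acf000ace000acd000acc000acb000aca000ac9000ac8000ac7000ac6000ac5000ac4000ac3000ac2000ac1000ac0000abf000abe000abd000abc000abb000aba000ab9000ab8000ab7000ab6000ab5000ab4000ab3000ab2000ab1000ab0000aaf000aae000aad000aac000aab000aaa000aa9000aa8000aa7000aa6000aa5000aa4000aa3000aa2000aa1000aa0000a9f000a9e000a9d000a9c000a9b000a9a000a99000a98000a97000a96000a95000a94000a93000a92000a91000a90000a8f000a8e000a8d000a8c000a8b000a8a000a89000a88000a87000a86000a85000a84000a83000a82000a81000a80000a7f000a7e000a7d000a7c000a7b000a7a000a79000a78000a77000a76000a75000a74000a73000a72000a71000a70000a6f000a6e000a6d000a6c000a6b000a6a000a69000a68000a67000a66000a65000a64000a63000a62000a61000a60000a5f000a5e000a5d000a5c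
def cT_22_24 (j : ℕ) : ℕ := bif Nat.blt j 23 then nat_lit 0xbe2000be1000be0000bdf000bde000bdd000bdc000bdb000bda000bd9000bd8000bd7000bd6000bd5000bd4000bd3000bd2000bd1000bd0000bcf000bce000bcd000bcb000bca000bc8000bc7000bc5000bc4000bc3000bc2000bc1000bc0000bbf000bbe000bbd000bbc000bbb000bb9000bb8000bb7000bb6000bb5000bb4000bb3000bb2000bb1000bb0000baf000bae000bad000bac000bab000baa000ba9000ba8000ba7000ba6000ba5000ba4000ba3000ba2000ba1000ba0000b9f000b9e000b9d000b9c000b9b000b9a000b99000b98000b97000b96000b95000b94000b93000b92000b91000b90000b8f000b8e000b8d000b8c000b8b000b8a000b89000b88000b87000b86000b85000b84000b83000b82000b81000b80000b7f000b7e000b7d000b7c000b7b000b7a000b79000b78000b77000b76000b75000b74000b73000b72000b71000b70000b6f000b6e000b6d000b6c000b6b000b6a000b69000b68000b67000b66000b65000b64000b63000b62000b61000b5f000b5e else nat_lit 0xc66000c65000c64000c63000c62000c61000c60000c5f000c5e000c5d000c5c000c5b000c5a000c59000c58000c57000c56000c55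000c54000c53000c52000c51000c50000c4f000c4e000c4d000c4c000c4b000c4a000c49000c48000c47000c46000c45000c44000c43000c42000c41000c40000c3f000c3e000c3d000c3c000c3b000c3a000c39000c38000c37000c36000c35000c34000c33000c32000c31000c30000c2f000c2e000c2d000c2c000c2b000c2a000c29000c28000c27000c26000c25000c24000c23000c22000c21000c20000c1f000c1e000c1d000c1c000c1b000c1a000c19000c18000c17000c16000c15000c14000c13000c12000c11000c10000c0f000c0e000c0d000c0c000c0b000c0a000c09000c08000c07000c06000c05000c04000c03000c02000c01000c00000bff000bfe000bfd000bfc000bfb000bfa000bf9000bf8000bf5000bf4000bf3000bf2000bf1000bf0000bef000bed000bec000beb000be9000be8000be7000be6000be5000be4000be3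
def cT_21_24 (j : ℕ) : ℕ := bif Nat.blt j 22 then nat_lit 0xb5d000b5c000b5b000b5a000b59000b58000b57000b56000b55000b54000b53000b52000b51000b50000b4f000b4e000b4d000b4c000b4b000b4a000b49000b48000b47000b46000b45000b44000b43000b42000b41000b40000b3f000b3e000b3d000b3c000b3b000b3a000b39000b38000b37000b36000b35000b34000b33000b32000b31000b30000b2f000b2e000b2d000b2c000b2b000b2a000b29000b28000b27000b26000b25000b24000b22000b21000b20000b1e000b1d000b1c000b1b000b1a000b19000b18000b17000b16000b15000b14000b13000b12000b11000b10000b0f000b0e000b0d000b0c000b0b000b0a000b09000b08000b07000b06000b05000b04000b03000b02000b01000b00000aff000afe000afd000afc000afb000afa000af9000af8000af7000af6000af5000af4000af3000af2000af1000af0000aef000aee000aed000aec000aeb000aea000ae9000ae8000ae7000ae6000ae5000ae4000ae3000ae2000ae1000ae0000adf000ade000add000adc else (cT_22_24 j)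
def cT_19_24 (j : ℕ) : ℕ := bif Nat.blt j 21 then (cT_19_21 j) else (cT_21_24 j)
def cT_24_26 (j : ℕ) : ℕ := bif Nat.blt j 25 then nat_lit 0xceb000cea000ce9000ce8000ce7000ce6000ce5000ce4000ce3000ce2000ce1000ce0000cdf000cde000cdd000cdc000cdb000cda000cd9000cd8000cd7000cd6000cd5000cd4000cd3000cd2000cd1000cd0000ccf000cce000ccd000ccc000ccb000cca000cc9000cc8000cc7000cc6000cc5000cc4000cc3000cc2000cc1000cc0000cbf000cbe000cbd000cbc000cbb000cba000cb9000cb8000cb6000cb5000cb4000cb3000cb2000cb1000cb0000caf000cae000cad000cac000cab000caa000ca9000ca8000ca7000ca6000ca5000ca4000ca3000ca2000ca1000ca0000c9f000c9e000c9d000c9a000c99000c98000c97000c96000c95000c94000c93000c92000c91000c90000c8f000c8e000c8d000c8c000c8b000c8a000c89000c88000c87000c86000c85000c84000c81000c80000c7f000c7e000c7d000c7c000c7b000c7a000c79000c78000c77000c76000c75000c74000c73000c72000c71000c70000c6f000c6e000c6d000c6c000c6b000c6a000c69000c68000c67 else nat_lit 0xd6b000d6a000d69000d68000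d67000d66000d65000d64000d63000d62000d61000d60000d5f000d5e000d5d000d5c000d5b000d5a000d59000d58000d57000d56000d55000d54000d53000d52000d51000d50000d4f000d4e000d4d000d4c000d4b000d4a000d49000d48000d47000d46000d45000d44000d43000d42000d41000d40000d3f000d3e000d3d000d3c000d3b000d3a000d39000d38000d37000d36000d35000d34000d33000d32000d31000d30000d2f000d2e000d2d000d2c000d2b000d2a000d29000d28000d27000d26000d25000d24000d23000d22000d21000d20000d1f000d1e000d1d000d1c000d1b000d1a000d19000d18000d17000d16000d15000d14000d13000d12000d11000d10000d0f000d0e000d0d000d0c000d0b000d0a000d09000d08000d07000d06000d05000d04000d03000d02000d01000d00000cff000cfe000cfd000cfc000cfb000cfa000cf9000cf8000cf7000cf6000cf5000cf4000cf3000cf2000cf1000cf0000cef000cee000ced000cec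
def cT_27_29 (j : ℕ) : ℕ := bif Nat.blt j 28 then nat_lit 0xe70000e6f000e6e000e6d000e6c000e6b000e6a000e69000e68000e67000e66000e65000e64000e63000e62000e61000e60000e5f000e5e000e5d000e5c000e5b000e5a000e59000e58000e57000e56000e55000e54000e53000e52000e51000e50000e4f000e4e000e4d000e4c000e4b000e4a000e49000e48000e47000e46000e45000e44000e43000e42000e41000e40000e3f000e3e000e3d000e3c000e3b000e3a000e39000e38000e37000e36000e35000e34000e33000e32000e31000e30000e2f000e2e000e2d000e2c000e2b000e2a000e29000e28000e27000e26000e25000e24000e23000e22000e21000e20000e1f000e1e000e1d000e1c000e1b000e1a000e19000e18000e17000e16000e15000e14000e13000e12000e11000e10000e0f000e0e000e0d000e0c000e0b000e0a000e09000e08000e07000e06000e05000e04000e03000e02000e01000e00000dff000dfe000dfd000dfc000dfb000dfa000df9000df8000df7000df6000df5000df4000df3000df2000df1 else nat_lit 0xef7000ef6000ef5000ef4000ef3000ef2000ef1000ef0000eef000eee000eed000eec000eeb000eea000ee9000ee6000ee5000ee4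000ee3000ee2000ee0000edf000ede000edd000edc000edb000eda000ed9000ed8000ed7000ed6000ed3000ed2000ecf000ece000ecd000ecc000ecb000eca000ec9000ec8000ec7000ec6000ec5000ec4000ec3000ec2000ec1000ec0000ebf000ebe000ebd000ebc000ebb000eba000eb9000eb8000eb7000eb6000eb5000eb4000eb3000eb2000eb1000eb0000eaf000eae000ead000eac000eab000eaa000ea9000ea8000ea7000ea6000ea5000ea4000ea3000ea2000ea1000ea0000e9f000e9e000e9d000e9c000e9b000e9a000e99000e98000e97000e96000e95000e94000e93000e92000e91000e90000e8f000e8e000e8d000e8c000e8b000e8a000e89000e88000e87000e86000e85000e84000e83000e82000e81000e80000e7f000e7e000e7d000e7c000e7b000e7a000e79000e78000e77000e76000e75000e74000e73000e72000e71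
def cT_26_29 (j : ℕ) : ℕ := bif Nat.blt j 27 then nat_lit 0xdf0000def000dee000ded000dec000deb000dea000de9000de8000de7000de6000de5000de4000de3000de2000de1000de0000ddf000dde000ddd000ddc000ddb000dda000dd9000dd8000dd7000dd6000dd5000dd4000dd3000dd2000dd1000dd0000dcf000dce000dcd000dcc000dcb000dca000dc9000dc8000dc7000dc6000dc5000dc4000dc3000dc2000dc1000dc0000dbf000dbe000dbd000dbc000dbb000dba000db9000db8000db7000db6000db5000db4000db3000db2000db1000db0000daf000dae000dad000dac000dab000daa000da8000da7000da6000da4000da3000da2000da1000da0000d9f000d9e000d9d000d9c000d9b000d9a000d99000d98000d97000d96000d95000d94000d93000d92000d91000d90000d8f000d8e000d8d000d8c000d8b000d88000d87000d85000d84000d83000d82000d81000d80000d7f000d7e000d7d000d7c000d7b000d7a000d79000d78000d77000d76000d75000d74000d73000d72000d71000d70000d6f000d6e000d6d000d6c else (cT_27_29 j)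
def cT_24_29 (j : ℕ) : ℕ := bif Nat.blt j 26 then (cT_24_26 j) else (cT_26_29 j)
def cT_19_29 (j : ℕ) : ℕ := bif Nat.blt j 24 then (cT_19_24 j) else (cT_24_29 j)
def cT_29_31 (j : ℕ) : ℕ := bif Nat.blt j 30 then nat_lit 0xf7c000f7b000f7a000f79000f78000f77000f76000f75000f74000f73000f72000f71000f70000f6f000f6e000f6d000f6c000f6b000f6a000f69000f68000f67000f66000f65000f64000f63000f62000f61000f60000f5f000f5e000f5d000f5c000f5b000f5a000f59000f58000f57000f56000f55000f54000f53000f52000f51000f50000f4d000f4c000f4b000f4a000f49000f48000f47000f46000f45000f44000f43000f42000f41000f40000f3f000f3e000f3d000f3c000f3b000f3a000f39000f38000f37000f36000f35000f34000f33000f32000f31000f2f000f2e000f2d000f2c000f2b000f2a000f29000f28000f27000f26000f25000f24000f23000f22000f21000f20000f1f000f1e000f1d000f1c000f1b000f1a000f19000f18000f17000f16000f13000f12000f11000f10000f0f000f0e000f0d000f0c000f0b000f0a000f09000f08000f07000f06000f05000f04000f03000f02000f01000f00000eff000efe000efd000efc000efb000efa000ef9000ef8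 else nat_lit 0x1009001008001007001006001005001004001003001002001001001000000fff000ffe000ffd000ffc000ffb000ffa000ff9000ff8000ff7000ff6000ff3000ff1000ff0000fef000fee000fed000fec000feb000fea000fe9000fe8000fe5000fe4000fe3000fe2000fe1000fe0000fdf000fde000fdd000fdc000fdb000fda000fd9000fd8000fd7000fd6000fd5000fd4000fd3000fd1000fd0000fcf000fcd000fcc000fcb000fca000fc9000fc8000fc7000fc6000fc5000fc4000fc3000fc2000fc1000fc0000fbe000fbd000fbc000fba000fb9000fb8000fb7000fb6000fb5000fb4000fb3000fae000fad000fac000fab000faa000fa9000fa8000fa7000fa6000fa5000fa4000fa3000fa2000fa1000fa0000f9f000f9e000f9d000f9c000f9b000f9a000f99000f98000f97000f96000f95000f94000f93000f92000f91000f90000f8f000f8e000f8d000f8c000f8b000f8a000f89000f88000f87000f86000f85000f84000f83000f82000f81000f80000f7f000f7e000f7d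
def cT_32_34 (j : ℕ) : ℕ := bif Nat.blt j 33 then nat_lit 0x112000111f00111e00111d00111c00111b00111a00111900111800111700111600111500111400111300111200111100111000110f00110e00110d00110c00110b00110a0011090011080011070011060011050011040011030011010011000010ff0010fe0010fd0010fc0010fb0010fa0010f90010f80010f70010f60010f50010f40010f30010f20010f10010f00010ef0010ee0010ed0010ec0010eb0010ea0010e90010e80010e60010e50010e40010e20010e10010e00010df0010de0010dd0010dc0010db0010da0010d90010d80010d60010d50010d40010d20010d10010d00010cf0010ce0010cd0010cc0010cb0010ca0010c90010c80010c70010c60010c50010c40010c30010c20010c10010c00010bf0010be0010bd0010bc0010bb0010ba0010b90010b80010b70010b60010b50010b40010b30010b20010b10010b00010af0010ae0010ad0010ac0010ab0010aa0010a90010a80010a70010a60010a50010a40010a30010a20010a10010a000109f00109e00109d00109c else nat_lit 0x11a70011a60011a50011a40011a20011a10011a000119f00119e00119d00119c00119b00119a0011990011980011960011950011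9400119300119200119100119000118f00118e00118d00118c00118b00118a00118900118800118700118600118500118400118300118200118100118000117f00117e00117d00117c00117a00117900117800117700117600117500117400117300117200117000116f00116e00116d00116c00116b00116a00116900116700116600116500116400116300116200116100116000115f00115e00115d00115c00115b00115a00115900115800115700115600115500115400115300115200115000114f00114e00114d00114c00114b00114a00114900114800114700114600114500114300114200114100114000113f00113e00113d00113c00113b00113a00113900113800113700113600113500113400113300113200113100113000112f00112e00112d00112c00112b00112a001129001128001127001126001125001124001123001122001121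
def cT_31_34 (j : ℕ) : ℕ := bif Nat.blt j 32 then nat_lit 0x109b00109a00109900109800109700109600109500109400109200109100109000108f00108e00108d00108c00108b00108a00108900108800108700108600108500108400108300108200108100108000107f00107e00107d00107c00107b00107a00107900107800107700107600107500107400107300107200107100107000106f00106e00106d00106c00106b00106a00106900106800106700106600106500106400106300106200106100106000105f00105e00105d00105c00105b00105a00105900105800105700105600105500105400105300105200105000104f00104c00104b00104900104800104700104600104000103f00103e00103d00103c00103b00103a00103800103700103600103500103200103000102f00102e00102b00102a00102900102800102700102400102300102200102100102000101f00101e00101d00101c00101b00101a00101900101800101700101600101500101400101300101200101100101000100f00100e00100d00100c00100b00100a else (cT_32_34 j)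
def cT_29_34 (j : ℕ) : ℕ := bif Nat.blt j 31 then (cT_29_31 j) else (cT_31_34 j)
def cT_34_36 (j : ℕ) : ℕ := bif Nat.blt j 35 then nat_lit 0x122700122600122500122400122300122200122100122000121f00121e00121d00121c00121b00121a00121900121800121700121600121500121400121300121200121100121000120f00120e00120d00120c00120b00120a0012090012080012070012060012050012040012030012020012010012000011ff0011fe0011fd0011fc0011fb0011fa0011f90011f80011f70011f60011f50011f40011f30011f20011f10011f00011ef0011ee0011ed0011ec0011eb0011ea0011e90011e80011e70011e60011e50011e40011e30011e20011e10011e00011df0011de0011dd0011dc0011db0011da0011d90011d80011d70011d60011d50011d40011d30011d20011d10011d00011cf0011ce0011cd0011cc0011cb0011ca0011c90011c80011c70011c60011c50011c40011c30011c20011c10011c00011bf0011be0011bd0011bc0011bb0011ba0011b90011b80011b70011b60011b50011b40011b30011b20011b10011b00011af0011ae0011ad0011ac0011ab0011aa0011a90011a8 else nat_lit 0x12a90012a80012a70012a60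012a50012a40012a30012a20012a10012a000129f00129e00129d00129c00129b00129a00129900129800129700129600129500129400129300129100129000128f00128e00128d00128c00128b00128a00128900128800128700128600128500128400128300128200128100128000127f00127e00127d00127c00127b00127a00127800127700127600127500127400127300127200127100127000126f00126e00126d00126c00126b00126a00126900126800126700126600126500126400126300126200126100126000125f00125e00125d00125c00125b00125a00125900125800125700125600125500125400125300125200125100125000124f00124e00124d00124c00124b00124a00124900124800124700124600124500124400124300124200124100124000123f00123e00123d00123c00123b00123a00123900123800123700123600123500123400123300123200123100123000122f00122e00122d00122c00122b00122a001229001228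
def cT_37_39 (j : ℕ) : ℕ := bif Nat.blt j 38 then nat_lit 0x13b30013b20013b10013b00013af0013ae0013ad0013ac0013ab0013aa0013a90013a80013a70013a60013a50013a40013a30013a20013a10013a000139f00139e00139d00139c00139b00139a00139900139800139700139600139500139400139300139200139100139000138f00138e00138d00138c00138b00138a00138900138800138700138600138500138400138300138200138100138000137f00137e00137d00137c00137b00137a00137900137800137700137600137500137400137300137200137100137000136f00136e00136d00136c00136b00136a00136900136800136700136600136500136400136300136200136100136000135f00135e00135d00135c00135b00135a00135900135800135700135600135500135400135300135200135100135000134f00134e00134d00134c00134b00134a00134900134800134700134600134500134400134300134200134100134000133f00133c00133b00133a001339001338001337001336001335001334001333001332 else nat_lit 0x143700143600143500143400143300143200143100143000142f00142e00142d00142c00142b00142a0014290014280014270014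2600142500142400142300142200142100142000141f00141e00141d00141c00141b00141a00141900141800141700141600141500141400141300141200141100141000140f00140e00140d00140c00140b00140a0014090014080014070014060014050014040014030014020014010014000013ff0013fe0013fd0013fc0013fb0013fa0013f90013f80013f70013f60013f50013f20013f10013f00013ef0013ee0013ed0013ec0013eb0013ea0013e90013e80013e70013e60013e50013e20013e10013e00013df0013de0013dd0013dc0013db0013da0013d90013d80013d70013d60013d50013d40013d30013d20013d10013d00013cf0013ce0013cd0013cc0013cb0013ca0013c90013c80013c70013c60013c50013c40013c30013c20013c10013c00013bf0013be0013bd0013bc0013bb0013ba0013b90013b80013b70013b60013b50013b4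
def cT_36_39 (j : ℕ) : ℕ := bif Nat.blt j 37 then nat_lit 0x133100133000132f00132e00132d00132c00132b00132a00132900132800132700132600132500132400132300132200132100131e00131d00131c00131b00131a00131900131800131700131600131500131400131300131200131100131000130f00130d00130c00130b00130a0013080013070013060013050013040013030013020013010013000012ff0012fe0012fd0012fc0012fb0012fa0012f90012f80012f70012f60012f50012f40012f30012f20012f10012f00012ef0012ee0012ed0012ec0012eb0012ea0012e90012e80012e70012e60012e50012e40012e30012e20012e10012e00012df0012de0012dd0012dc0012db0012d80012d70012d60012d50012d40012d30012d20012d10012d00012cf0012ce0012cd0012cc0012cb0012ca0012c90012c80012c70012c60012c50012c40012c30012c00012bf0012be0012bd0012bc0012bb0012ba0012b90012b80012b70012b60012b50012b40012b30012b20012b10012b00012af0012ae0012ad0012ac0012ab0012aa else (cT_37_39 j)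
def cT_34_39 (j : ℕ) : ℕ := bif Nat.blt j 36 then (cT_34_36 j) else (cT_36_39 j)
def cT_29_39 (j : ℕ) : ℕ := bif Nat.blt j 34 then (cT_29_34 j) else (cT_34_39 j)
def cT_19_39 (j : ℕ) : ℕ := bif Nat.blt j 29 then (cT_19_29 j) else (cT_29_39 j)
def cT_0_39 (j : ℕ) : ℕ := bif Nat.blt j 19 then (cT_0_19 j) else (cT_19_39 j)
def cT_39_41 (j : ℕ) : ℕ := bif Nat.blt j 40 then nat_lit 0x14bb0014ba0014b90014b80014b70014b60014b50014b40014b30014b20014b10014b00014af0014ae0014ad0014ac0014ab0014aa0014a90014a80014a70014a60014a50014a40014a30014a20014a10014a000149f00149e00149d00149a00149900149800149700149600149500149400149300149000148f00148e00148d00148c00148b00148a00148900148800148700148600148500148400148300148200148100148000147f00147e00147d00147c00147b00147a00147900147800147700147600147500147400147300147200147100147000146f00146e00146d00146c00146b00146a00146900146800146700146600146500146400146300146200146100146000145f00145e00145d00145c00145b00145a00145900145800145700145600145500145400145300145200145100145000144f00144e00144d00144c00144b00144a00144900144800144700144600144500144400144300144200144100144000143f00143e00143d00143c00143b00143a001439001438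 else nat_lit 0x153b00153a00153900153800153700153600153500153400153300153200153100153000152f00152e00152d00152c00152b00152a00152900152800152700152600152500152400152300152200152100152000151f00151e00151d00151c00151b00151a00151900151800151700151600151500151400151300151200151100151000150f00150e00150d00150c00150b00150a0015090015080015070015060015050015040015030015020015010015000014ff0014fe0014fd0014fc0014fb0014fa0014f90014f80014f70014f60014f50014f40014f30014f20014f10014f00014ef0014ee0014ed0014ec0014eb0014ea0014e90014e80014e70014e60014e50014e40014e30014e20014e10014e00014df0014de0014dd0014dc0014db0014da0014d90014d80014d70014d60014d50014d40014d30014d20014d10014d00014cf0014ce0014cd0014cc0014cb0014ca0014c90014c80014c70014c60014c50014c40014c30014c20014c10014c00014bf0014be0014bd0014bc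
def cT_42_44 (j : ℕ) : ℕ := bif Nat.blt j 43 then nat_lit 0x163c00163b00163a00163900163800163700163500163400163300163200163100163000162f00162e00162d00162c00162b00162a00162900162800162700162600162500162400162300162200162100162000161f00161e00161d00161c00161b00161a00161900161800161700161600161500161400161300161200161100161000160f00160e00160d00160c00160b00160a0016090016080016070016060016050016040016030016020016010016000015ff0015fe0015fd0015fc0015fb0015fa0015f90015f80015f70015f60015f50015f40015f30015f20015f10015f00015ef0015ee0015ed0015ec0015eb0015ea0015e90015e80015e70015e60015e50015e40015e30015e20015e10015e00015df0015de0015dd0015dc0015db0015da0015d90015d80015d70015d60015d50015d40015d30015d20015d10015d00015cf0015ce0015cd0015cc0015cb0015ca0015c90015c80015c70015c60015c50015c40015c30015c20015c10015c00015bf0015be0015bd0015bc else nat_lit 0x16bf0016be0016bd0016bc0016bb0016ba0016b90016b80016b70016b60016b50016b40016b30016b20016b10016b00016af0016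ae0016ad0016ac0016ab0016aa0016a90016a80016a70016a60016a50016a40016a30016a20016a10016a000169f00169e00169d00169c00169b00169a00169900169800169700169600169500169400169300169200169100169000168f00168e00168d00168c00168b00168a00168900168800168700168600168500168400168300168200168100168000167f00167e00167d00167c00167b00167a00167900167800167700167600167500167400167300167200167100167000166f00166e00166d00166c00166b00166a00166900166800166700166600166500166400166300166200166100166000165f00165e00165d00165c00165b00165a00165900165800165700165600165500165400165300165200165100165000164f00164e00164d00164c00164b00164a00164800164700164600164500164400164300164200164100164000163d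
def cT_41_44 (j : ℕ) : ℕ := bif Nat.blt j 42 then nat_lit 0x15bb0015ba0015b90015b80015b70015b60015b50015b40015b30015b20015b10015b00015af0015ae0015ad0015ac0015ab0015aa0015a90015a80015a70015a60015a50015a40015a30015a20015a10015a000159f00159e00159d00159c00159b00159a00159900159800159700159600159500159400159300159200159100159000158f00158e00158d00158c00158b00158a00158900158800158700158600158500158400158300158200158100158000157f00157e00157d00157c00157b00157a00157900157800157700157600157500157400157300157200157100157000156f00156e00156d00156c00156b00156a00156900156800156700156600156500156400156300156200156100156000155f00155e00155d00155c00155b00155a00155900155800155700155600155500155400155300155200155100155000154f00154e00154d00154c00154b00154a00154900154800154700154600154500154400154300154200154100154000153f00153e00153d00153c else (cT_42_44 j)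
def cT_39_44 (j : ℕ) : ℕ := bif Nat.blt j 41 then (cT_39_41 j) else (cT_41_44 j)
def cT_44_46 (j : ℕ) : ℕ := bif Nat.blt j 45 then nat_lit 0x174200174100174000173f00173e00173d00173c00173b00173a00173900173800173700173600173500173400173300173200173100173000172f00172e00172d00172c00172b00172a00172900172800172700172500172400172300172200172100172000171f00171e00171d00171c00171b00171a00171900171600171500171400171300171200171100171000170f00170e00170d00170c00170b00170a0017090017080017070017060017050017040017030017020017010017000016ff0016fe0016fd0016fc0016fb0016fa0016f90016f80016f70016f60016f50016f40016f30016f20016f10016f00016ef0016ee0016ed0016ec0016eb0016ea0016e90016e80016e70016e60016e50016e40016e30016e20016e10016e00016df0016de0016dd0016dc0016db0016da0016d90016d80016d70016d60016d50016d40016d30016d20016d10016d00016cf0016ce0016cd0016cc0016cb0016ca0016c90016c80016c70016c60016c50016c40016c30016c20016c10016c0 else nat_lit 0x17c90017c80017c70017c60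017c50017c40017c30017c20017c10017c00017bf0017be0017bd0017bc0017bb0017ba0017b70017b60017b50017b40017b30017b20017b10017b00017ae0017ad0017ab0017aa0017a90017a80017a70017a60017a50017a40017a30017a20017a10017a000179f00179e00179d00179c00179b00179a00179900179800179700179600179500179400179300179200179100179000178f00178e00178d00178c00178b00178a00178900178800178700178600178500178400178300178200178100178000177f00177e00177d00177c00177b00177a00177900177800177700177600177500177400177300177200177100177000176e00176d00176c00176b00176a00176900176800176700176600176500176400176300176200176100176000175f00175e00175d00175c00175b00175a00175900175800175700175600175500175400175200175100175000174f00174e00174d00174c00174a001749001748001747001746001745001744001743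
def cT_47_49 (j : ℕ) : ℕ := bif Nat.blt j 48 then nat_lit 0x18cc0018cb0018ca0018c90018c80018c70018c60018c50018c40018c30018c20018c10018c00018bf0018be0018bd0018bc0018bb0018ba0018b90018b80018b70018b60018b50018b40018b30018b20018b10018b00018af0018ae0018ad0018ac0018ab0018aa0018a90018a80018a70018a40018a30018a20018a10018a000189f00189e00189d00189c00189b00189a00189900189800189700189600189500189400189300189200189100189000188f00188e00188d00188c00188b00188a00188900188800188700188600188500188400188300188200188100188000187f00187e00187d00187c00187b00187a00187900187800187700187600187500187400187300187200187100187000186f00186e00186d00186c00186b00186a00186900186800186700186600186500186400186300186200186100186000185f00185e00185d00185c00185b00185a00185900185800185700185600185500185400185300185200185100185000184f00184e00184d00184c00184b else nat_lit 0x195000194f00194e00194d00194c00194b00194a0019490019480019470019460019450019440019430019420019410019400019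3f00193e00193d00193c00193b00193a00193900193800193700193600193500193400193300193200193100193000192f00192e00192d00192c00192b00192a00192900192800192700192400192300192200192100192000191f00191e00191d00191c00191b00191800191700191600191500191400191300191200191100191000190f00190e00190d00190c00190b00190a0019090019080019070019060019050019040019030019020019010019000018ff0018fe0018fd0018fc0018fb0018fa0018f90018f80018f70018f60018f50018f40018f30018f20018f10018f00018ef0018ee0018ed0018ec0018eb0018ea0018e90018e80018e70018e60018e50018e40018e30018e20018e10018e00018df0018de0018dd0018dc0018db0018da0018d90018d80018d70018d60018d50018d40018d30018d20018d10018d00018cf0018ce0018cd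
def cT_46_49 (j : ℕ) : ℕ := bif Nat.blt j 47 then nat_lit 0x184a00184900184800184700184600184500184400184300184200184100184000183f00183e00183d00183c00183b00183a00183900183800183700183600183500183400183300183200183100183000182f00182e00182d00182c00182b00182a00182900182800182700182600182500182400182300182100182000181f00181e00181d00181c00181b00181a00181900181800181700181600181500181400181300181200181100181000180f00180e00180d00180c00180b00180a0018090018080018070018060018050018040018030018020018010018000017ff0017fe0017fd0017fc0017fb0017fa0017f90017f80017f70017f60017f50017f40017f30017f20017f10017f00017ef0017ee0017ed0017ec0017eb0017ea0017e90017e80017e70017e60017e50017e40017e30017e20017e10017e00017df0017de0017dd0017dc0017db0017da0017d90017d80017d70017d60017d50017d40017d30017d20017d10017d00017cf0017ce0017cd0017cc0017cb0017ca else (cT_47_49 j)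
def cT_44_49 (j : ℕ) : ℕ := bif Nat.blt j 46 then (cT_44_46 j) else (cT_46_49 j)
def cT_39_49 (j : ℕ) : ℕ := bif Nat.blt j 44 then (cT_39_44 j) else (cT_44_49 j)
def cT_49_51 (j : ℕ) : ℕ := bif Nat.blt j 50 then nat_lit 0x19d00019cf0019ce0019cd0019cc0019cb0019ca0019c90019c80019c70019c60019c50019c40019c30019c20019c10019c00019bf0019be0019bd0019bc0019bb0019ba0019b90019b80019b70019b60019b50019b40019b30019b20019b10019b00019af0019ae0019ad0019ac0019ab0019aa0019a90019a80019a70019a60019a50019a40019a30019a20019a10019a000199f00199e00199d00199c00199b00199a00199900199800199700199600199500199400199300199200199100199000198f00198e00198d00198c00198b00198a00198900198800198700198600198500198400198300198200198100198000197f00197e00197d00197c00197b00197a00197900197800197700197600197500197400197300197200197100197000196f00196e00196d00196c00196b00196a00196900196800196700196600196500196400196300196200196100196000195f00195e00195d00195c00195b00195a001959001958001957001956001955001954001953001952001951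 else nat_lit 0x1a50001a4f001a4e001a4d001a4c001a4b001a4a001a49001a48001a47001a46001a45001a44001a43001a42001a41001a40001a3f001a3e001a3d001a3c001a3b001a3a001a39001a38001a37001a36001a35001a34001a33001a32001a31001a30001a2f001a2e001a2d001a2c001a2b001a2a001a29001a28001a27001a26001a25001a24001a23001a22001a21001a20001a1f001a1e001a1d001a1c001a1b001a1a001a19001a18001a17001a16001a15001a14001a13001a12001a11001a10001a0f001a0e001a0d001a0c001a0b001a0a001a09001a08001a07001a06001a05001a04001a03001a02001a01001a000019ff0019fe0019fd0019fc0019fb0019fa0019f90019f80019f70019f60019f50019f40019f30019f20019f10019f00019ef0019ee0019ed0019ec0019eb0019ea0019e90019e80019e70019e60019e50019e40019e30019e20019e10019e00019df0019de0019dd0019dc0019db0019da0019d90019d80019d70019d60019d50019d40019d30019d20019d1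
def cT_52_54 (j : ℕ) : ℕ := bif Nat.blt j 53 then nat_lit 0x1b50001b4f001b4e001b4d001b4c001b4b001b4a001b49001b48001b47001b46001b45001b44001b43001b42001b41001b40001b3f001b3e001b3d001b3c001b3b001b3a001b39001b38001b37001b36001b35001b34001b33001b32001b31001b30001b2f001b2e001b2d001b2c001b2b001b2a001b29001b28001b27001b26001b25001b24001b23001b22001b21001b20001b1f001b1e001b1d001b1c001b1b001b1a001b19001b18001b17001b16001b15001b14001b13001b12001b11001b10001b0f001b0e001b0d001b0c001b0b001b0a001b09001b08001b07001b06001b05001b04001b03001b02001b01001b00001aff001afe001afd001afc001afb001afa001af9001af8001af7001af6001af5001af4001af3001af2001af1001af0001aef001aee001aed001aec001aeb001aea001ae9001ae8001ae7001ae6001ae5001ae4001ae3001ae2001ae1001ae0001adf001ade001add001adc001adb001ada001ad9001ad8001ad7001ad6001ad5001ad4001ad3001ad2001ad1 else nat_lit 0x1bd0001bcf001bce001bcd001bcc001bcb001bca001bc9001bc8001bc7001bc6001bc5001bc4001bc3001bc2001bc1001bc0001b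bf001bbe001bbd001bbc001bbb001bba001bb9001bb8001bb7001bb6001bb5001bb4001bb3001bb2001bb1001bb0001baf001bae001bad001bac001bab001baa001ba9001ba8001ba7001ba6001ba5001ba4001ba3001ba2001ba1001ba0001b9f001b9e001b9d001b9c001b9b001b9a001b99001b98001b97001b96001b95001b94001b93001b92001b91001b90001b8f001b8e001b8d001b8c001b8b001b8a001b89001b88001b87001b86001b85001b84001b83001b82001b81001b80001b7f001b7e001b7d001b7c001b7b001b7a001b79001b78001b77001b76001b75001b74001b73001b72001b71001b70001b6f001b6e001b6d001b6c001b6b001b6a001b69001b68001b67001b66001b65001b64001b63001b62001b61001b60001b5f001b5e001b5d001b5c001b5b001b5a001b59001b58001b57001b56001b55001b54001b53001b52001b51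
def cT_51_54 (j : ℕ) : ℕ := bif Nat.blt j 52 then nat_lit 0x1ad0001acf001ace001acd001acc001acb001aca001ac9001ac8001ac7001ac6001ac5001ac4001ac3001ac2001ac1001ac0001abf001abe001abd001abc001abb001aba001ab9001ab8001ab7001ab6001ab5001ab4001ab3001ab2001ab1001ab0001aaf001aae001aad001aac001aab001aaa001aa9001aa8001aa7001aa6001aa5001aa4001aa3001aa2001aa1001aa0001a9f001a9e001a9d001a9c001a9b001a9a001a99001a98001a97001a96001a95001a94001a93001a92001a91001a90001a8f001a8e001a8d001a8c001a8b001a8a001a89001a88001a87001a86001a85001a84001a83001a82001a81001a80001a7f001a7e001a7d001a7c001a7b001a7a001a79001a78001a77001a76001a75001a74001a73001a72001a71001a70001a6f001a6e001a6d001a6c001a6b001a6a001a69001a68001a67001a66001a65001a64001a63001a62001a61001a60001a5f001a5e001a5d001a5c001a5b001a5a001a59001a58001a57001a56001a55001a54001a53001a52001a51 else (cT_52_54 j)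
def cT_49_54 (j : ℕ) : ℕ := bif Nat.blt j 51 then (cT_49_51 j) else (cT_51_54 j)
def cT_54_56 (j : ℕ) : ℕ := bif Nat.blt j 55 then nat_lit 0x1c50001c4f001c4e001c4d001c4c001c4b001c4a001c49001c48001c47001c46001c45001c44001c43001c42001c41001c40001c3f001c3e001c3d001c3c001c3b001c3a001c39001c38001c37001c36001c35001c34001c33001c32001c31001c30001c2f001c2e001c2d001c2c001c2b001c2a001c29001c28001c27001c26001c25001c24001c23001c22001c21001c20001c1f001c1e001c1d001c1c001c1b001c1a001c19001c18001c17001c16001c15001c14001c13001c12001c11001c10001c0f001c0e001c0d001c0c001c0b001c0a001c09001c08001c07001c06001c05001c04001c03001c02001c01001c00001bff001bfe001bfd001bfc001bfb001bfa001bf9001bf8001bf7001bf6001bf5001bf4001bf3001bf2001bf1001bf0001bef001bee001bed001bec001beb001bea001be9001be8001be7001be6001be5001be4001be3001be2001be1001be0001bdf001bde001bdd001bdc001bdb001bda001bd9001bd8001bd7001bd6001bd5001bd4001bd3001bd2001bd1 else nat_lit 0x1cd0001ccf001cce001ccd0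01ccc001ccb001cca001cc9001cc8001cc7001cc6001cc5001cc4001cc3001cc2001cc1001cc0001cbf001cbe001cbd001cbc001cbb001cba001cb9001cb8001cb7001cb6001cb5001cb4001cb3001cb2001cb1001cb0001caf001cae001cad001cac001cab001caa001ca9001ca8001ca7001ca6001ca5001ca4001ca3001ca2001ca1001ca0001c9f001c9e001c9d001c9c001c9b001c9a001c99001c98001c97001c96001c95001c94001c93001c92001c91001c90001c8f001c8e001c8d001c8c001c8b001c8a001c89001c88001c87001c86001c85001c84001c83001c82001c81001c80001c7f001c7e001c7d001c7c001c7b001c7a001c79001c78001c77001c76001c75001c74001c73001c72001c71001c70001c6f001c6e001c6d001c6c001c6b001c6a001c69001c68001c67001c66001c65001c64001c63001c62001c61001c60001c5f001c5e001c5d001c5c001c5b001c5a001c59001c58001c57001c56001c55001c54001c53001c52001c51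
def cT_57_59 (j : ℕ) : ℕ := bif Nat.blt j 58 then nat_lit 0x1dd0001dcf001dce001dcd001dcc001dcb001dca001dc9001dc8001dc7001dc6001dc5001dc4001dc3001dc2001dc1001dc0001dbf001dbe001dbd001dbc001dbb001dba001db9001db8001db7001db6001db5001db4001db3001db2001db1001db0001daf001dae001dad001dac001dab001daa001da9001da8001da7001da6001da5001da4001da3001da2001da1001da0001d9f001d9e001d9d001d9c001d9b001d9a001d99001d98001d97001d96001d95001d94001d93001d92001d91001d90001d8f001d8e001d8d001d8c001d8b001d8a001d89001d88001d87001d86001d85001d84001d83001d82001d81001d80001d7f001d7e001d7d001d7c001d7b001d7a001d79001d78001d77001d76001d75001d74001d73001d72001d71001d70001d6f001d6e001d6d001d6c001d6b001d6a001d69001d68001d67001d66001d65001d64001d63001d62001d61001d60001d5f001d5e001d5d001d5c001d5b001d5a001d59001d58001d57001d56001d55001d54001d53001d52001d51 else nat_lit 0x1e50001e4f001e4e001e4d001e4c001e4b001e4a001e49001e48001e47001e46001e45001e44001e43001e42001e41001e40001e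3f001e3e001e3d001e3c001e3b001e3a001e39001e38001e37001e36001e35001e34001e33001e32001e31001e30001e2f001e2e001e2d001e2c001e2b001e2a001e29001e28001e27001e26001e25001e24001e23001e22001e21001e20001e1f001e1e001e1d001e1c001e1b001e1a001e19001e18001e17001e16001e15001e14001e13001e12001e11001e10001e0f001e0e001e0d001e0c001e0b001e0a001e09001e08001e07001e06001e05001e04001e03001e02001e01001e00001dff001dfe001dfd001dfc001dfb001dfa001df9001df8001df7001df6001df5001df4001df3001df2001df1001df0001def001dee001ded001dec001deb001dea001de9001de8001de7001de6001de5001de4001de3001de2001de1001de0001ddf001dde001ddd001ddc001ddb001dda001dd9001dd8001dd7001dd6001dd5001dd4001dd3001dd2001dd1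
def cT_56_59 (j : ℕ) : ℕ := bif Nat.blt j 57 then nat_lit 0x1d50001d4f001d4e001d4d001d4c001d4b001d4a001d49001d48001d47001d46001d45001d44001d43001d42001d41001d40001d3f001d3e001d3d001d3c001d3b001d3a001d39001d38001d37001d36001d35001d34001d33001d32001d31001d30001d2f001d2e001d2d001d2c001d2b001d2a001d29001d28001d27001d26001d25001d24001d23001d22001d21001d20001d1f001d1e001d1d001d1c001d1b001d1a001d19001d18001d17001d16001d15001d14001d13001d12001d11001d10001d0f001d0e001d0d001d0c001d0b001d0a001d09001d08001d07001d06001d05001d04001d03001d02001d01001d00001cff001cfe001cfd001cfc001cfb001cfa001cf9001cf8001cf7001cf6001cf5001cf4001cf3001cf2001cf1001cf0001cef001cee001ced001cec001ceb001cea001ce9001ce8001ce7001ce6001ce5001ce4001ce3001ce2001ce1001ce0001cdf001cde001cdd001cdc001cdb001cda001cd9001cd8001cd7001cd6001cd5001cd4001cd3001cd2001cd1 else (cT_57_59 j)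
def cT_54_59 (j : ℕ) : ℕ := bif Nat.blt j 56 then (cT_54_56 j) else (cT_56_59 j)
def cT_49_59 (j : ℕ) : ℕ := bif Nat.blt j 54 then (cT_49_54 j) else (cT_54_59 j)
def cT_39_59 (j : ℕ) : ℕ := bif Nat.blt j 49 then (cT_39_49 j) else (cT_49_59 j)
def cT_59_61 (j : ℕ) : ℕ := bif Nat.blt j 60 then nat_lit 0x1ed0001ecf001ece001ecd001ecc001ecb001eca001ec9001ec8001ec7001ec6001ec5001ec4001ec3001ec2001ec1001ec0001ebf001ebe001ebd001ebc001ebb001eba001eb9001eb8001eb7001eb6001eb5001eb4001eb3001eb2001eb1001eb0001eaf001eae001ead001eac001eab001eaa001ea9001ea8001ea7001ea6001ea5001ea4001ea3001ea2001ea1001ea0001e9f001e9e001e9d001e9c001e9b001e9a001e99001e98001e97001e96001e95001e94001e93001e92001e91001e90001e8f001e8e001e8d001e8c001e8b001e8a001e89001e88001e87001e86001e85001e84001e83001e82001e81001e80001e7f001e7e001e7d001e7c001e7b001e7a001e79001e78001e77001e76001e75001e74001e73001e72001e71001e70001e6f001e6e001e6d001e6c001e6b001e6a001e69001e68001e67001e66001e65001e64001e63001e62001e61001e60001e5f001e5e001e5d001e5c001e5b001e5a001e59001e58001e57001e56001e55001e54001e53001e52001e51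 else nat_lit 0x1f50001f4f001f4e001f4d001f4c001f4b001f4a001f49001f48001f47001f46001f45001f44001f43001f42001f41001f40001f3f001f3e001f3d001f3c001f3b001f3a001f39001f38001f37001f36001f35001f34001f33001f32001f31001f30001f2f001f2e001f2d001f2c001f2b001f2a001f29001f28001f27001f26001f25001f24001f23001f22001f21001f20001f1f001f1e001f1d001f1c001f1b001f1a001f19001f18001f17001f16001f15001f14001f13001f12001f11001f10001f0f001f0e001f0d001f0c001f0b001f0a001f09001f08001f07001f06001f05001f04001f03001f02001f01001f00001eff001efe001efd001efc001efb001efa001ef9001ef8001ef7001ef6001ef5001ef4001ef3001ef2001ef1001ef0001eef001eee001eed001eec001eeb001eea001ee9001ee8001ee7001ee6001ee5001ee4001ee3001ee2001ee1001ee0001edf001ede001edd001edc001edb001eda001ed9001ed8001ed7001ed6001ed5001ed4001ed3001ed2001ed1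
def cT_62_64 (j : ℕ) : ℕ := bif Nat.blt j 63 then nat_lit 0x205100205000204f00204e00204d00204c00204b00204a00204900204800204700204600204500204400204300204200204100204000203f00203e00203d00203c00203b00203a00203900203800203700203600203500203400203300203200203100203000202f00202e00202d00202c00202b00202a00202900202800202700202600202500202400202300202200202100202000201f00201e00201d00201c00201b00201a00201900201800201700201600201500201400201300201200201100201000200f00200e00200d00200c00200b00200a002009002008002007002006002005002004002003002002002001002000001fff001ffe001ffd001ffc001ffb001ffa001ff9001ff8001ff7001ff6001ff5001ff4001ff3001ff2001ff1001ff0001fef001fee001fed001fec001feb001fea001fe9001fe8001fe7001fe6001fe5001fe4001fe3001fe2001fe1001fe0001fdf001fde001fdd001fdc001fdb001fda001fd9001fd8001fd7001fd6001fd5001fd4001fd3001fd2 else nat_lit 0x20d10020d00020cf0020ce0020cd0020cc0020cb0020ca0020c90020c80020c70020c60020c50020c40020c30020c20020c10020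c00020bf0020be0020bd0020bc0020bb0020ba0020b90020b80020b70020b60020b50020b40020b30020b20020b10020b00020af0020ae0020ad0020ac0020ab0020aa0020a90020a80020a70020a60020a50020a40020a30020a20020a10020a000209f00209e00209d00209c00209b00209a00209900209800209700209600209500209400209300209200209100209000208f00208e00208d00208c00208b00208a00208900208800208700208600208500208400208300208200208100208000207f00207e00207d00207c00207b00207a00207900207800207700207600207500207400207300207200207100207000206f00206e00206d00206c00206b00206a00206900206800206700206600206500206400206300206200206100206000205f00205e00205d00205c00205b00205a002059002058002057002056002055002054002053002052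
def cT_61_64 (j : ℕ) : ℕ := bif Nat.blt j 62 then nat_lit 0x1fd1001fd0001fcf001fce001fcd001fcb001fca001fc9001fc8001fc7001fc6001fc5001fc4001fc3001fc2001fc1001fc0001fbf001fbe001fbd001fbc001fbb001fba001fb9001fb8001fb7001fb6001fb5001fb4001fb3001fb2001fb1001fb0001faf001fae001fad001fac001fab001faa001fa9001fa8001fa7001fa6001fa5001fa4001fa3001fa2001fa1001fa0001f9f001f9e001f9d001f9c001f9b001f9a001f99001f98001f97001f96001f95001f94001f93001f92001f91001f90001f8f001f8e001f8d001f8c001f8b001f8a001f89001f88001f87001f86001f85001f84001f83001f82001f81001f80001f7f001f7e001f7d001f7c001f7b001f7a001f79001f78001f77001f76001f75001f74001f73001f72001f71001f70001f6f001f6e001f6d001f6c001f6b001f6a001f69001f68001f67001f66001f65001f64001f63001f62001f61001f60001f5f001f5e001f5d001f5c001f5b001f5a001f59001f58001f57001f56001f55001f54001f53001f52001f51 else (cT_62_64 j)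
def cT_59_64 (j : ℕ) : ℕ := bif Nat.blt j 61 then (cT_59_61 j) else (cT_61_64 j)
def cT_64_66 (j : ℕ) : ℕ := bif Nat.blt j 65 then nat_lit 0x215100215000214f00214e00214d00214c00214b00214a00214900214800214700214600214500214400214300214200214100214000213f00213e00213d00213c00213b00213a00213900213800213700213600213500213400213300213200213100213000212f00212e00212d00212c00212b00212a00212900212800212700212600212500212400212300212200212100212000211f00211e00211d00211c00211b00211a00211900211800211700211600211500211400211300211200211100211000210f00210e00210d00210c00210b00210a0021090021080021070021060021050021040021030021020021010021000020ff0020fe0020fd0020fc0020fb0020fa0020f90020f80020f70020f60020f50020f40020f30020f20020f10020f00020ef0020ee0020ed0020ec0020eb0020ea0020e90020e80020e70020e60020e50020e40020e30020e20020e10020e00020df0020de0020dd0020dc0020db0020da0020d90020d80020d70020d60020d50020d40020d30020d2 else nat_lit 0x21d10021d00021cf0021ce0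021cd0021cc0021cb0021ca0021c90021c80021c70021c60021c50021c40021c30021c20021c10021c00021bf0021be0021bd0021bc0021bb0021ba0021b90021b80021b70021b60021b50021b40021b30021b20021b10021b00021af0021ae0021ad0021ac0021ab0021aa0021a90021a80021a70021a60021a50021a40021a30021a20021a10021a000219f00219e00219d00219c00219b00219a00219900219800219700219600219500219400219300219200219100219000218f00218e00218d00218c00218b00218a00218900218800218700218600218500218400218300218200218100218000217f00217e00217d00217c00217b00217a00217900217800217700217600217500217400217300217200217100217000216f00216e00216d00216c00216b00216a00216900216800216700216600216500216400216300216200216100216000215f00215e00215d00215c00215b00215a002159002158002157002156002155002154002153002152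
def cT_67_69 (j : ℕ) : ℕ := bif Nat.blt j 68 then nat_lit 0x22d10022d00022cf0022ce0022cd0022cc0022cb0022ca0022c90022c80022c70022c60022c50022c40022c30022c20022c10022c00022bf0022be0022bd0022bc0022bb0022ba0022b90022b80022b70022b60022b50022b40022b30022b20022b10022b00022af0022ae0022ad0022ac0022ab0022aa0022a90022a80022a70022a60022a50022a40022a30022a20022a10022a000229f00229e00229d00229c00229b00229a00229900229800229700229600229500229400229300229200229100229000228f00228e00228d00228c00228b00228a00228900228800228700228600228500228400228300228200228100228000227f00227e00227d00227c00227b00227a00227900227800227700227600227500227400227300227200227100227000226f00226e00226d00226c00226b00226a00226900226800226700226600226500226400226300226200226100226000225f00225e00225d00225c00225b00225a002259002258002257002256002255002254002253002252 else nat_lit 0x235100235000234f00234e00234d00234c00234b00234a0023490023480023470023460023450023440023430023420023410023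4000233f00233e00233d00233c00233b00233a00233900233800233700233600233500233400233300233200233100233000232f00232e00232d00232c00232b00232a00232900232800232700232600232500232400232300232200232100232000231f00231e00231d00231c00231b00231a00231900231800231700231600231500231400231300231200231100231000230f00230e00230d00230c00230b00230a0023090023080023070023060023050023040023030023020023010023000022ff0022fe0022fd0022fc0022fb0022fa0022f90022f80022f70022f60022f50022f40022f30022f20022f10022f00022ef0022ee0022ed0022ec0022eb0022ea0022e90022e80022e70022e60022e50022e40022e30022e20022e10022e00022df0022de0022dd0022dc0022db0022da0022d90022d80022d70022d60022d50022d40022d30022d2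
def cT_66_69 (j : ℕ) : ℕ := bif Nat.blt j 67 then nat_lit 0x225100225000224f00224e00224d00224c00224b00224a00224900224800224700224600224500224400224300224200224100224000223f00223e00223d00223c00223b00223a00223900223800223700223600223500223400223300223200223100223000222f00222e00222d00222c00222b00222a00222900222800222700222600222500222400222300222200222100222000221f00221e00221d00221c00221b00221a00221900221800221700221600221500221400221300221200221100221000220f00220e00220d00220c00220b00220a0022090022080022070022060022050022040022030022020022010022000021ff0021fe0021fd0021fc0021fb0021fa0021f90021f80021f70021f60021f50021f40021f30021f20021f10021f00021ef0021ee0021ed0021ec0021eb0021ea0021e90021e80021e70021e60021e50021e40021e30021e20021e10021e00021df0021de0021dd0021dc0021db0021da0021d90021d80021d70021d60021d50021d40021d30021d2 else (cT_67_69 j)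
def cT_64_69 (j : ℕ) : ℕ := bif Nat.blt j 66 then (cT_64_66 j) else (cT_66_69 j)
def cT_59_69 (j : ℕ) : ℕ := bif Nat.blt j 64 then (cT_59_64 j) else (cT_64_69 j)
def cT_69_71 (j : ℕ) : ℕ := bif Nat.blt j 70 then nat_lit 0x23d10023d00023cf0023ce0023cd0023cc0023cb0023ca0023c90023c80023c70023c60023c50023c40023c30023c20023c10023c00023bf0023be0023bd0023bc0023bb0023ba0023b90023b80023b70023b60023b50023b40023b30023b20023b10023b00023af0023ae0023ad0023ac0023ab0023aa0023a90023a80023a70023a60023a50023a40023a30023a20023a10023a000239f00239e00239d00239c00239b00239a00239900239800239700239600239500239400239300239200239100239000238f00238e00238d00238c00238b00238a00238900238800238700238600238500238400238300238200238100238000237f00237e00237d00237c00237b00237a00237900237800237700237600237500237400237300237200237100237000236f00236e00236d00236c00236b00236a00236900236800236700236600236500236400236300236200236100236000235f00235e00235d00235c00235b00235a002359002358002357002356002355002354002353002352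 else nat_lit 0x245100245000244f00244e00244d00244c00244b00244a00244900244800244700244600244500244400244300244200244100244000243f00243e00243d00243c00243b00243a00243900243800243700243600243500243400243300243200243100243000242f00242e00242d00242c00242b00242a00242900242800242700242600242500242400242300242200242100242000241f00241e00241d00241c00241b00241a00241900241800241700241600241500241400241300241200241100241000240f00240e00240d00240c00240b00240a0024090024080024070024060024050024040024030024020024010024000023ff0023fe0023fd0023fc0023fb0023fa0023f90023f80023f70023f60023f50023f40023f30023f20023f10023f00023ef0023ee0023ed0023ec0023eb0023ea0023e90023e80023e70023e60023e50023e40023e30023e20023e10023e00023df0023de0023dd0023dc0023db0023da0023d90023d80023d70023d60023d50023d40023d30023d2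
def cT_72_74 (j : ℕ) : ℕ := bif Nat.blt j 73 then nat_lit 0x255100255000254f00254e00254d00254c00254b00254a00254900254800254700254600254500254400254300254200254100254000253f00253e00253d00253c00253b00253a00253900253800253700253600253500253400253300253200253100253000252f00252e00252d00252c00252b00252a00252900252800252700252600252500252400252300252200252100252000251f00251e00251d00251c00251b00251a00251900251800251700251600251500251400251300251200251100251000250f00250e00250d00250c00250b00250a0025090025080025070025060025050025040025030025020025010025000024ff0024fe0024fd0024fc0024fb0024fa0024f90024f80024f70024f60024f50024f40024f30024f20024f10024f00024ef0024ee0024ed0024ec0024eb0024ea0024e90024e80024e70024e60024e50024e40024e30024e20024e10024e00024df0024de0024dd0024dc0024db0024da0024d90024d80024d70024d60024d50024d40024d30024d2 else nat_lit 0x25d10025d00025cf0025ce0025cd0025cc0025cb0025ca0025c90025c80025c70025c60025c50025c40025c30025c20025c10025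c00025bf0025be0025bd0025bc0025bb0025ba0025b90025b80025b70025b60025b50025b40025b30025b20025b10025b00025af0025ae0025ad0025ac0025ab0025aa0025a90025a80025a70025a60025a50025a40025a30025a20025a10025a000259f00259e00259d00259c00259b00259a00259900259800259700259600259500259400259300259200259100259000258f00258e00258d00258c00258b00258a00258900258800258700258600258500258400258300258200258100258000257f00257e00257d00257c00257b00257a00257900257800257700257600257500257400257300257200257100257000256f00256e00256d00256c00256b00256a00256900256800256700256600256500256400256300256200256100256000255f00255e00255d00255c00255b00255a002559002558002557002556002555002554002553002552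
def cT_71_74 (j : ℕ) : ℕ := bif Nat.blt j 72 then nat_lit 0x24d10024d00024cf0024ce0024cd0024cc0024cb0024ca0024c90024c80024c70024c60024c50024c40024c30024c20024c10024c00024bf0024be0024bd0024bc0024bb0024ba0024b90024b80024b70024b60024b50024b40024b30024b20024b10024b00024af0024ae0024ad0024ac0024ab0024aa0024a90024a80024a70024a60024a50024a40024a30024a20024a10024a000249f00249e00249d00249c00249b00249a00249900249800249700249600249500249400249300249200249100249000248f00248e00248d00248c00248b00248a00248900248800248700248600248500248400248300248200248100248000247f00247e00247d00247c00247b00247a00247900247800247700247600247500247400247300247200247100247000246f00246e00246d00246c00246b00246a00246900246800246700246600246500246400246300246200246100246000245f00245e00245d00245c00245b00245a002459002458002457002456002455002454002453002452 else (cT_72_74 j)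
def cT_69_74 (j : ℕ) : ℕ := bif Nat.blt j 71 then (cT_69_71 j) else (cT_71_74 j)
def cT_74_76 (j : ℕ) : ℕ := bif Nat.blt j 75 then nat_lit 0x265100265000264f00264e00264d00264c00264b00264a00264900264800264700264600264500264400264300264200264100264000263f00263e00263d00263c00263b00263a00263900263800263700263600263500263400263300263200263100263000262f00262e00262d00262c00262b00262a00262900262800262700262600262500262400262300262200262100262000261f00261e00261d00261c00261b00261a00261900261800261700261600261500261400261300261200261100261000260f00260e00260d00260c00260b00260a0026090026080026070026060026050026040026030026020026010026000025ff0025fe0025fd0025fc0025fb0025fa0025f90025f80025f70025f60025f50025f40025f30025f20025f10025f00025ef0025ee0025ed0025ec0025eb0025ea0025e90025e80025e70025e60025e50025e40025e30025e20025e10025e00025df0025de0025dd0025dc0025db0025da0025d90025d80025d70025d60025d50025d40025d30025d2 else nat_lit 0x26d10026d00026cf0026ce0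026cd0026cc0026cb0026ca0026c90026c80026c70026c60026c50026c40026c30026c20026c10026c00026bf0026be0026bd0026bc0026bb0026ba0026b90026b80026b70026b60026b50026b40026b30026b20026b10026b00026af0026ae0026ad0026ac0026ab0026aa0026a90026a80026a70026a60026a50026a40026a30026a20026a10026a000269f00269e00269d00269c00269b00269a00269900269800269700269600269500269400269300269200269100269000268f00268e00268d00268c00268b00268a00268900268800268700268600268500268400268300268200268100268000267f00267e00267d00267c00267b00267a00267900267800267700267600267500267400267300267200267100267000266f00266e00266d00266c00266b00266a00266900266800266700266600266500266400266300266200266100266000265f00265e00265d00265c00265b00265a002659002658002657002656002655002654002653002652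
def cT_77_79 (j : ℕ) : ℕ := bif Nat.blt j 78 then nat_lit 0x27d10027d00027cf0027ce0027cd0027cc0027cb0027ca0027c90027c80027c70027c60027c50027c40027c30027c20027c10027c00027bf0027be0027bd0027bc0027bb0027ba0027b90027b80027b70027b60027b50027b40027b30027b20027b10027b00027af0027ae0027ad0027ac0027ab0027aa0027a90027a80027a70027a60027a50027a40027a30027a20027a10027a000279f00279e00279d00279c00279b00279a00279900279800279700279600279500279400279300279200279100279000278f00278e00278d00278c00278b00278a00278900278800278700278600278500278400278300278200278100278000277f00277e00277d00277c00277b00277a00277900277800277700277600277500277400277300277200277100277000276f00276e00276d00276c00276b00276a00276900276800276700276600276500276400276300276200276100276000275f00275e00275d00275c00275b00275a002759002758002757002756002755002754002753002752 else nat_lit 0x283100283000282f00282e00282d00282c00282b00282a00282900282800282700282600282500282400282300282200282100282000281f00281e00281d00281c00281b00281a00281900281800281700281600281500281400281300281200281100281000280f00280e00280d00280c00280b00280a0028090028080028070028060028050028040028030028020028010028000027ff0027fe0027fd0027fc0027fb0027fa0027f90027f80027f70027f60027f50027f40027f30027f20027f10027f00027ef0027ee0027ed0027ec0027eb0027ea0027e90027e80027e70027e60027e50027e40027e30027e20027e10027e00027df0027de0027dd0027dc0027db0027da0027d90027d80027d70027d60027d50027d40027d30027d2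
def cT_76_79 (j : ℕ) : ℕ := bif Nat.blt j 77 then nat_lit 0x275100275000274f00274e00274d00274c00274b00274a00274900274800274700274600274500274400274300274200274100274000273f00273e00273d00273c00273b00273a00273900273800273700273600273500273400273300273200273100273000272f00272e00272d00272c00272b00272a00272900272800272700272600272500272400272300272200272100272000271f00271e00271d00271c00271b00271a00271900271800271700271600271500271400271300271200271100271000270f00270e00270d00270c00270b00270a0027090027080027070027060027050027040027030027020027010027000026ff0026fe0026fd0026fc0026fb0026fa0026f90026f80026f70026f60026f50026f40026f30026f20026f10026f00026ef0026ee0026ed0026ec0026eb0026ea0026e90026e80026e70026e60026e50026e40026e30026e20026e10026e00026df0026de0026dd0026dc0026db0026da0026d90026d80026d70026d60026d50026d40026d30026d2 else (cT_77_79 j)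
def cT_74_79 (j : ℕ) : ℕ := bif Nat.blt j 76 then (cT_74_76 j) else (cT_76_79 j)
def cT_69_79 (j : ℕ) : ℕ := bif Nat.blt j 74 then (cT_69_74 j) else (cT_74_79 j)
def cT_59_79 (j : ℕ) : ℕ := bif Nat.blt j 69 then (cT_59_69 j) else (cT_69_79 j)
def cT_39_79 (j : ℕ) : ℕ := bif Nat.blt j 59 then (cT_39_59 j) else (cT_59_79 j)
def cT_0_79 (j : ℕ) : ℕ := bif Nat.blt j 39 then (cT_0_39 j) else (cT_39_79 j)
def cT (j : ℕ) : ℕ := (cT_0_79 j)
noncomputable def cChunk (h : ℕ) : ℕ := Nat.rec (motive := fun _ => ℕ) (cT 0) (fun n _ => cT (Nat.succ n)) h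
noncomputable def cF (i : ℕ) : ℕ := Nat.land (Nat.shiftRight (cChunk (Nat.shiftRight i 7)) (Nat.mul (Nat.land i 127) 24)) 16777215
theorem cF_lt (i : ℕ) : cF i < 16777216 := land24_lt _
theorem cF_zero : cF 0 = 0 := by decide +kernel
def nDef : ℕ := 10289
def nEv : ℕ := 31276
def nW : ℕ := 653
def N : ℕ := 10080
def ys : List ℕ := [nat_lit 0, nat_lit 1, nat_lit 2, nat_lit 3, nat_lit 4, nat_lit 5]
end Cfsg.Agent.Lib.ToddCox.A82T
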