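import Cfsg.Agent.Lib.ToddCox.A82T.Tab
set_option autoImplicit false
set_option maxRecDepth 100000
namespace Cfsg.Agent.Lib.ToddCox.A82T
theorem a6 : allBits chkAll 10 6144 = true := by decide +kernel
theorem a7 : allBits chkAll 10 7168 = true := by decide +kernel
theorem a8 : allBits chkAll 10 8192 = true := by decide +kernel
theorem a9 : allBits chkAll 10 9216 = true := by decide +kernel
end Cfsg.Agent.Lib.ToddCox.A82T
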